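import Mathlib
import Cfsg.Prelude.Def_FusionSystem

set_option autoImplicit false

namespace Cfsg.Agent.H85

/-- In `ZMod (2 ^ K)`, an element with an odd power equal to one is one. -/
theorem zmod_two_pow_eq_one_of_odd_pow (K : ℕ) (u : ZMod (2 ^ K)) (N : ℕ) (hN : Odd N)
    (hu : u ^ N = 1) : u = 1 := by
  haveI : NeZero (2 ^ K) := ⟨by positivity⟩
  rcases Nat.eq_zero_or_pos K with hK | hK
  · subst hK
    haveI : Subsingleton (ZMod (2 ^ 0)) := by
      rw [pow_zero]; infer_instance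
    exact Subsingleton.elim _ _
  obtain ⟨N', rfl⟩ := hN
  have hunit : IsUnit u := by
    refine IsUnit.of_mul_eq_one (u ^ (2 * N')) ?_
    rw [← pow_succ']; exact hu
  obtain ⟨v, rfl⟩ := hunit
  have hv : v ^ (2 * N' + 1) = 1 := by
    apply Units.ext
    rw [Units.val_pow_eq_pow_val]; exact hu
  have hcard : Nat.card (ZMod (2 ^ K))ˣ = 2 ^ (K - 1) := by
    rw [Nat.card_eq_fintype_card, ZMod.card_units_eq_totient, Nat.totient_prime_pow Nat.prime_two hK]
    simp
  have h1 : orderOf v ∣ 2 * N' + 1 := orderOf_dvd_of_pow_eq_one hv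
  have h2 : orderOf v ∣ 2 ^ (K - 1) := by rw [← hcard]; exact orderOf_dvd_natCard v
  have hcop : Nat.Coprime (2 * N' + 1) (2 ^ (K - 1)) := by
    apply Nat.Coprime.pow_right
    rw [Nat.coprime_comm, Nat.Prime.coprime_iff_not_dvd Nat.prime_two]
    omega
  have h3 : orderOf v = 1 := Nat.eq_one_of_dvd_coprimes hcop h1 h2
  rw [orderOf_eq_one_iff.mp h3]; rfl

/-- In `ZMod (2 ^ K)`, an odd multiple is zero only for zero. -/
theorem zmod_two_pow_eq_zero_of_odd_mul (K : ℕ) (j : ZMod (2 ^ K)) (N : ℕ) (hN : Odd N)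
    (hj : (N : ZMod (2 ^ K)) * j = 0) : j = 0 := by
  have hunit : IsUnit (N : ZMod (2 ^ K)) := by
    rw [ZMod.isUnit_iff_coprime]
    apply Nat.Coprime.pow_right
    obtain ⟨N', rfl⟩ := hN
    rw [Nat.coprime_comm, Nat.Prime.coprime_iff_not_dvd Nat.prime_two]
    omega
  exact (hunit.mul_right_eq_zero).mp hj

/-- Odd-order automorphisms of a group of dihedral or quaternion shape (a cyclic part `c i`, `i : ZMod M` with `M` a power of two,
and a second coset `t * c i` whose elements do not have the order of `c 1`) are trivial. -/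
theorem aut_eq_one_of_odd {H : Type*} [Group H] (M K : ℕ) (hM : M = 2 ^ K) (c : ZMod M → H)
    (hc_mul : ∀ i j, c i * c j = c (i + j)) (hc_inj : Function.Injective c) (t : H)
    (hcover : ∀ h : H, (∃ i, h = c i) ∨ ∃ i, h = t * c i)
    (hne : ∀ i j, c i ≠ t * c j)
    (hord : ∀ i, orderOf (t * c i) ≠ orderOf (c 1))
    (α : MulAut H) (N : ℕ) (hN : Odd N) (hα : α ^ N = 1) : α = 1 := by
  subst hM
  haveI : NeZero (2 ^ K) := ⟨by positivity⟩
  have hc0 : c 0 = 1 := by
    have := hc_mul 0 0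
    rw [add_zero] at this
    exact mul_eq_left.mp this
  have hcpow : ∀ (x : ZMod (2 ^ K)) (n : ℕ), c x ^ n = c ((n : ZMod (2 ^ K)) * x) := by
    intro x n
    induction n with
    | zero => simp [hc0]
    | succ n ih => rw [pow_succ, ih, hc_mul, Nat.cast_succ, add_mul, one_mul]
  obtain ⟨u, hu⟩ : ∃ u, α (c 1) = c u := by
    rcases hcover (α (c 1)) with ⟨u, hu⟩ | ⟨i, hi⟩
    · exact ⟨u, hu⟩
    · exfalso
      apply hord i
      rw [← hi]
      exact MulEquiv.orderOf_eq α (c 1)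
  have hαc : ∀ i, α (c i) = c (u * i) := by
    intro i
    have h1 : c i = c 1 ^ i.val := by
      rw [hcpow, mul_one, ZMod.natCast_zmod_val]
    rw [h1, map_pow, hu, hcpow, ZMod.natCast_zmod_val, mul_comm]
  have hαpow : ∀ (k : ℕ) (i : ZMod (2 ^ K)), (α ^ k) (c i) = c (u ^ k * i) := by
    intro k
    induction k with
    | zero => intro i; simp
    | succ k ih =>
      intro i
      rw [pow_succ', MulAut.mul_apply, ih, hαc, pow_succ', mul_assoc]
  have hu1 : u = 1 := by
    apply zmod_two_pow_eq_one_of_odd_pow K u N hN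
    have := hαpow N 1
    rw [hα, mul_one] at this
    exact (hc_inj this).symm
  rw [hu1] at hαc
  simp only [one_mul] at hαc
  obtain ⟨j, hj⟩ : ∃ j, α t = t * c j := by
    rcases hcover (α t) with ⟨j, hj⟩ | ⟨j, hj⟩
    · exfalso
      rw [← hαc j] at hj
      have h1 := α.injective hj
      apply hne j 0
      rw [hc0, mul_one]; exact h1.symm
    · exact ⟨j, hj⟩
  have hαt : ∀ k : ℕ, (α ^ k) t = t * c ((k : ZMod (2 ^ K)) * j) := by
    intro k
    induction k with
    | zero => simp [hc0]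
    | succ k ih =>
      rw [pow_succ', MulAut.mul_apply, ih, map_mul, hαc, hj, mul_assoc, hc_mul, Nat.cast_succ,
        add_mul, one_mul, add_comm]
  have hj0 : j = 0 := by
    apply zmod_two_pow_eq_zero_of_odd_mul K j N hN
    have := hαt N
    rw [hα] at this
    have h2 : c ((N : ZMod (2 ^ K)) * j) = c 0 := by
      rw [hc0]
      have h3 : t * c ((N : ZMod (2 ^ K)) * j) = t * 1 := by rw [mul_one]; exact this.symm
      exact mul_left_cancel h3
    exact hc_inj h2
  rw [hj0, hc0, mul_one] at hj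
  ext h
  rcases hcover h with ⟨i, rfl⟩ | ⟨i, rfl⟩
  · exact hαc i
  · show α (t * c i) = t * c i
    rw [map_mul, hj, hαc]

theorem dihedral_aut_eq_one_of_odd (K : ℕ) (hK : 2 ≤ K) (α : MulAut (DihedralGroup (2 ^ K))) (N : ℕ)
    (hN : Odd N) (hα : α ^ N = 1) : α = 1 := by
  refine aut_eq_one_of_odd (2 ^ K) K rfl DihedralGroup.r DihedralGroup.r_mul_r
    (fun i j h => DihedralGroup.r.inj h) (DihedralGroup.sr 0) ?_ ?_ ?_ α N hN hα
  · intro h
    cases h with
    | r i => exact Or.inl ⟨i, rfl⟩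
    | sr i => exact Or.inr ⟨i, by rw [DihedralGroup.sr_mul_r, zero_add]⟩
  · intro i j h
    rw [DihedralGroup.sr_mul_r] at h
    cases h
  · intro i
    rw [DihedralGroup.sr_mul_r, DihedralGroup.orderOf_sr, DihedralGroup.orderOf_r_one]
    intro h
    have : 2 ^ 2 ≤ 2 ^ K := Nat.pow_le_pow_right (by norm_num) hK
    omega

theorem quaternion_aut_eq_one_of_odd (K : ℕ) (hK : 2 ≤ K) (α : MulAut (QuaternionGroup (2 ^ K))) (N : ℕ)
    (hN : Odd N) (hα : α ^ N = 1) : α = 1 := by
  haveI : NeZero (2 ^ K) := ⟨by positivity⟩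
  refine aut_eq_one_of_odd (2 * 2 ^ K) (K + 1) (by rw [pow_succ, mul_comm]) QuaternionGroup.a
    QuaternionGroup.a_mul_a (fun i j h => QuaternionGroup.a.inj h) (QuaternionGroup.xa 0) ?_ ?_ ?_
    α N hN hα
  · intro h
    cases h with
    | a i => exact Or.inl ⟨i, rfl⟩
    | xa i => exact Or.inr ⟨i, by rw [QuaternionGroup.xa_mul_a, zero_add]⟩
  · intro i j h
    rw [QuaternionGroup.xa_mul_a] at h
    cases h
  · intro i
    rw [QuaternionGroup.xa_mul_a, QuaternionGroup.orderOf_xa, QuaternionGroup.orderOf_a_one]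
    intro h
    have : 2 ^ 2 ≤ 2 ^ K := Nat.pow_le_pow_right (by norm_num) hK
    omega

end Cfsg.Agent.H85
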