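import Cfsg.Agent.H85.Alperin

set_option autoImplicit false

namespace Cfsg.Agent.H85

open Cfsg Cfsg.FusionSystem

variable {Ω : Type*} [Group Ω] {S : Subgroup Ω}

theorem pResidual_normal (p : ℕ) (A : Type*) [Group A] : (pResidual p A).Normal := by
  constructor
  intro n hn g
  have h : pResidual p A ≤ (pResidual p A).comap (MulAut.conj g).toMonoidHom := by
    refine (Subgroup.closure_le _).mpr ?_
    intro x hx
    show g * x * g⁻¹ ∈ pResidual p A
    apply Subgroup.subset_closure
    show Nat.Coprime (orderOf (g * x * g⁻¹)) p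
    have : orderOf (g * x * g⁻¹) = orderOf x :=
      orderOf_injective (MulAut.conj g).toMonoidHom (MulAut.conj g).injective x
    rw [this]; exact hx
  exact h hn

theorem pResidual_map_of_injective {A B : Type*} [Group A] [Group B] (Θ : A →* B)
    (hΘ : Function.Injective Θ) {p : ℕ} {a : A} (ha : a ∈ pResidual p A) :
    Θ a ∈ pResidual p B := by
  have h : pResidual p A ≤ (pResidual p B).comap Θ := by
    refine (Subgroup.closure_le _).mpr ?_
    intro g hg
    show Θ g ∈ pResidual p B
    apply Subgroup.subset_closure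
    show Nat.Coprime (orderOf (Θ g)) p
    rw [orderOf_injective Θ hΘ]; exact hg
  exact h ha

theorem isPGroup_quotient_pResidual {p : ℕ} [Fact p.Prime] (A : Type*) [Group A] [Finite A]
    [hN : (pResidual p A).Normal] : IsPGroup p (A ⧸ pResidual p A) := by
  intro g
  obtain ⟨a, rfl⟩ := QuotientGroup.mk_surjective g
  have hn : orderOf a ≠ 0 := (orderOf_pos a).ne'
  obtain ⟨e, m, hm, hnm⟩ := Nat.exists_eq_pow_mul_and_not_dvd hn p (Fact.out : p.Prime).ne_one
  refine ⟨e, ?_⟩
  have h1 : a ^ p ^ e ∈ pResidual p A := by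
    apply Subgroup.subset_closure
    show Nat.Coprime (orderOf (a ^ p ^ e)) p
    have hdvd : orderOf (a ^ p ^ e) ∣ m := by
      apply orderOf_dvd_of_pow_eq_one
      rw [← pow_mul, ← hnm, pow_orderOf_eq_one]
    have hcop : Nat.Coprime m p :=
      Nat.Coprime.symm ((Nat.Prime.coprime_iff_not_dvd Fact.out).mpr hm)
    exact Nat.Coprime.coprime_dvd_left hdvd hcop
  rw [← QuotientGroup.mk_pow]
  exact (QuotientGroup.eq_one_iff _).mpr h1

/-- A finite group is the product of a Sylow `p`-subgroup and the subgroup generated by its `p'`-elements. -/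
theorem exists_mul_of_sylow {p : ℕ} [Fact p.Prime] {A : Type*} [Group A] [Finite A]
    (R : Sylow p A) (a : A) : ∃ σ ∈ (R : Subgroup A), ∃ ν ∈ pResidual p A, a = σ * ν := by
  haveI := pResidual_normal p A
  have hq := isPGroup_quotient_pResidual (p := p) A
  have htop : ((R.mapSurjective (QuotientGroup.mk'_surjective (pResidual p A)) :
      Sylow p (A ⧸ pResidual p A)) : Subgroup (A ⧸ pResidual p A)) = ⊤ :=
    ((R.mapSurjective (QuotientGroup.mk'_surjective (pResidual p A))).is_maximal'
      (hq.to_subgroup ⊤) le_top).symm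
  have hmem : QuotientGroup.mk' (pResidual p A) a ∈
      ((R.mapSurjective (QuotientGroup.mk'_surjective (pResidual p A)) :
      Sylow p (A ⧸ pResidual p A)) : Subgroup (A ⧸ pResidual p A)) := by
    rw [htop]; trivial
  rw [Sylow.coe_mapSurjective] at hmem
  obtain ⟨σ, hσ, hσa⟩ := hmem
  refine ⟨σ, hσ, σ⁻¹ * a, ?_, by group⟩
  exact QuotientGroup.eq.mp hσa

theorem hyperfocal_le (F : FusionSystem S) (p : ℕ) : F.hyperfocalSubgroup p ≤ S := by
  refine (Subgroup.closure_le _).mpr ?_
  rintro y ⟨P, α, x, hP, -, rfl⟩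
  exact S.mul_mem (S.inv_mem (hP x.2)) (hP (((α : MulAut P) x).2))

theorem mem_hyperfocal_of (F : FusionSystem S) (p : ℕ) {P : Subgroup Ω} (hP : P ≤ S)
    (α : ↥(F.autGroup P)) (hα : α ∈ pResidual p ↥(F.autGroup P)) (x : P) :
    (x : Ω)⁻¹ * (((α : MulAut P) x : P) : Ω) ∈ F.hyperfocalSubgroup p :=
  Subgroup.subset_closure ⟨P, α, x, hP, hα, rfl⟩

/-- Conjugation by `s` as an isomorphism from `P` onto its conjugate. -/
noncomputable def conjIso (P : Subgroup Ω) (s : Ω) :
    P ≃* (P.map (MulAut.conj s).toMonoidHom : Subgroup Ω) :=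
  P.equivMapOfInjective _ (MulAut.conj s).injective

theorem coe_conjIso (P : Subgroup Ω) (s : Ω) (x : P) :
    ((conjIso P s x : (P.map (MulAut.conj s).toMonoidHom : Subgroup Ω)) : Ω) = s * x * s⁻¹ := rfl

theorem isIso_conjIso (F : FusionSystem S) {P : Subgroup Ω} (hP : P ≤ S) {s : Ω} (hs : s ∈ S) :
    IsIso F (conjIso P s) :=
  hom_congr F (F.conj_mem hP hs) (fun x => coe_conjIso P s x)

/-- Transport of automorphisms of the system along an isomorphism of the system. -/
noncomputable def autCongrHom (F : FusionSystem S) {P Q : Subgroup Ω} {e : P ≃* Q}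
    (he : IsIso F e) : ↥(F.autGroup P) →* ↥(F.autGroup Q) :=
  ((MulAut.congr e).toMonoidHom.comp (F.autGroup P).subtype).codRestrict (F.autGroup Q)
    (fun a => congr_mem_autGroup F he a.2)

theorem autCongrHom_injective (F : FusionSystem S) {P Q : Subgroup Ω} {e : P ≃* Q}
    (he : IsIso F e) : Function.Injective (autCongrHom F he) := by
  intro a b hab
  have h1 : MulAut.congr e (a : MulAut P) = MulAut.congr e (b : MulAut P) :=
    congrArg Subtype.val hab
  exact Subtype.ext ((MulAut.congr e).injective h1)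

theorem autCongrHom_apply (F : FusionSystem S) {P Q : Subgroup Ω} {e : P ≃* Q}
    (he : IsIso F e) (a : ↥(F.autGroup P)) (y : Q) :
    ((autCongrHom F he a : ↥(F.autGroup Q)) : MulAut Q) y = e ((a : MulAut P) (e.symm y)) := rfl

theorem hyperfocal_conj_mem (F : FusionSystem S) (p : ℕ) {s : Ω} (hs : s ∈ S) {y : Ω}
    (hy : y ∈ F.hyperfocalSubgroup p) : s * y * s⁻¹ ∈ F.hyperfocalSubgroup p := by
  have h : F.hyperfocalSubgroup p ≤
      (F.hyperfocalSubgroup p).comap (MulAut.conj s).toMonoidHom := by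
    refine (Subgroup.closure_le _).mpr ?_
    rintro y ⟨P, α, x, hP, hα, rfl⟩
    show s * ((x : Ω)⁻¹ * (((α : MulAut P) x : P) : Ω)) * s⁻¹ ∈ F.hyperfocalSubgroup p
    have hP' : P.map (MulAut.conj s).toMonoidHom ≤ S := by
      rintro _ ⟨z, hz, rfl⟩
      exact S.mul_mem (S.mul_mem hs (hP hz)) (S.inv_mem hs)
    have hc := isIso_conjIso F hP hs
    have h1 := mem_hyperfocal_of F p hP' (autCongrHom F hc α)
      (pResidual_map_of_injective _ (autCongrHom_injective F hc) hα) (conjIso P s x)
    have e : s * ((x : Ω)⁻¹ * (((α : MulAut P) x : P) : Ω)) * s⁻¹ =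
        ((conjIso P s x : (P.map (MulAut.conj s).toMonoidHom : Subgroup Ω)) : Ω)⁻¹ *
          ((((autCongrHom F hc α : ↥(F.autGroup _)) : MulAut _) (conjIso P s x) :
            (P.map (MulAut.conj s).toMonoidHom : Subgroup Ω)) : Ω) := by
      rw [autCongrHom_apply, MulEquiv.symm_apply_apply, coe_conjIso, coe_conjIso]; group
    rw [e]; exact h1
  exact h hy

end Cfsg.Agent.H85
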