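import Mathlib
import Cfsg.Prelude.Def_FusionSystem
import Cfsg.Prelude.Def_FusionComponents
import Cfsg.Agent.Lib.Helper87.FSBasic
import Cfsg.Agent.Lib.Helper87.FSSat
import Cfsg.Agent.Lib.Helper87.FSAlperin
import Cfsg.Agent.Lib.Helper86.FSMore
import Cfsg.Agent.S5118
import Cfsg.Agent.S5093
import Cfsg.Agent.S5076
import Cfsg.Agent.H85.Hyp
import Cfsg.Agent.H85.GroupFS2

/-! Subsystems of `p`-power index: a saturated one over `T` is unique; for a finite group the
fusion system of `O^p(G)` on `S ∩ O^p(G)` is the `p`-residual subsystem. -/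

set_option autoImplicit false
open Cfsg

namespace Cfsg.Agent.H85

section general

open Cfsg.Agent.Lib.Helper87.FSBasic Cfsg.Agent.Lib.Helper87.FSSat
  Cfsg.Agent.Lib.Helper87.FSAlperin
open Cfsg.Agent.Lib.Helper86.FSMore

variable {Ω : Type*} [Group Ω] {S : Subgroup Ω}

/-- A saturated subsystem `E` of `F` over `T` lies in every subsystem of `p`-power index in `F`
over a subgroup containing `T`. -/
theorem le_of_ppower_index [Finite S] (p : ℕ) [Fact p.Prime] (hS : IsPGroup p S)
    (F : FusionSystem S) {T U : Subgroup Ω} (E : FusionSystem T) (hEsat : E.IsSaturated p)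
    (hEF : E.IsSubsystemOf F) (hTS : T ≤ S) (F₀ : FusionSystem U) (hTU : T ≤ U)
    (hidx : F₀.HasPPowerIndexIn F p) : E.IsSubsystemOf F₀ := by
  have hfinT : Finite T := Finite.of_injective (Subgroup.inclusion hTS)
    (Subgroup.inclusion_injective hTS)
  have hT : IsPGroup p T := hS.to_le hTS
  have key := Cfsg.Agent.Lib.Helper87.FSAlperin.alperin_induction hT E hEsat (restrictTo F₀ T hTU) (by
    intro Y hfa hrec _ α hα hr
    have hYT : Y ≤ T := hfa.1
    have hmem := autOfMap_mem E hα hr
    have h1 := autGroup_le_of_fullyAutomized E hfa hmem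
    have h2 : (Cfsg.pResidual p (E.autGroup Y)).map (E.autGroup Y).subtype ⊔ autInducedBy T Y ≤
        F₀.autGroup Y := by
      apply sup_le
      · exact (pResidual_map_le p (autGroup_mono E F hEF Y)).trans (hidx.2.2 Y (hYT.trans hTU))
      · exact (autInducedBy_mono hTU Y).trans
          (Cfsg.Agent.Lib.Helper87.FSBasic.autInducedBy_le_autGroup F₀ (hYT.trans hTU))
    have h3 := autGroup_hom F₀ (hYT.trans hTU) (h2 h1)
    refine ⟨mem_of_eq F₀ h3 fun x => ?_, hYT, fun x => (E.le_of_mem hα).2 x⟩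
    rfl)
  intro P φ hφ
  exact (key P hφ).1

/-- Uniqueness of the saturated subsystem of `p`-power index over a given subgroup. -/
theorem ppower_index_unique [Finite S] (p : ℕ) [Fact p.Prime] (hS : IsPGroup p S)
    (F : FusionSystem S) {T T' : Subgroup Ω} (hTT' : T = T') (E : FusionSystem T)
    (E' : FusionSystem T') (hE : E.IsSaturated p) (hE' : E'.IsSaturated p)
    (hEi : E.HasPPowerIndexIn F p) (hE'i : E'.HasPPowerIndexIn F p) :
    ∀ P : Subgroup Ω, E.Hom P = E'.Hom P := by
  subst hTT'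
  have hTS : T ≤ S := (F.le_of_mem (hEi.1 T (E.conj_mem le_rfl (one_mem T)))).1
  intro P
  exact Set.Subset.antisymm
    (le_of_ppower_index p hS F E hE hEi.1 hTS E' le_rfl hE'i P)
    (le_of_ppower_index p hS F E' hE' hE'i.1 hTS E le_rfl hEi P)

end general

section grp

variable {G : Type*} [Group G]

theorem aut_pow_conj {P : Subgroup G} (a : MulAut P) (g : G)
    (h : ∀ x : P, ((a x : P) : G) = g * (x : G) * g⁻¹) (i : ℕ) :
    ∀ x : P, (((a ^ i) x : P) : G) = g ^ i * (x : G) * (g ^ i)⁻¹ := by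
  induction i with
  | zero =>
    intro x
    simp
  | succ i ih =>
    intro x
    rw [pow_succ, MulAut.mul_apply, ih, h, pow_succ, mul_inv_rev]
    simp only [mul_assoc]

/-- A `p'`-automorphism of `P` induced by conjugation is induced by a `p'`-element. -/
theorem exists_pResidual_conj [Finite G] (p : ℕ) [Fact p.Prime] {P : Subgroup G} (a : MulAut P)
    (ha : (orderOf a).Coprime p) (g : G)
    (h : ∀ x : P, ((a x : P) : G) = g * (x : G) * g⁻¹) :
    ∃ g' ∈ pResidual p G, ∀ x : P, ((a x : P) : G) = g' * (x : G) * g'⁻¹ := by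
  have hp : p.Prime := Fact.out
  have hn0 : orderOf g ≠ 0 := (orderOf_pos g).ne'
  obtain ⟨k, m, hm, hnm⟩ := Nat.exists_eq_pow_mul_and_not_dvd hn0 p hp.ne_one
  have hcop : (p ^ k).Coprime (orderOf a) := (Nat.Coprime.pow_right k ha).symm
  obtain ⟨j, hj⟩ := exists_pow_eq_self_of_coprime hcop
  refine ⟨(g ^ p ^ k) ^ j, ?_, ?_⟩
  · apply Subgroup.subset_closure
    show Nat.Coprime (orderOf ((g ^ p ^ k) ^ j)) p
    have h1 : ((g ^ p ^ k) ^ j) ^ m = 1 := by
      have e : p ^ k * (j * m) = orderOf g * j := by rw [hnm]; ring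
      rw [← pow_mul, ← pow_mul, e, pow_mul, pow_orderOf_eq_one, one_pow]
    have h2 : orderOf ((g ^ p ^ k) ^ j) ∣ m := orderOf_dvd_of_pow_eq_one h1
    have h3 : Nat.Coprime m p := ((Nat.Prime.coprime_iff_not_dvd hp).mpr hm).symm
    exact Nat.Coprime.coprime_dvd_left h2 h3
  · intro x
    have h4 := aut_pow_conj a g h (p ^ k * j) x
    rw [pow_mul, hj, pow_mul] at h4
    exact h4

/-- The fusion system of `O^p(G)` on `S ∩ O^p(G)` has `p`-power index in the fusion system of
`G` on `S`. -/
theorem groupFS_pResidual_ppower [Finite G] (p : ℕ) [Fact p.Prime] (S : Sylow p G) :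
    (fusionSystemOfSubgroup (pResidual p G) ((S : Subgroup G) ⊓ pResidual p G)
      inf_le_right).HasPPowerIndexIn (groupFusionSystem (S : Subgroup G)) p := by
  refine ⟨?_, (Cfsg.Agent.S5093.result p S).le, ?_⟩
  · rintro P φ ⟨hP, hφT, g, -, hg⟩
    exact ⟨hP.trans inf_le_left, fun x => (hφT x).1, g, hg⟩
  · intro P hP
    rw [Cfsg.Agent.S5118.autGroup_rel _ _ _ hP, Subgroup.map_le_iff_le_comap]
    unfold pResidual
    rw [Subgroup.closure_le]
    intro α hα
    have hα' : Nat.Coprime (orderOf α) p := hα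
    have hmem : (α : MulAut P) ∈ autInducedBy ⊤ P := by
      rw [← Cfsg.Agent.S5076.autGroup_eq (S : Subgroup G) (hP.trans inf_le_left)]
      exact α.2
    obtain ⟨g, -, hg⟩ := (mem_autInducedBy_iff ⊤ P _).mp hmem
    have ho : (orderOf (α : MulAut P)).Coprime p := by
      rw [Subgroup.orderOf_coe]
      exact hα'
    obtain ⟨g', hg', hg'α⟩ := exists_pResidual_conj p (α : MulAut P) ho g hg
    show (α : MulAut P) ∈ autInducedBy (pResidual p G) P
    exact (mem_autInducedBy_iff _ P _).mpr ⟨g', hg', hg'α⟩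

/-- The `p`-residual subsystem of the fusion system of `G` on `S` is the fusion system of
`O^p(G)` on `S ∩ O^p(G)`. -/
theorem pResidual_system_eq [Finite G] (p : ℕ) [Fact p.Prime] (S : Sylow p G)
    (E : FusionSystem ((groupFusionSystem (S : Subgroup G)).hyperfocalSubgroup p))
    (hE : (groupFusionSystem (S : Subgroup G)).IsPResidual p E) :
    ∃ h : (S : Subgroup G) ⊓ pResidual p G ≤ pResidual p G, ∀ P : Subgroup G,
      E.Hom P = (fusionSystemOfSubgroup (pResidual p G) ((S : Subgroup G) ⊓ pResidual p G) h).Hom P := by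
  haveI := pResidual_normal p G
  refine ⟨inf_le_right, ?_⟩
  have hsat' : (fusionSystemOfSubgroup (pResidual p G) ((S : Subgroup G) ⊓ pResidual p G)
      inf_le_right).IsSaturated p := (Cfsg.Agent.S5118.result p S (pResidual p G)).1.1
  exact ppower_index_unique p S.isPGroup' (groupFusionSystem (S : Subgroup G))
    (Cfsg.Agent.S5093.result p S) E _ hE.1 hsat' hE.2 (groupFS_pResidual_ppower p S)

end grp

end Cfsg.Agent.H85
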