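import Mathlib
import Cfsg.Prelude.Def_FusionSystem
import Cfsg.Agent.H85.Basic
import Cfsg.Agent.H85.Aut
import Cfsg.Agent.H85.Sat

set_option autoImplicit false

namespace Cfsg.Agent.H85

open Cfsg Cfsg.FusionSystem

variable {Ω : Type*} [Group Ω] {S T : Subgroup Ω}

/-- Invariance of the subsystem `E` over `T` under `Aut_F(T)` (the third clause of `IsInvariantIn`). -/
def InvCond (E : FusionSystem T) (F : FusionSystem S) : Prop :=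
  ∀ (P : Subgroup Ω) (hPT : P ≤ T) (φ : P →* Ω), φ ∈ E.Hom P → ∀ α ∈ F.autGroup T,
      ∃ χ ∈ E.Hom ((P.subgroupOf T).map (T.subtype.comp α.toMonoidHom)),
        ∀ (x : P) (hφx : φ x ∈ T)
          (hαx : ((α ⟨x, hPT x.2⟩ : T) : Ω) ∈ (P.subgroupOf T).map (T.subtype.comp α.toMonoidHom)),
          χ ⟨(α ⟨x, hPT x.2⟩ : T), hαx⟩ = ((α ⟨φ x, hφx⟩ : T) : Ω)

/-- A map from a subgroup of `T` that is an element of `Aut_F(T)` composed with a map of `E` (the Frattini clause). -/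
def Good (E : FusionSystem T) (F : FusionSystem S) {R : Subgroup Ω} (φ : R →* Ω) : Prop :=
  ∃ α ∈ F.autGroup T, ∃ φ₀ ∈ E.Hom R, ∀ (x : R) (hx : φ₀ x ∈ T), φ x = ((α ⟨φ₀ x, hx⟩ : T) : Ω)

theorem Good.restrict {E : FusionSystem T} {F : FusionSystem S} {R R' : Subgroup Ω} {φ : R →* Ω}
    (hφ : Good E F φ) (h : R' ≤ R) : Good E F (φ.comp (Subgroup.inclusion h)) := by
  obtain ⟨α, hα, φ₀, hφ₀, hφα⟩ := hφ
  exact ⟨α, hα, φ₀.comp (Subgroup.inclusion h), restrict_mem E hφ₀ h, fun x hx => hφα _ hx⟩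

theorem Good.of_mem {E : FusionSystem T} {F : FusionSystem S} {R : Subgroup Ω} {φ : R →* Ω}
    (hφ : φ ∈ E.Hom R) : Good E F φ :=
  ⟨1, Subgroup.one_mem _, φ, hφ, fun _ _ => rfl⟩

theorem Good.congr {E : FusionSystem T} {F : FusionSystem S} {R : Subgroup Ω} {φ ψ : R →* Ω}
    (hφ : Good E F φ) (h : ∀ x, ψ x = φ x) : Good E F ψ := by
  have : ψ = φ := MonoidHom.ext h
  rw [this]; exact hφ

theorem Good.comp {E : FusionSystem T} {F : FusionSystem S} (hinv : InvCond E F)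
    {R R' : Subgroup Ω} {φ : R →* Ω} {ψ : R' →* Ω}
    (hφ : Good E F φ) (hψ : Good E F ψ) (h : ∀ x : R, φ x ∈ R') {χ : R →* Ω}
    (hχ : ∀ x : R, χ x = ψ ⟨φ x, h x⟩) : Good E F χ := by
  obtain ⟨α, hα, φ₀, hφ₀, hφα⟩ := hφ
  obtain ⟨β, hβ, ψ₀, hψ₀, hψβ⟩ := hψ
  have hφ₀T : ∀ x, φ₀ x ∈ T := (E.le_of_mem hφ₀).2
  have hψ₀T : ∀ x, ψ₀ x ∈ T := (E.le_of_mem hψ₀).2
  have hR'T : R' ≤ T := (E.le_of_mem hψ₀).1
  have hrR' : φ.range ≤ R' := by rintro _ ⟨x, rfl⟩; exact h x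
  have hrT : φ.range ≤ T := hrR'.trans hR'T
  obtain ⟨χ₁, hχ₁, hχ₁x⟩ := hinv φ.range hrT (ψ₀.comp (Subgroup.inclusion hrR'))
    (restrict_mem E hψ₀ hrR') α⁻¹ (Subgroup.inv_mem _ hα)
  have hφx : ∀ x : R, (⟨φ x, hrT ⟨x, rfl⟩⟩ : T) = α ⟨φ₀ x, hφ₀T x⟩ :=
    fun x => Subtype.ext (hφα x (hφ₀T x))
  have hmem : ∀ x : R, φ₀ x ∈ (φ.range.subgroupOf T).map (T.subtype.comp (α⁻¹).toMonoidHom) := by
    intro x
    refine ⟨⟨φ x, hrT ⟨x, rfl⟩⟩, Subgroup.mem_subgroupOf.mpr ⟨x, rfl⟩, ?_⟩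
    show ((α⁻¹ ⟨φ x, hrT ⟨x, rfl⟩⟩ : T) : Ω) = φ₀ x
    rw [hφx x, MulAut.inv_apply_self]
  refine ⟨β * α, Subgroup.mul_mem _ hβ hα, χ₁.comp (φ₀.codRestrict _ hmem),
    E.comp_mem hφ₀ hχ₁ hmem, fun x hx => ?_⟩
  rw [hχ x, hψβ ⟨φ x, h x⟩ (hψ₀T _)]
  show ((β ⟨ψ₀ ⟨φ x, h x⟩, _⟩ : T) : Ω) = ((β (α ⟨χ₁ ⟨φ₀ x, hmem x⟩, hx⟩) : T) : Ω)
  have hαx : ((α⁻¹ ⟨((⟨φ x, ⟨x, rfl⟩⟩ : φ.range) : Ω), hrT ⟨x, rfl⟩⟩ : T) : Ω) ∈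
      (φ.range.subgroupOf T).map (T.subtype.comp (α⁻¹).toMonoidHom) :=
    ⟨⟨φ x, hrT ⟨x, rfl⟩⟩, Subgroup.mem_subgroupOf.mpr ⟨x, rfl⟩, rfl⟩
  have h1 := hχ₁x ⟨φ x, ⟨x, rfl⟩⟩ (hψ₀T _) hαx
  have e1 : (⟨φ₀ x, hmem x⟩ : ↥((φ.range.subgroupOf T).map (T.subtype.comp (α⁻¹).toMonoidHom))) =
      ⟨((α⁻¹ ⟨((⟨φ x, ⟨x, rfl⟩⟩ : φ.range) : Ω), hrT ⟨x, rfl⟩⟩ : T) : Ω), hαx⟩ := by
    apply Subtype.ext
    show φ₀ x = ((α⁻¹ ⟨φ x, hrT ⟨x, rfl⟩⟩ : T) : Ω)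
    rw [hφx x, MulAut.inv_apply_self]
  have e2 : (⟨χ₁ ⟨φ₀ x, hmem x⟩, hx⟩ : T) =
      α⁻¹ ⟨(ψ₀.comp (Subgroup.inclusion hrR')) ⟨φ x, ⟨x, rfl⟩⟩, hψ₀T _⟩ := by
    apply Subtype.ext
    show χ₁ ⟨φ₀ x, hmem x⟩ = _
    rw [e1, h1]
  rw [e2, MulAut.apply_inv_self]
  rfl

theorem Good.inv {E : FusionSystem T} {F : FusionSystem S} (hinv : InvCond E F)
    {R R' : Subgroup Ω} {φ : R →* Ω} {ψ : R' →* Ω}
    (hφ : Good E F φ) (h1 : ∀ x : R, φ x ∈ R') (h2 : ∀ x : R, ψ ⟨φ x, h1 x⟩ = x)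
    (h3 : ∀ y : R', ∃ x : R, φ x = y) : Good E F ψ := by
  obtain ⟨α, hα, φ₀, hφ₀, hφα⟩ := hφ
  have hφ₀T : ∀ x, φ₀ x ∈ T := (E.le_of_mem hφ₀).2
  have hR : R ≤ T := (E.le_of_mem hφ₀).1
  have hrT : φ₀.range ≤ T := by rintro _ ⟨x, rfl⟩; exact hφ₀T x
  obtain ⟨ι₀, hι₀, hι₀x⟩ := E.inv_mem hφ₀
  obtain ⟨χ₁, hχ₁, hχ₁x⟩ := hinv φ₀.range hrT ι₀ hι₀ α hα
  have hR' : R' = (φ₀.range.subgroupOf T).map (T.subtype.comp α.toMonoidHom) := by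
    ext y
    constructor
    · intro hy
      obtain ⟨x, hx⟩ := h3 ⟨y, hy⟩
      refine ⟨⟨φ₀ x, hφ₀T x⟩, Subgroup.mem_subgroupOf.mpr ⟨x, rfl⟩, ?_⟩
      show ((α ⟨φ₀ x, hφ₀T x⟩ : T) : Ω) = y
      rw [← hφα x (hφ₀T x)]; exact hx
    · rintro ⟨z, hz, rfl⟩
      obtain ⟨x, hx⟩ := Subgroup.mem_subgroupOf.mp hz
      have e : z = ⟨φ₀ x, hφ₀T x⟩ := Subtype.ext hx.symm
      show ((α z : T) : Ω) ∈ R'
      rw [e, ← hφα x (hφ₀T x)]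
      exact h1 x
  subst hR'
  refine ⟨α⁻¹, Subgroup.inv_mem _ hα, χ₁, hχ₁, fun y hy => ?_⟩
  obtain ⟨x, hx⟩ := h3 y
  have hy' : y = ⟨φ x, h1 x⟩ := Subtype.ext hx.symm
  have hαz : ((α ⟨((⟨φ₀ x, ⟨x, rfl⟩⟩ : φ₀.range) : Ω), hrT ⟨x, rfl⟩⟩ : T) : Ω) ∈
      (φ₀.range.subgroupOf T).map (T.subtype.comp α.toMonoidHom) :=
    ⟨⟨φ₀ x, hφ₀T x⟩, Subgroup.mem_subgroupOf.mpr ⟨x, rfl⟩, rfl⟩
  have h4 := hχ₁x ⟨φ₀ x, ⟨x, rfl⟩⟩ (by rw [hι₀x]; exact hR x.2) hαz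
  have e1 : y = ⟨((α ⟨((⟨φ₀ x, ⟨x, rfl⟩⟩ : φ₀.range) : Ω), hrT ⟨x, rfl⟩⟩ : T) : Ω), hαz⟩ := by
    rw [hy']
    apply Subtype.ext
    exact hφα x (hφ₀T x)
  have e2 : (⟨χ₁ y, hy⟩ : T) = α ⟨x, hR x.2⟩ := by
    apply Subtype.ext
    show χ₁ y = _
    rw [e1, h4]
    congr 2
    exact Subtype.ext (hι₀x x)
  rw [e2, MulAut.inv_apply_self, hy', h2 x]

/-- Conjugation by an element of `S` on a strongly closed subgroup `T`, as an element of `Aut_F(T)`. -/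
theorem exists_aut_conj (F : FusionSystem S) (hT : F.StronglyClosed T) {g : Ω} (hg : g ∈ S) :
    ∃ α ∈ F.autGroup T, ∀ t : T, ((α t : T) : Ω) = g * t * g⁻¹ := by
  have hc := F.conj_mem hT.1 hg
  have hr : (conjHom T g).range = T := by
    ext y
    constructor
    · rintro ⟨x, rfl⟩
      exact hT.2 T le_rfl _ hc x
    · intro hy
      have h1 := hT.2 T le_rfl _ (F.conj_mem hT.1 (S.inv_mem hg)) ⟨y, hy⟩
      refine ⟨⟨_, h1⟩, ?_⟩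
      show g * (g⁻¹ * y * g⁻¹⁻¹) * g⁻¹ = y
      group
  exact ⟨isoOf F hc hr, (mem_autGroup_iff F hT.1 _).mpr (isIso_isoOf F hc hr), fun t => rfl⟩

/-- The maps of `F` all of whose restrictions to subgroups of `T` are good. -/
def goodSys (E : FusionSystem T) (F : FusionSystem S) (hT : F.StronglyClosed T)
    (hinv : InvCond E F) : FusionSystem S where
  Hom P := {φ | φ ∈ F.Hom P ∧ ∀ (R : Subgroup Ω) (hRP : R ≤ P), R ≤ T →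
    Good E F (φ.comp (Subgroup.inclusion hRP))}
  le_of_mem h := F.le_of_mem h.1
  injective_of_mem h := F.injective_of_mem h.1
  conj_mem := by
    intro P g hP hg
    refine ⟨F.conj_mem hP hg, fun R hRP hRT => ?_⟩
    obtain ⟨α, hα, hαg⟩ := exists_aut_conj F hT hg
    exact ⟨α, hα, R.subtype, subtype_mem E hRT, fun x hx => (hαg ⟨x, hx⟩).symm⟩
  comp_mem := by
    intro P Q φ ψ hφ hψ h
    refine ⟨F.comp_mem hφ.1 hψ.1 h, fun R hRP hRT => ?_⟩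
    have hφR := restrict_mem F hφ.1 hRP
    have hR'Q : (φ.comp (Subgroup.inclusion hRP)).range ≤ Q := by
      rintro _ ⟨x, rfl⟩; exact h _
    have hR'T : (φ.comp (Subgroup.inclusion hRP)).range ≤ T := by
      rintro _ ⟨x, rfl⟩; exact hT.2 R hRT _ hφR x
    exact Good.comp hinv (hφ.2 R hRP hRT) (hψ.2 _ hR'Q hR'T) (fun x => ⟨x, rfl⟩) (fun x => rfl)
  inv_mem := by
    intro P φ hφ
    obtain ⟨ψ, hψ, hψx⟩ := F.inv_mem hφ.1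
    refine ⟨ψ, ⟨hψ, fun R hR hRT => ?_⟩, hψx⟩
    have hψR := restrict_mem F hψ hR
    have hψP : ∀ y : φ.range, ψ y ∈ P := by
      rintro ⟨_, x, rfl⟩
      rw [hψx x]; exact x.2
    have hR₀P : (ψ.comp (Subgroup.inclusion hR)).range ≤ P := by
      rintro _ ⟨y, rfl⟩; exact hψP _
    have hR₀T : (ψ.comp (Subgroup.inclusion hR)).range ≤ T := by
      rintro _ ⟨y, rfl⟩; exact hT.2 R hRT _ hψR y
    have hφψ : ∀ y : φ.range, φ ⟨ψ y, hψP y⟩ = y := by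
      rintro ⟨_, x, rfl⟩
      have e : (⟨ψ ⟨φ x, ⟨x, rfl⟩⟩, hψP _⟩ : P) = x := Subtype.ext (hψx x)
      show φ ⟨ψ ⟨φ x, ⟨x, rfl⟩⟩, _⟩ = φ x
      rw [e]
    have h1 : ∀ x : ↥(ψ.comp (Subgroup.inclusion hR)).range,
        (φ.comp (Subgroup.inclusion hR₀P)) x ∈ R := by
      rintro ⟨_, y, rfl⟩
      show φ ⟨ψ (Subgroup.inclusion hR y), _⟩ ∈ R
      rw [hφψ]; exact y.2
    refine Good.inv hinv (hφ.2 _ hR₀P hR₀T) h1 (fun x => ?_) (fun y => ?_)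
    · exact hψx ⟨x, hR₀P x.2⟩
    · exact ⟨⟨ψ (Subgroup.inclusion hR y), ⟨y, rfl⟩⟩, hφψ (Subgroup.inclusion hR y)⟩

theorem mem_goodSys_iff (E : FusionSystem T) (F : FusionSystem S) (hT : F.StronglyClosed T)
    (hinv : InvCond E F) {P : Subgroup Ω} (φ : P →* Ω) :
    φ ∈ (goodSys E F hT hinv).Hom P ↔ φ ∈ F.Hom P ∧ ∀ (R : Subgroup Ω) (hRP : R ≤ P), R ≤ T →
      Good E F (φ.comp (Subgroup.inclusion hRP)) := Iff.rfl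

end Cfsg.Agent.H85
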