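import Mathlib
import Cfsg.Prelude.Def_FusionSystem
import Cfsg.Agent.H85.Basic
import Cfsg.Agent.H85.Aut
import Cfsg.Agent.H85.Sat
import Cfsg.Agent.H85.Invariant

/-! The largest subsystem of a fusion system `E` over `T` that is invariant under a group `A`
of automorphisms of `T`. -/

set_option autoImplicit false

namespace Cfsg.Agent.H85

open Cfsg Cfsg.FusionSystem

variable {Ω : Type*} [Group Ω] {S T : Subgroup Ω}

/-- The image of `Y` (in use `Y ≤ T`) under `α : MulAut T`, as a subgroup of `Ω`. -/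
abbrev autImage (α : MulAut T) (Y : Subgroup Ω) : Subgroup Ω :=
  (Y.subgroupOf T).map (T.subtype.comp α.toMonoidHom)

theorem autImage_le (α : MulAut T) (Y : Subgroup Ω) : autImage α Y ≤ T := by
  rintro _ ⟨t, -, rfl⟩
  exact (α t).2

theorem mem_autImage (α : MulAut T) {Y : Subgroup Ω} (hY : Y ≤ T) (x : Y) :
    ((α ⟨x, hY x.2⟩ : T) : Ω) ∈ autImage α Y :=
  ⟨⟨x, hY x.2⟩, Subgroup.mem_subgroupOf.mpr x.2, rfl⟩

theorem exists_of_mem_autImage (α : MulAut T) {Y : Subgroup Ω} (hY : Y ≤ T) {y : Ω}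
    (hy : y ∈ autImage α Y) : ∃ x : Y, ((α ⟨x, hY x.2⟩ : T) : Ω) = y := by
  obtain ⟨t, ht, rfl⟩ := hy
  exact ⟨⟨t, Subgroup.mem_subgroupOf.mp ht⟩, rfl⟩

/-- `α` restricted to `Y ≤ T`, as a homomorphism onto its image. -/
def autResHom (α : MulAut T) {Y : Subgroup Ω} (hY : Y ≤ T) : Y →* autImage α Y :=
  ((T.subtype.comp α.toMonoidHom).comp (Subgroup.inclusion hY)).codRestrict (autImage α Y)
    (mem_autImage α hY)

theorem coe_autResHom (α : MulAut T) {Y : Subgroup Ω} (hY : Y ≤ T) (x : Y) :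
    ((autResHom α hY x : autImage α Y) : Ω) = ((α ⟨x, hY x.2⟩ : T) : Ω) := rfl

theorem autResHom_bijective (α : MulAut T) {Y : Subgroup Ω} (hY : Y ≤ T) :
    Function.Bijective (autResHom α hY) := by
  constructor
  · intro x y hxy
    have h1 : ((α ⟨x, hY x.2⟩ : T) : Ω) = ((α ⟨y, hY y.2⟩ : T) : Ω) :=
      congrArg (fun z : autImage α Y => (z : Ω)) hxy
    have h2 : (⟨(x : Ω), hY x.2⟩ : T) = ⟨(y : Ω), hY y.2⟩ := α.injective (Subtype.ext h1)
    exact Subtype.ext (congrArg (fun z : T => (z : Ω)) h2)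
  · rintro ⟨y, hy⟩
    obtain ⟨x, hx⟩ := exists_of_mem_autImage α hY hy
    exact ⟨x, Subtype.ext hx⟩

/-- `α` restricted to `Y ≤ T`, as an isomorphism onto its image. -/
noncomputable def autRes (α : MulAut T) {Y : Subgroup Ω} (hY : Y ≤ T) : Y ≃* autImage α Y :=
  MulEquiv.ofBijective (autResHom α hY) (autResHom_bijective α hY)

theorem coe_autRes (α : MulAut T) {Y : Subgroup Ω} (hY : Y ≤ T) (x : Y) :
    ((autRes α hY x : autImage α Y) : Ω) = ((α ⟨x, hY x.2⟩ : T) : Ω) := rfl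

/-- The conjugate of `φ` by `α` is a map of `E`. -/
def ConjMem (E : FusionSystem T) (α : MulAut T) {P : Subgroup Ω} (hPT : P ≤ T) (φ : P →* Ω) :
    Prop :=
  ∃ χ ∈ E.Hom (autImage α P), ∀ (x : P) (hφx : φ x ∈ T),
    χ (autRes α hPT x) = ((α ⟨φ x, hφx⟩ : T) : Ω)

/-- The maps of `E` all of whose conjugates by elements of `A` are maps of `E`. -/
def invSys (E : FusionSystem T) (A : Subgroup (MulAut T)) : FusionSystem T where
  Hom P := {φ | φ ∈ E.Hom P ∧ ∀ (hPT : P ≤ T), ∀ α ∈ A, ConjMem E α hPT φ}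
  le_of_mem h := E.le_of_mem h.1
  injective_of_mem h := E.injective_of_mem h.1
  conj_mem := by
    intro P g hP hg
    refine ⟨E.conj_mem hP hg, fun hPT α _ => ?_⟩
    refine ⟨conjHom (autImage α P) ((α ⟨g, hg⟩ : T) : Ω),
      E.conj_mem (autImage_le α P) (α ⟨g, hg⟩).2, fun x hφx => ?_⟩
    have e : (⟨conjHom P g x, hφx⟩ : T) = ⟨g, hg⟩ * ⟨x, hPT x.2⟩ * (⟨g, hg⟩ : T)⁻¹ :=
      Subtype.ext rfl
    rw [e, map_mul, map_mul, map_inv]
    rfl
  comp_mem := by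
    intro P Q φ ψ hφ hψ h
    refine ⟨E.comp_mem hφ.1 hψ.1 h, fun hPT α hα => ?_⟩
    have hQT : Q ≤ T := (E.le_of_mem hψ.1).1
    have hφT : ∀ x, φ x ∈ T := (E.le_of_mem hφ.1).2
    have hψT : ∀ x, ψ x ∈ T := (E.le_of_mem hψ.1).2
    obtain ⟨χ₁, hχ₁, h1⟩ := hφ.2 hPT α hα
    obtain ⟨χ₂, hχ₂, h2⟩ := hψ.2 hQT α hα
    have hmap : ∀ y : autImage α P, χ₁ y ∈ autImage α Q := by
      intro y
      obtain ⟨x, rfl⟩ := (autRes α hPT).surjective y
      rw [h1 x (hφT x)]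
      exact mem_autImage α hQT ⟨φ x, h x⟩
    refine ⟨χ₂.comp (χ₁.codRestrict _ hmap), E.comp_mem hχ₁ hχ₂ hmap, fun x hx => ?_⟩
    have e : (χ₁.codRestrict _ hmap (autRes α hPT x)) = autRes α hQT ⟨φ x, h x⟩ :=
      Subtype.ext (h1 x (hφT x))
    show χ₂ (χ₁.codRestrict _ hmap (autRes α hPT x)) = _
    rw [e, h2 ⟨φ x, h x⟩ (hψT _)]
    rfl
  inv_mem := by
    intro P φ hφ
    obtain ⟨ψ, hψ, hψx⟩ := E.inv_mem hφ.1
    refine ⟨ψ, ⟨hψ, fun hRT α hα => ?_⟩, hψx⟩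
    have hPT : P ≤ T := (E.le_of_mem hφ.1).1
    have hφT : ∀ x, φ x ∈ T := (E.le_of_mem hφ.1).2
    obtain ⟨χ, hχ, h1⟩ := hφ.2 hPT α hα
    obtain ⟨ι, hι, hιx⟩ := E.inv_mem hχ
    have hle : autImage α φ.range ≤ χ.range := by
      intro y hy
      obtain ⟨⟨_, x, rfl⟩, rfl⟩ := exists_of_mem_autImage α hRT hy
      exact ⟨autRes α hPT x, h1 x (hφT x)⟩
    refine ⟨ι.comp (Subgroup.inclusion hle), restrict_mem E hι hle, ?_⟩
    rintro ⟨_, x, rfl⟩ hy
    have e : Subgroup.inclusion hle (autRes α hRT ⟨φ x, ⟨x, rfl⟩⟩) =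
        ⟨χ (autRes α hPT x), ⟨_, rfl⟩⟩ := Subtype.ext (h1 x (hφT x)).symm
    show ι (Subgroup.inclusion hle (autRes α hRT ⟨φ x, ⟨x, rfl⟩⟩)) = _
    rw [e, hιx, coe_autRes]
    have e2 : (⟨ψ ⟨φ x, ⟨x, rfl⟩⟩, hy⟩ : T) = ⟨x, hPT x.2⟩ := Subtype.ext (hψx x)
    rw [e2]

theorem mem_invSys_iff (E : FusionSystem T) (A : Subgroup (MulAut T)) {P : Subgroup Ω}
    (φ : P →* Ω) : φ ∈ (invSys E A).Hom P ↔
      φ ∈ E.Hom P ∧ ∀ (hPT : P ≤ T), ∀ α ∈ A, ConjMem E α hPT φ := Iff.rfl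

theorem invSys_le (E : FusionSystem T) (A : Subgroup (MulAut T)) :
    (invSys E A).IsSubsystemOf E := fun _ _ h => h.1

/-- The conjugates of the maps of `invSys E A` by elements of `A` are again in `invSys E A`. -/
theorem invSys_conjMem (E : FusionSystem T) (A : Subgroup (MulAut T)) {P : Subgroup Ω}
    (hPT : P ≤ T) {φ : P →* Ω} (hφ : φ ∈ (invSys E A).Hom P) {α : MulAut T} (hα : α ∈ A) :
    ConjMem (invSys E A) α hPT φ := by
  have hφT : ∀ x, φ x ∈ T := (E.le_of_mem hφ.1).2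
  obtain ⟨χ, hχ, h1⟩ := hφ.2 hPT α hα
  refine ⟨χ, ⟨hχ, fun hQT β hβ => ?_⟩, h1⟩
  obtain ⟨χ', hχ', h2⟩ := hφ.2 hPT (β * α) (A.mul_mem hβ hα)
  have hle : autImage β (autImage α P) ≤ autImage (β * α) P := by
    intro y hy
    obtain ⟨z, rfl⟩ := exists_of_mem_autImage β hQT hy
    obtain ⟨x, hx⟩ := exists_of_mem_autImage α hPT z.2
    have e : (⟨(z : Ω), hQT z.2⟩ : T) = α ⟨x, hPT x.2⟩ := Subtype.ext hx.symm
    rw [e]
    exact mem_autImage (β * α) hPT x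
  refine ⟨χ'.comp (Subgroup.inclusion hle), restrict_mem E hχ' hle, fun y hy => ?_⟩
  obtain ⟨x, rfl⟩ := (autRes α hPT).surjective y
  have e1 : Subgroup.inclusion hle (autRes β hQT (autRes α hPT x)) = autRes (β * α) hPT x :=
    Subtype.ext rfl
  show χ' (Subgroup.inclusion hle (autRes β hQT (autRes α hPT x))) = _
  rw [e1, h2 x (hφT x)]
  have e2 : (⟨χ (autRes α hPT x), hy⟩ : T) = α ⟨φ x, hφT x⟩ := Subtype.ext (h1 x (hφT x))
  rw [e2]
  rfl

/-- `ConjMem` in the form of the invariance clause of `IsInvariantIn`. -/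
theorem ConjMem.invForm {E : FusionSystem T} {α : MulAut T} {P : Subgroup Ω} {hPT : P ≤ T}
    {φ : P →* Ω} (h : ConjMem E α hPT φ) :
    ∃ χ ∈ E.Hom ((P.subgroupOf T).map (T.subtype.comp α.toMonoidHom)),
      ∀ (x : P) (hφx : φ x ∈ T)
        (hαx : ((α ⟨x, hPT x.2⟩ : T) : Ω) ∈ (P.subgroupOf T).map (T.subtype.comp α.toMonoidHom)),
        χ ⟨(α ⟨x, hPT x.2⟩ : T), hαx⟩ = ((α ⟨φ x, hφx⟩ : T) : Ω) := by
  obtain ⟨χ, hχ, h1⟩ := h
  exact ⟨χ, hχ, fun x hφx _ => h1 x hφx⟩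

/-- `invSys E (Aut_F(T))` satisfies the invariance clause. -/
theorem invSys_invCond (E : FusionSystem T) (F : FusionSystem S) :
    InvCond (invSys E (F.autGroup T)) F := by
  intro P hPT φ hφ α hα
  exact (invSys_conjMem E (F.autGroup T) hPT hφ hα).invForm

/-- If `E` is contained in `invSys E (Aut_F(T))` then `E` satisfies the invariance clause. -/
theorem invCond_of_le_invSys (E : FusionSystem T) (F : FusionSystem S)
    (h : E.IsSubsystemOf (invSys E (F.autGroup T))) : InvCond E F := by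
  intro P hPT φ hφ α hα
  exact ((h P hφ).2 hPT α hα).invForm

/-- An automorphism of `Y ≤ T` lies in `invSys E A` as soon as it lies in `E` together with all
its transports along the elements of `A`. -/
theorem aut_mem_invSys (E : FusionSystem T) (A : Subgroup (MulAut T)) {Y : Subgroup Ω}
    (hYT : Y ≤ T) (β : MulAut Y) (hβ : β ∈ E.autGroup Y)
    (h : ∀ α ∈ A, MulAut.congr (autRes α hYT) β ∈ E.autGroup (autImage α Y)) :
    β ∈ (invSys E A).autGroup Y := by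
  rw [mem_autGroup_iff _ hYT]
  refine ⟨(mem_autGroup_iff E hYT β).mp hβ, fun hPT α hα => ?_⟩
  refine ⟨_, (mem_autGroup_iff E (autImage_le α Y) _).mp (h α hα), fun x hφx => ?_⟩
  show (((autRes α hYT) (β ((autRes α hYT).symm (autRes α hYT x))) : autImage α Y) : Ω) = _
  rw [MulEquiv.symm_apply_apply, coe_autRes]
  rfl

/-- `α ∈ Aut_F(T)` restricted to `Y ≤ T` is an isomorphism of `F`. -/
theorem isIso_autRes (F : FusionSystem S) (hTS : T ≤ S) {α : MulAut T} (hα : α ∈ F.autGroup T)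
    {Y : Subgroup Ω} (hYT : Y ≤ T) : IsIso F (autRes α hYT) :=
  hom_congr F (restrict_mem F ((mem_autGroup_iff F hTS α).mp hα) hYT) (fun _ => rfl)

end Cfsg.Agent.H85
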