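import Mathlib
import Cfsg.Prelude.Def_FusionSystem
import Cfsg.Agent.H85.Basic
import Cfsg.Agent.H85.Aut
import Cfsg.Agent.H85.Sat
import Cfsg.Agent.H85.Hyp

/-! Restriction of `Aut_F(Y)` to an invariant subgroup, and `O^p` under homomorphisms. -/

set_option autoImplicit false

namespace Cfsg.Agent.H85

open Cfsg Cfsg.FusionSystem

section grp

variable {A B : Type*} [Group A] [Group B]

/-- Any homomorphism maps `O^p` into `O^p`. -/
theorem pResidual_map_hom (f : A →* B) {p : ℕ} {a : A} (ha : a ∈ pResidual p A) :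
    f a ∈ pResidual p B := by
  have h : pResidual p A ≤ (pResidual p B).comap f := by
    refine (Subgroup.closure_le _).mpr ?_
    intro g hg
    have hg' : Nat.Coprime (orderOf g) p := hg
    show f g ∈ pResidual p B
    apply Subgroup.subset_closure
    show Nat.Coprime (orderOf (f g)) p
    exact Nat.Coprime.coprime_dvd_left (orderOf_map_dvd f g) hg'
  exact h ha

/-- An element whose image has order prime to `p` can be replaced by an element of order prime
to `p` with the same image. -/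
theorem exists_coprime_preimage [Finite A] (p : ℕ) [Fact p.Prime] (f : A →* B) (a : A)
    (hb : (orderOf (f a)).Coprime p) : ∃ a' : A, f a' = f a ∧ (orderOf a').Coprime p := by
  have hp : p.Prime := Fact.out
  have hn0 : orderOf a ≠ 0 := (orderOf_pos a).ne'
  obtain ⟨k, m, hm, hnm⟩ := Nat.exists_eq_pow_mul_and_not_dvd hn0 p hp.ne_one
  have hcop : (p ^ k).Coprime (orderOf (f a)) := (Nat.Coprime.pow_right k hb).symm
  obtain ⟨j, hj⟩ := exists_pow_eq_self_of_coprime hcop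
  refine ⟨(a ^ p ^ k) ^ j, ?_, ?_⟩
  · rw [map_pow, map_pow, hj]
  · have h1 : ((a ^ p ^ k) ^ j) ^ m = 1 := by
      have e : p ^ k * (j * m) = orderOf a * j := by rw [hnm]; ring
      rw [← pow_mul, ← pow_mul, e, pow_mul, pow_orderOf_eq_one, one_pow]
    have h2 : orderOf ((a ^ p ^ k) ^ j) ∣ m := orderOf_dvd_of_pow_eq_one h1
    have h3 : Nat.Coprime m p := ((Nat.Prime.coprime_iff_not_dvd hp).mpr hm).symm
    exact Nat.Coprime.coprime_dvd_left h2 h3

/-- A surjective homomorphism of finite groups maps `O^p` onto `O^p`. -/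
theorem pResidual_le_map_of_surjective [Finite A] (p : ℕ) [Fact p.Prime] (f : A →* B)
    (hf : Function.Surjective f) : pResidual p B ≤ (pResidual p A).map f := by
  refine (Subgroup.closure_le _).mpr ?_
  intro b hb
  have hb' : Nat.Coprime (orderOf b) p := hb
  obtain ⟨a, rfl⟩ := hf b
  obtain ⟨a', ha', hco⟩ := exists_coprime_preimage p f a hb'
  exact ⟨a', Subgroup.subset_closure hco, ha'⟩

end grp

variable {Ω : Type*} [Group Ω] {S : Subgroup Ω}

/-- Restriction of an automorphism of `Y` to a subgroup `R ≤ Y` stable under it and its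
inverse. -/
def resAut {Y R : Subgroup Ω} (hRY : R ≤ Y) (a : MulAut Y)
    (h : ∀ x : Y, (x : Ω) ∈ R → ((a x : Y) : Ω) ∈ R)
    (h' : ∀ x : Y, (x : Ω) ∈ R → ((a⁻¹ x : Y) : Ω) ∈ R) : MulAut R where
  toFun x := ⟨a ⟨x, hRY x.2⟩, h _ x.2⟩
  invFun x := ⟨a⁻¹ ⟨x, hRY x.2⟩, h' _ x.2⟩
  left_inv x := by
    apply Subtype.ext
    show ((a⁻¹ (a ⟨x, hRY x.2⟩) : Y) : Ω) = x
    rw [MulAut.inv_apply_self]
  right_inv x := by
    apply Subtype.ext
    show ((a (a⁻¹ ⟨x, hRY x.2⟩) : Y) : Ω) = x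
    rw [MulAut.apply_inv_self]
  map_mul' x y := by
    apply Subtype.ext
    show ((a (⟨x, hRY x.2⟩ * ⟨y, hRY y.2⟩) : Y) : Ω) = _
    rw [map_mul]
    rfl

theorem coe_resAut {Y R : Subgroup Ω} (hRY : R ≤ Y) (a : MulAut Y)
    (h : ∀ x : Y, (x : Ω) ∈ R → ((a x : Y) : Ω) ∈ R)
    (h' : ∀ x : Y, (x : Ω) ∈ R → ((a⁻¹ x : Y) : Ω) ∈ R) (x : R) :
    ((resAut hRY a h h' x : R) : Ω) = ((a ⟨x, hRY x.2⟩ : Y) : Ω) := rfl

/-- Restriction `Aut_F(Y) → Aut_F(R)` for a subgroup `R ≤ Y` stable under `Aut_F(Y)`. -/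
def resAutHom (F : FusionSystem S) {Y R : Subgroup Ω} (hYS : Y ≤ S) (hRY : R ≤ Y)
    (hstab : ∀ a ∈ F.autGroup Y, ∀ x : Y, (x : Ω) ∈ R → ((a x : Y) : Ω) ∈ R) :
    F.autGroup Y →* F.autGroup R where
  toFun a := ⟨resAut hRY a.1 (hstab a.1 a.2) (hstab _ ((F.autGroup Y).inv_mem a.2)),
    (mem_autGroup_iff F (hRY.trans hYS) _).mpr
      (hom_congr F (restrict_mem F ((mem_autGroup_iff F hYS a.1).mp a.2) hRY) (fun _ => rfl))⟩
  map_one' := Subtype.ext (MulEquiv.ext fun _ => Subtype.ext rfl)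
  map_mul' _ _ := Subtype.ext (MulEquiv.ext fun _ => Subtype.ext rfl)

theorem coe_resAutHom (F : FusionSystem S) {Y R : Subgroup Ω} (hYS : Y ≤ S) (hRY : R ≤ Y)
    (hstab : ∀ a ∈ F.autGroup Y, ∀ x : Y, (x : Ω) ∈ R → ((a x : Y) : Ω) ∈ R)
    (a : F.autGroup Y) (x : R) :
    ((((resAutHom F hYS hRY hstab a : F.autGroup R) : MulAut R) x : R) : Ω) =
      (((a : MulAut Y) ⟨x, hRY x.2⟩ : Y) : Ω) := rfl

end Cfsg.Agent.H85
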