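import Mathlib
import Cfsg.Prelude.Def_FusionSystem
import Cfsg.Agent.H85.Alperin
import Cfsg.Agent.H85.Hyp
import Cfsg.Agent.H85.Invariant
import Cfsg.Agent.H85.InvSys
import Cfsg.Agent.H85.ResAut
import Cfsg.Agent.H85.PPow
import Cfsg.Agent.Lib.Helper87.FSHyp
import Cfsg.Agent.Lib.Helper87.FSNormal

/-! A saturated subsystem of `p`-power index over a normal subgroup `T ≥ hyp(F)` of `S` is a
normal subsystem. -/

set_option autoImplicit false

namespace Cfsg.Agent.H85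

open Cfsg Cfsg.FusionSystem

variable {Ω : Type*} [Group Ω] {S T : Subgroup Ω}

/-- A subgroup of `S` containing the hyperfocal subgroup and normalized by `S` is strongly
closed. -/
theorem stronglyClosed_of_hyperfocal_le [Finite S] (p : ℕ) [Fact p.Prime] (hS : IsPGroup p S)
    (F : FusionSystem S) (hF : F.IsSaturated p) (T : Subgroup Ω) (hTS : T ≤ S)
    (hTn : ∀ s ∈ S, ∀ t ∈ T, s * t * s⁻¹ ∈ T) (hT : F.hyperfocalSubgroup p ≤ T) :
    F.StronglyClosed T := by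
  have key := alperin_induction hS F hF
    (fun P => {φ | φ ∈ F.Hom P ∧ ∀ x : P, (x : Ω) ∈ T ↔ φ x ∈ T})
    ?_ ?_ ?_ ?_
  · refine ⟨hTS, fun R hR φ hφ x => ?_⟩
    exact ((key R φ hφ).2 x).mp (hR x.2)
  · rintro P R φ ⟨hφ, h⟩ hRP
    exact ⟨restrict_mem F hφ hRP, fun x => h (Subgroup.inclusion hRP x)⟩
  · rintro P Q φ ψ ⟨hφ, h1⟩ ⟨hψ, h2⟩ h
    exact ⟨F.comp_mem hφ hψ h, fun x => (h1 x).trans (h2 ⟨φ x, h x⟩)⟩
  · rintro P Q e he ⟨-, h⟩
    refine ⟨isIso_symm F he, fun y => ?_⟩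
    have h1 := h (e.symm y)
    show (y : Ω) ∈ T ↔ ((e.symm y : P) : Ω) ∈ T
    rw [h1]
    show _ ↔ ((e (e.symm y) : Q) : Ω) ∈ T
    rw [e.apply_symm_apply]
  · intro Y hfa hrec α hα _ _
    have hY := hfa.1
    have step : ∀ β : MulAut Y, β ∈ F.autGroup Y → ∀ x : Y,
        (x : Ω) ∈ T → ((β x : Y) : Ω) ∈ T := by
      intro β hβ x hx
      obtain ⟨R, hR⟩ := hfa.2
      have hfin : Finite Y := finite_of_le hY
      obtain ⟨σ, hσ, ν, hν, hβeq⟩ := exists_mul_of_sylow R ⟨β, hβ⟩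
      have hσ' : (σ : MulAut Y) ∈ autInducedBy S Y := by
        have h0 : σ ∈ (R : Subgroup ↥(F.autGroup Y)) := hσ
        rw [hR] at h0
        exact Subgroup.mem_subgroupOf.mp h0
      obtain ⟨s, hs, hsx⟩ := (mem_autInducedBy_iff S Y _).mp hσ'
      have e1 : ((β x : Y) : Ω) = (((σ : MulAut Y) ((ν : MulAut Y) x) : Y) : Ω) := by
        have h3 : β = (σ : MulAut Y) * (ν : MulAut Y) := congrArg Subtype.val hβeq
        rw [h3]; rfl
      rw [e1, hsx]
      apply hTn s hs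
      have h2 := hT (mem_hyperfocal_of F p hY ν hν x)
      have e2 : (((ν : MulAut Y) x : Y) : Ω) =
          (x : Ω) * ((x : Ω)⁻¹ * (((ν : MulAut Y) x : Y) : Ω)) := by group
      rw [e2]; exact Subgroup.mul_mem _ hx h2
    refine ⟨(mem_autGroup_iff F hY α).mp hα, fun x => ⟨step α hα x, fun h => ?_⟩⟩
    have h4 := step α⁻¹ ((F.autGroup Y).inv_mem hα) (α x) h
    rwa [MulAut.inv_apply_self] at h4

/-- A saturated subsystem of `p`-power index is invariant under `Aut_F(T)`. -/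
theorem invCond_of_ppower [Finite S] (p : ℕ) [Fact p.Prime] (hS : IsPGroup p S)
    (F : FusionSystem S) (hTS : T ≤ S) (E : FusionSystem T) (hEs : E.IsSaturated p)
    (hEi : E.HasPPowerIndexIn F p) : InvCond E F := by
  apply invCond_of_le_invSys
  refine le_of_ppower_index p hS F E hEs hEi.1 hTS (invSys E (F.autGroup T)) le_rfl
    ⟨?_, hEi.2.1, ?_⟩
  · intro P φ h
    exact hEi.1 P h.1
  · intro P hPT
    rintro _ ⟨β, hβ, rfl⟩
    refine aut_mem_invSys E _ hPT _ (hEi.2.2 P hPT ⟨β, hβ, rfl⟩) (fun α hα => ?_)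
    have he := isIso_autRes F hTS hα hPT
    have h1 := pResidual_map_of_injective (autCongrHom F he) (autCongrHom_injective F he) hβ
    exact hEi.2.2 (autImage α P) (autImage_le α P) ⟨_, h1, rfl⟩

/-- The Frattini property for a subsystem of `p`-power index: every map of `F` is good on
subgroups of `T`. -/
theorem frattini_of_ppower [Finite S] (p : ℕ) [Fact p.Prime] (hS : IsPGroup p S)
    (F : FusionSystem S) (hF : F.IsSaturated p) (hT : F.StronglyClosed T) (E : FusionSystem T)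
    (hEi : E.HasPPowerIndexIn F p) (hinv : InvCond E F) :
    ∀ P, F.Hom P ⊆ (goodSys E F hT hinv).Hom P := by
  obtain ⟨𝒢, h𝒢⟩ : ∃ 𝒢 : FusionSystem S, 𝒢 = goodSys E F hT hinv := ⟨_, rfl⟩
  rw [← h𝒢]
  have h𝒢mem : ∀ {P : Subgroup Ω} (φ : P →* Ω), φ ∈ 𝒢.Hom P ↔ φ ∈ F.Hom P ∧
      ∀ (R : Subgroup Ω) (hRP : R ≤ P), R ≤ T → Good E F (φ.comp (Subgroup.inclusion hRP)) := by
    intro P φ; rw [h𝒢]; exact Iff.rfl
  refine Lib.Helper87.FSAlperin.alperin_induction hS F hF 𝒢 ?_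
  intro Y hfa hrec IH α hα hr
  have hY : Y ≤ S := hfa.1
  haveI : Finite Y := finite_of_le hY
  obtain ⟨n, hn, r, hr', hαnr⟩ := Lib.Helper87.FSHyp.autGroup_decomp F hfa _
    (Lib.Helper87.FSBasic.autOfMap_mem F hα hr)
  have hstab : ∀ a ∈ F.autGroup Y, ∀ x : Y, (x : Ω) ∈ Y ⊓ T → ((a x : Y) : Ω) ∈ Y ⊓ T := by
    intro a ha x hx
    exact ⟨(a x).2, Lib.Helper87.FSNormal.stronglyClosed_maps F hT
      ((mem_autGroup_iff F hY a).mp ha) x hx.2⟩
  have hn𝒢 : (n : MulAut Y) ∈ 𝒢.autGroup Y := by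
    rw [mem_autGroup_iff 𝒢 hY]
    refine (h𝒢mem _).mpr ⟨(mem_autGroup_iff F hY _).mp n.2, fun R hRY hRT => ?_⟩
    apply Good.of_mem
    have h1 := pResidual_map_hom (resAutHom F hY inf_le_left hstab) hn
    have h2 := hEi.2.2 (Y ⊓ T) inf_le_right ⟨_, h1, rfl⟩
    have h3 := (mem_autGroup_iff E inf_le_right _).mp h2
    exact hom_congr E (restrict_mem E h3 (le_inf hRY hRT)) (fun x => rfl)
  have hr𝒢 : r ∈ 𝒢.autGroup Y := autInducedBy_le_autGroup 𝒢 hY hr'
  have hmul : (n : MulAut Y) * r ∈ 𝒢.autGroup Y := Subgroup.mul_mem _ hn𝒢 hr𝒢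
  rw [← hαnr] at hmul
  have := (mem_autGroup_iff 𝒢 hY _).mp hmul
  exact hom_congr 𝒢 this (fun x => rfl)

/-- A strongly closed subgroup of a saturated system is receptive and fully automized. -/
theorem far_of_stronglyClosed [Finite S] {p : ℕ} (F : FusionSystem S) (hF : F.IsSaturated p)
    (hT : F.StronglyClosed T) : F.IsFullyAutomized p T ∧ F.IsReceptive T := by
  haveI : Finite T := finite_of_le hT.1
  obtain ⟨ρ, hρ, hfa, hrec⟩ := Lib.Helper87.FSSat.exists_far F hF hT.1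
  have hr : ρ.range = T := by
    apply Subgroup.eq_of_le_of_card_ge
    · rintro _ ⟨x, rfl⟩; exact hT.2 T le_rfl _ hρ x
    · exact (Nat.card_congr (MonoidHom.ofInjective (F.injective_of_mem hρ)).toEquiv).le
  rw [hr] at hfa hrec
  exact ⟨hfa, hrec⟩

/-- Every `F`-automorphism of a strongly closed subgroup `T` extends to an `F`-automorphism
of `T C_S(T)`. -/
theorem exists_aut_extension [Finite S] {p : ℕ} (F : FusionSystem S) (hF : F.IsSaturated p)
    (hT : F.StronglyClosed T) (ν : MulAut T) (hν : ν ∈ F.autGroup T) :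
    ∃ β ∈ F.autGroup (T ⊔ centralizerIn S T), ∀ x : T,
      ((β (Subgroup.inclusion le_sup_left x) : ↥(T ⊔ centralizerIn S T)) : Ω) = ((ν x : T) : Ω) := by
  have hrec := (far_of_stronglyClosed F hF hT).2
  have hνF := (mem_autGroup_iff F hT.1 ν).mp hν
  obtain ⟨ψ, hψ, hψx⟩ := receptive_extend_sup F hrec hνF (range_of_iso ν)
  have hU : T ⊔ centralizerIn S T ≤ S := sup_le hT.1 inf_le_left
  haveI : Finite ↥(T ⊔ centralizerIn S T) := finite_of_le hU
  have hQ : ∀ y ∈ T, ∃ x : T, ψ (Subgroup.inclusion le_sup_left x) = y := by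
    intro y hy
    refine ⟨ν⁻¹ ⟨y, hy⟩, ?_⟩
    rw [hψx]
    show ((ν (ν⁻¹ ⟨y, hy⟩) : T) : Ω) = y
    rw [MulAut.apply_inv_self]
  have htop : (T.subgroupOf (T ⊔ centralizerIn S T)) ⊔
      ((centralizerIn S T).subgroupOf (T ⊔ centralizerIn S T)) = ⊤ := by
    rw [← Subgroup.subgroupOf_sup le_sup_left le_sup_right, Subgroup.subgroupOf_self]
  have hle : Subgroup.map ψ ((T.subgroupOf (T ⊔ centralizerIn S T)) ⊔
      ((centralizerIn S T).subgroupOf (T ⊔ centralizerIn S T))) ≤ T ⊔ centralizerIn S T := by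
    rw [Subgroup.map_sup]
    refine sup_le ?_ ?_
    · rintro _ ⟨x, hx, rfl⟩
      have hxT : (x : Ω) ∈ T := Subgroup.mem_subgroupOf.mp hx
      have h1 := hψx ⟨x, hxT⟩
      have e : (Subgroup.inclusion le_sup_left (⟨x, hxT⟩ : T) : ↥(T ⊔ centralizerIn S T)) = x :=
        rfl
      rw [e] at h1
      rw [h1]
      exact (le_sup_left : T ≤ T ⊔ centralizerIn S T) (ν ⟨x, hxT⟩).2
    · rintro _ ⟨x, hx, rfl⟩
      exact (le_sup_right : centralizerIn S T ≤ T ⊔ centralizerIn S T)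
        (map_centralizer_mem F hψ hQ x (Subgroup.mem_subgroupOf.mp hx))
  have hrU : ψ.range = T ⊔ centralizerIn S T := by
    apply Subgroup.eq_of_le_of_card_ge
    · rintro _ ⟨c, rfl⟩
      apply hle
      rw [htop]
      exact ⟨c, Subgroup.mem_top c, rfl⟩
    · exact (Nat.card_congr (MonoidHom.ofInjective (F.injective_of_mem hψ)).toEquiv).le
  exact ⟨isoOf F hψ hrU, (mem_autGroup_iff F hU _).mpr (isIso_isoOf F hψ hrU), fun x => hψx x⟩

/-- The extension condition for a saturated subsystem of `F` over a strongly closed subgroup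
`T` containing the hyperfocal subgroup. -/
theorem extension_of_ppower [Finite S] (p : ℕ) [Fact p.Prime] (F : FusionSystem S)
    (hF : F.IsSaturated p) (hT : F.StronglyClosed T) (hhyp : F.hyperfocalSubgroup p ≤ T)
    (E : FusionSystem T) (hEs : E.IsSaturated p) (hEF : E.IsSubsystemOf F) :
    ∀ α ∈ E.autGroup T, ∃ β ∈ F.autGroup (T ⊔ centralizerIn S T),
      (∀ x : T, ((β (Subgroup.inclusion le_sup_left x) : ↥(T ⊔ centralizerIn S T)) : Ω) =
        ((α x : T) : Ω)) ∧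
      ∀ c : ↥(T ⊔ centralizerIn S T), (c : Ω) ∈ centralizerIn S T →
        (c : Ω)⁻¹ * ((β c : ↥(T ⊔ centralizerIn S T)) : Ω) ∈
          T ⊓ Subgroup.centralizer (T : Set Ω) := by
  intro α hα
  have hU : T ⊔ centralizerIn S T ≤ S := sup_le hT.1 inf_le_left
  haveI : Finite T := finite_of_le hT.1
  haveI : Finite ↥(T ⊔ centralizerIn S T) := finite_of_le hU
  have hfaT : E.IsFullyAutomized p T := (Lib.Helper87.FSSat.far_top E hEs).1
  obtain ⟨n, hn, r, hr, rfl⟩ := Lib.Helper87.FSHyp.autGroup_decomp E hfaT α hα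
  have hn' : (n : MulAut T) ∈ (pResidual p (F.autGroup T)).map (F.autGroup T).subtype :=
    Lib.Helper86.FSMore.pResidual_map_le p (Lib.Helper86.FSMore.autGroup_mono E F hEF T)
      ⟨n, hn, rfl⟩
  obtain ⟨ν, hν, hνn⟩ := hn'
  have hstab : ∀ a ∈ F.autGroup (T ⊔ centralizerIn S T), ∀ x : ↥(T ⊔ centralizerIn S T),
      (x : Ω) ∈ T → ((a x : ↥(T ⊔ centralizerIn S T)) : Ω) ∈ T := fun a ha x hx =>
    Lib.Helper87.FSNormal.stronglyClosed_maps F hT ((mem_autGroup_iff F hU a).mp ha) x hx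
  have hsurj : Function.Surjective (resAutHom F hU le_sup_left hstab) := by
    intro ν'
    obtain ⟨β, hβ, hβx⟩ := exists_aut_extension F hF hT ν'.1 ν'.2
    exact ⟨⟨β, hβ⟩, Subtype.ext (MulEquiv.ext fun x => Subtype.ext (hβx x))⟩
  haveI : Finite (MulAut ↥(T ⊔ centralizerIn S T)) :=
    Finite.of_injective (fun a : MulAut ↥(T ⊔ centralizerIn S T) =>
      (a : ↥(T ⊔ centralizerIn S T) → ↥(T ⊔ centralizerIn S T)))
      (fun a b h => MulEquiv.ext (congrFun h))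
  obtain ⟨β₁, hβ₁, hβ₁ν⟩ := pResidual_le_map_of_surjective p _ hsurj hν
  obtain ⟨t, ht, htx⟩ := (mem_autInducedBy_iff T T r).mp hr
  have htU : t ∈ T ⊔ centralizerIn S T := (le_sup_left : T ≤ T ⊔ centralizerIn S T) ht
  have htN : t ∈ Subgroup.normalizer ((T ⊔ centralizerIn S T : Subgroup Ω) : Set Ω) :=
    Subgroup.le_normalizer htU
  have hγ : (T ⊔ centralizerIn S T).normalizerMonoidHom ⟨t, htN⟩ ∈
      F.autGroup (T ⊔ centralizerIn S T) :=
    autInducedBy_le_autGroup F hU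
      ((mem_autInducedBy_iff S _ _).mpr ⟨t, hT.1 ht, fun x => rfl⟩)
  refine ⟨(β₁ : MulAut ↥(T ⊔ centralizerIn S T)) *
    (T ⊔ centralizerIn S T).normalizerMonoidHom ⟨t, htN⟩,
    Subgroup.mul_mem _ β₁.2 hγ, fun x => ?_, fun c hc => ?_⟩
  · have e : (T ⊔ centralizerIn S T).normalizerMonoidHom ⟨t, htN⟩
        (Subgroup.inclusion le_sup_left x) = Subgroup.inclusion le_sup_left (r x) :=
      Subtype.ext (htx x).symm
    show (((β₁ : MulAut ↥(T ⊔ centralizerIn S T))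
      ((T ⊔ centralizerIn S T).normalizerMonoidHom ⟨t, htN⟩
        (Subgroup.inclusion le_sup_left x)) : ↥(T ⊔ centralizerIn S T)) : Ω) =
      (((n : MulAut T) (r x) : T) : Ω)
    rw [e, ← hνn, ← hβ₁ν]
    rfl
  · have hc1 : (T ⊔ centralizerIn S T).normalizerMonoidHom ⟨t, htN⟩ c = c := by
      apply Subtype.ext
      show t * (c : Ω) * t⁻¹ = c
      rw [hc.2 t ht, mul_inv_cancel_right]
    show (c : Ω)⁻¹ * (((β₁ : MulAut ↥(T ⊔ centralizerIn S T))
      ((T ⊔ centralizerIn S T).normalizerMonoidHom ⟨t, htN⟩ c) : ↥(T ⊔ centralizerIn S T)) : Ω) ∈ _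
    rw [hc1]
    refine ⟨hhyp (mem_hyperfocal_of F p hU β₁ hβ₁ c), ?_⟩
    show (c : Ω)⁻¹ * (((β₁ : MulAut ↥(T ⊔ centralizerIn S T)) c :
      ↥(T ⊔ centralizerIn S T)) : Ω) ∈ Subgroup.centralizer (T : Set Ω)
    rw [Subgroup.mem_centralizer_iff]
    intro y hy
    have hyc : Commute y (c : Ω) := hc.2 y hy
    obtain ⟨y₀, hy₀⟩ : ∃ y₀ : ↥(T ⊔ centralizerIn S T), (y₀ : Ω) ∈ T ∧
        (((β₁ : MulAut ↥(T ⊔ centralizerIn S T)) y₀ : ↥(T ⊔ centralizerIn S T)) : Ω) = y := by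
      refine ⟨(β₁ : MulAut ↥(T ⊔ centralizerIn S T))⁻¹ ⟨y, (le_sup_left : T ≤ _) hy⟩, ?_, ?_⟩
      · exact hstab _ ((F.autGroup _).inv_mem β₁.2) _ hy
      · rw [MulAut.apply_inv_self]
    have hcomm : y₀ * c = c * y₀ := Subtype.ext (hc.2 (y₀ : Ω) hy₀.1)
    have hyb : Commute y (((β₁ : MulAut ↥(T ⊔ centralizerIn S T)) c :
        ↥(T ⊔ centralizerIn S T)) : Ω) := by
      rw [← hy₀.2]
      have h2 := congrArg (fun z : ↥(T ⊔ centralizerIn S T) =>
        (((β₁ : MulAut ↥(T ⊔ centralizerIn S T)) z : ↥(T ⊔ centralizerIn S T)) : Ω)) hcomm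
      simp only [map_mul, Subgroup.coe_mul] at h2
      exact h2
    exact (hyc.inv_right.mul_right hyb).eq

/-- A saturated subsystem of `p`-power index over a normal subgroup `T` of `S` containing the
hyperfocal subgroup is a normal subsystem. -/
theorem normal_of_ppower [Finite S] (p : ℕ) [Fact p.Prime] (hS : IsPGroup p S)
    (F : FusionSystem S) (hF : F.IsSaturated p) (T : Subgroup Ω) (hTS : T ≤ S)
    (hTn : (T.subgroupOf S).Normal) (hT : F.hyperfocalSubgroup p ≤ T) (E : FusionSystem T)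
    (hEs : E.IsSaturated p) (hEi : E.HasPPowerIndexIn F p) : E.IsNormalIn F p := by
  have hsc : F.StronglyClosed T := by
    refine stronglyClosed_of_hyperfocal_le p hS F hF T hTS (fun s hs t ht => ?_) hT
    have h := hTn.conj_mem ⟨t, hTS ht⟩ (Subgroup.mem_subgroupOf.mpr ht) ⟨s, hs⟩
    exact Subgroup.mem_subgroupOf.mp h
  have hinv := invCond_of_ppower p hS F hTS E hEs hEi
  refine ⟨⟨hEs, hF, hEi.1, hsc, hinv, fun P hPT φ hφ => ?_⟩,
    extension_of_ppower p F hF hsc hT E hEs hEi.1⟩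
  have h := (frattini_of_ppower p hS F hF hsc E hEi hinv P hφ).2 P le_rfl hPT
  exact Good.congr h (fun x => rfl)

end Cfsg.Agent.H85
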