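import Mathlib
import Cfsg.Prelude.Def_FusionSystem
import Cfsg.Agent.H85.Basic
import Cfsg.Agent.H85.Aut
import Cfsg.Agent.H85.Sat
import Cfsg.Agent.H85.GroupFS2
import Cfsg.Agent.H85.Invariant
import Cfsg.Agent.Lib.Helper87.FSBasic
import Cfsg.Agent.Lib.Helper87.FSSat
import Cfsg.Agent.Lib.Helper87.FSAlperin
import Cfsg.Agent.Lib.Helper87.FSLocal
import Cfsg.Agent.Lib.Helper87.ChainStab
import Cfsg.Agent.Lib.Helper87.FSNormal

set_option autoImplicit false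

namespace Cfsg.Agent.H85

open Cfsg Cfsg.FusionSystem

variable {Ω : Type*} [Group Ω] {S T : Subgroup Ω}

/-- The strong invariance condition for a subsystem `E` over `T` of `F`. -/
def StrongInv (E : FusionSystem T) (F : FusionSystem S) : Prop :=
  ∀ (P Q : Subgroup Ω) (hPQ : P ≤ Q) (_ : Q ≤ T) (φ : P →* Ω) (_ : φ ∈ E.Hom P)
    (hφQ : ∀ x : P, φ x ∈ Q) (ψ : Q →* Ω) (_ : ψ ∈ F.Hom Q),
    ∃ χ ∈ E.Hom ((P.subgroupOf Q).map ψ),
      ∀ (x : P) (hx : ψ (Subgroup.inclusion hPQ x) ∈ (P.subgroupOf Q).map ψ),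
        χ ⟨ψ (Subgroup.inclusion hPQ x), hx⟩ = ψ ⟨φ x, hφQ x⟩

theorem invCond_of_strongInv {E : FusionSystem T} {F : FusionSystem S} (hT : F.StronglyClosed T)
    (h : StrongInv E F) : InvCond E F := by
  intro P hPT φ hφ α hα
  have hψ := (mem_autGroup_iff F hT.1 α).mp hα
  obtain ⟨χ, hχ, hχx⟩ := h P T hPT le_rfl φ hφ (E.le_of_mem hφ).2 _ hψ
  exact ⟨χ, hχ, fun x hφx hαx => hχx x hαx⟩

/-- Under strong invariance, the restriction to a subgroup of `T` of an `F`-conjugate of conjugation by an element of `T` is a map of `E`. -/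
theorem conj_aut_restrict_mem (E : FusionSystem T) (F : FusionSystem S) (hT : F.StronglyClosed T)
    (hSI : StrongInv E F) {Y : Subgroup Ω} (hY : Y ≤ S) {γ : MulAut Y} (hγ : γ ∈ F.autGroup Y)
    {t : Ω} (ht : t ∈ T) (htN : t ∈ Subgroup.normalizer (Y : Set Ω))
    {R : Subgroup Ω} (hRY : R ≤ Y) (hRT : R ≤ T) :
    (Y.subtype.comp (γ * Y.normalizerMonoidHom ⟨t, htN⟩ * γ⁻¹).toMonoidHom).comp
      (Subgroup.inclusion hRY) ∈ E.Hom R := by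
  have hγF := (mem_autGroup_iff F hY γ).mp hγ
  have hγiF := (mem_autGroup_iff F hY γ⁻¹).mp (Subgroup.inv_mem _ hγ)
  have hψ := restrict_mem F hγF (inf_le_left : Y ⊓ T ≤ Y)
  obtain ⟨P, hPdef⟩ : ∃ P : Subgroup Ω,
    P = ((Y.subtype.comp (γ⁻¹).toMonoidHom).comp (Subgroup.inclusion hRY)).range := ⟨_, rfl⟩
  have hPmem : ∀ x : R, ((γ⁻¹ ⟨x, hRY x.2⟩ : Y) : Ω) ∈ P := fun x => by rw [hPdef]; exact ⟨x, rfl⟩
  have hPex : ∀ y ∈ P, ∃ x : R, ((γ⁻¹ ⟨x, hRY x.2⟩ : Y) : Ω) = y := by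
    intro y hy; rw [hPdef] at hy; exact hy
  have hPY : P ≤ Y := by
    intro y hy; obtain ⟨x, rfl⟩ := hPex y hy; exact (γ⁻¹ _).2
  have hPT : P ≤ T := by
    intro y hy; obtain ⟨x, rfl⟩ := hPex y hy
    exact hT.2 R hRT _ (restrict_mem F hγiF hRY) x
  have hPQ : P ≤ Y ⊓ T := le_inf hPY hPT
  have hφ : conjHom P t ∈ E.Hom P := E.conj_mem hPT ht
  have hφQ : ∀ x : P, conjHom P t x ∈ Y ⊓ T := by
    intro x
    refine ⟨(Subgroup.mem_normalizer_iff.mp htN x).mp (hPY x.2), ?_⟩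
    exact T.mul_mem (T.mul_mem ht (hPT x.2)) (T.inv_mem ht)
  obtain ⟨χ, hχ, hχx⟩ := hSI P (Y ⊓ T) hPQ inf_le_right _ hφ hφQ _ hψ
  have hψval : ∀ x : R, ((Y.subtype.comp γ.toMonoidHom).comp
      (Subgroup.inclusion (inf_le_left : Y ⊓ T ≤ Y)))
      (Subgroup.inclusion hPQ ⟨((γ⁻¹ ⟨x, hRY x.2⟩ : Y) : Ω), hPmem x⟩) = x := by
    intro x
    show ((γ ⟨((γ⁻¹ ⟨x, hRY x.2⟩ : Y) : Ω), _⟩ : Y) : Ω) = x
    have e : (⟨((γ⁻¹ ⟨x, hRY x.2⟩ : Y) : Ω), (γ⁻¹ ⟨x, hRY x.2⟩).2⟩ : Y) = γ⁻¹ ⟨x, hRY x.2⟩ := rfl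
    rw [e, MulAut.apply_inv_self]
  have himg : R ≤ (P.subgroupOf (Y ⊓ T)).map ((Y.subtype.comp γ.toMonoidHom).comp
      (Subgroup.inclusion (inf_le_left : Y ⊓ T ≤ Y))) := by
    intro x hx
    exact ⟨Subgroup.inclusion hPQ ⟨((γ⁻¹ ⟨x, hRY hx⟩ : Y) : Ω), hPmem ⟨x, hx⟩⟩,
      Subgroup.mem_subgroupOf.mpr (hPmem ⟨x, hx⟩), hψval ⟨x, hx⟩⟩
  refine hom_congr E (restrict_mem E hχ himg) (fun x => ?_)
  have hx' : ((Y.subtype.comp γ.toMonoidHom).comp (Subgroup.inclusion (inf_le_left : Y ⊓ T ≤ Y)))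
      (Subgroup.inclusion hPQ ⟨((γ⁻¹ ⟨x, hRY x.2⟩ : Y) : Ω), hPmem x⟩) ∈
      (P.subgroupOf (Y ⊓ T)).map ((Y.subtype.comp γ.toMonoidHom).comp
      (Subgroup.inclusion (inf_le_left : Y ⊓ T ≤ Y))) := by
    rw [hψval x]; exact himg x.2
  have key := hχx ⟨((γ⁻¹ ⟨x, hRY x.2⟩ : Y) : Ω), hPmem x⟩ hx'
  have e1 : (Subgroup.inclusion himg x) = ⟨_, hx'⟩ := Subtype.ext (hψval x).symm
  show _ = χ (Subgroup.inclusion himg x)
  rw [e1, key]
  rfl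

/-- Under strong invariance every map of the saturated system `F` is good on subgroups of `T`. -/
theorem le_goodSys [Finite S] {p : ℕ} [Fact p.Prime] (hS : IsPGroup p S) (F : FusionSystem S)
    (hF : F.IsSaturated p) (E : FusionSystem T) (hT : F.StronglyClosed T) (hSI : StrongInv E F) :
    ∀ P, F.Hom P ⊆ (goodSys E F hT (invCond_of_strongInv hT hSI)).Hom P := by
  obtain ⟨𝒢, h𝒢⟩ : ∃ 𝒢 : FusionSystem S, 𝒢 = goodSys E F hT (invCond_of_strongInv hT hSI) :=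
    ⟨_, rfl⟩
  rw [← h𝒢]
  have h𝒢mem : ∀ {P : Subgroup Ω} (φ : P →* Ω), φ ∈ 𝒢.Hom P ↔ φ ∈ F.Hom P ∧
      ∀ (R : Subgroup Ω) (hRP : R ≤ P), R ≤ T → Good E F (φ.comp (Subgroup.inclusion hRP)) := by
    intro P φ; rw [h𝒢]; exact Iff.rfl
  refine Lib.Helper87.FSAlperin.alperin_induction hS F hF 𝒢 ?_
  intro Y hfa hrec IH α hα hr
  have hY : Y ≤ S := hfa.1
  haveI : Finite Y := finite_of_le hY
  haveI : Finite T := finite_of_le hT.1
  by_cases hTY : T ≤ Y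
  · refine (h𝒢mem α).mpr ⟨hα, fun R hRY hRT => ?_⟩
    have hαT := restrict_mem F hα hTY
    have hrT : (α.comp (Subgroup.inclusion hTY)).range = T := by
      apply Subgroup.eq_of_le_of_card_ge
      · rintro _ ⟨x, rfl⟩; exact hT.2 T le_rfl _ hαT x
      · exact (Nat.card_congr (MonoidHom.ofInjective (F.injective_of_mem hαT)).toEquiv).le
    exact ⟨isoOf F hαT hrT, (mem_autGroup_iff F hT.1 _).mpr (isIso_isoOf F hαT hrT), R.subtype,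
      subtype_mem E hRT, fun x hx => rfl⟩
  · have hSN : S ≤ Subgroup.normalizer (T : Set Ω) :=
      Lib.Helper87.FSNormal.le_normalizer_of_stronglyClosed F hT
    obtain ⟨g, hgT, hgN, hgY⟩ :=
      Lib.Helper87.FSLocal.exists_mem_normalizer_of_not_le hS hY hT.1 (hY.trans hSN) hTY
    obtain ⟨N, hNdef⟩ : ∃ N : Subgroup (MulAut Y), N = Subgroup.closure
      {β | ∃ γ ∈ F.autGroup Y, ∃ (t : Ω) (_ : t ∈ T) (htN : t ∈ Subgroup.normalizer (Y : Set Ω)),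
        β = γ * Y.normalizerMonoidHom ⟨t, htN⟩ * γ⁻¹} := ⟨_, rfl⟩
    have hcS : ∀ (t : Ω) (_ : t ∈ T) (htN : t ∈ Subgroup.normalizer (Y : Set Ω)),
        Y.normalizerMonoidHom ⟨t, htN⟩ ∈ autInducedBy S Y :=
      fun t ht htN => (mem_autInducedBy_iff S Y _).mpr ⟨t, hT.1 ht, fun x => rfl⟩
    have hNA : N ≤ F.autGroup Y := by
      rw [hNdef, Subgroup.closure_le]
      rintro β ⟨γ, hγ, t, ht, htN, rfl⟩
      exact Subgroup.mul_mem _ (Subgroup.mul_mem _ hγ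
        (autInducedBy_le_autGroup F hY (hcS t ht htN))) (Subgroup.inv_mem _ hγ)
    have hnorm : ∀ a ∈ F.autGroup Y, ∀ n ∈ N, a * n * a⁻¹ ∈ N := by
      intro a ha n hn
      rw [hNdef] at hn ⊢
      induction hn using Subgroup.closure_induction with
      | mem β hβ =>
        obtain ⟨γ, hγ, t, ht, htN, rfl⟩ := hβ
        refine Subgroup.subset_closure ⟨a * γ, Subgroup.mul_mem _ ha hγ, t, ht, htN, ?_⟩
        group
      | one =>
        have : a * 1 * a⁻¹ = 1 := by group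
        rw [this]; exact Subgroup.one_mem _
      | mul x y _ _ hx hy =>
        have : a * (x * y) * a⁻¹ = (a * x * a⁻¹) * (a * y * a⁻¹) := by group
        rw [this]; exact Subgroup.mul_mem _ hx hy
      | inv x _ hx =>
        have : a * x⁻¹ * a⁻¹ = (a * x * a⁻¹)⁻¹ := by group
        rw [this]; exact Subgroup.inv_mem _ hx
    have hN𝒢 : N ≤ 𝒢.autGroup Y := by
      rw [hNdef, Subgroup.closure_le]
      rintro β ⟨γ, hγ, t, ht, htN, rfl⟩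
      refine (mem_autGroup_iff 𝒢 hY _).mpr ((h𝒢mem _).mpr ⟨?_, fun R hRY hRT => ?_⟩)
      · exact (mem_autGroup_iff F hY _).mp (Subgroup.mul_mem _ (Subgroup.mul_mem _ hγ
          (autInducedBy_le_autGroup F hY (hcS t ht htN))) (Subgroup.inv_mem _ hγ))
      · exact Good.of_mem (conj_aut_restrict_mem E F hT hSI hY hγ ht htN hRY hRT)
    obtain ⟨n, hn, ν, hν, hαnν, hνd⟩ := Lib.Helper87.ChainStab.frattini_decomp (F.autGroup Y) N
      (autInducedBy S Y) hNA hnorm (isPGroup_autInducedBy hS Y)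
      (fun K hK hKp => Lib.Helper87.FSSat.exists_conj_le_autS F hfa K hKp hK)
      (Lib.Helper87.FSBasic.autOfMap α (F.injective_of_mem hα) hr)
      (Lib.Helper87.FSBasic.autOfMap_mem F hα hr)
    have hcg : Y.normalizerMonoidHom ⟨g, hgN⟩ ∈ autInducedBy S Y ⊓ N := by
      refine ⟨hcS g hgT hgN, ?_⟩
      rw [hNdef]
      exact Subgroup.subset_closure ⟨1, Subgroup.one_mem _, g, hgT, hgN, by group⟩
    have hconj := (hνd _ hcg).1
    have hν𝒢 := Lib.Helper87.FSLocal.aut_mem_of_extends F 𝒢 hrec IH hν (hT.1 hgT) hgN hgY hconj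
    have hmul : n * ν ∈ 𝒢.autGroup Y :=
      Subgroup.mul_mem _ (hN𝒢 hn) ((mem_autGroup_iff 𝒢 hY ν).mpr hν𝒢)
    rw [← hαnν] at hmul
    have := (mem_autGroup_iff 𝒢 hY _).mp hmul
    exact hom_congr 𝒢 this (fun x => rfl)

/-- Invariance is equivalent to strong invariance (for a subsystem over a strongly closed subgroup of a saturated system). -/
theorem invariant_iff_strongInv [Finite S] (p : ℕ) [Fact p.Prime] (hS : IsPGroup p S)
    (F : FusionSystem S) (hF : F.IsSaturated p) (E : FusionSystem T) (hE : E.IsSubsystemOf F)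
    (hT : F.StronglyClosed T) : E.IsInvariantIn F ↔ StrongInv E F := by
  constructor
  · rintro ⟨-, -, hinv, hfrat⟩
    intro P Q hPQ hQT φ hφ hφQ ψ hψ
    have hPT : P ≤ T := hPQ.trans hQT
    obtain ⟨α, hα, ψ₀, hψ₀, hψα⟩ := hfrat Q hQT ψ hψ
    have hψ₀T : ∀ y, ψ₀ y ∈ T := (E.le_of_mem hψ₀).2
    -- the map ψ₀ φ ψ₀⁻¹ on ψ₀(P)
    have hψ₀P := restrict_mem E hψ₀ hPQ
    obtain ⟨ι₀, hι₀, hι₀x⟩ := E.inv_mem hψ₀P
    have hι₀P : ∀ y : ↥(ψ₀.comp (Subgroup.inclusion hPQ)).range, ι₀ y ∈ P := by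
      rintro ⟨_, x, rfl⟩
      rw [hι₀x x]; exact x.2
    have h1 := E.comp_mem hι₀ hφ hι₀P
    have h2 := E.comp_mem h1 hψ₀ (fun y => hφQ _)
    have hrT : (ψ₀.comp (Subgroup.inclusion hPQ)).range ≤ T := by
      rintro _ ⟨x, rfl⟩; exact hψ₀T _
    obtain ⟨χ, hχ, hχx⟩ := hinv _ hrT _ h2 α hα
    have himg : (P.subgroupOf Q).map ψ ≤ ((ψ₀.comp (Subgroup.inclusion hPQ)).range.subgroupOf T).map
        (T.subtype.comp α.toMonoidHom) := by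
      rintro _ ⟨y, hy, rfl⟩
      refine ⟨⟨ψ₀ y, hψ₀T y⟩, Subgroup.mem_subgroupOf.mpr ⟨⟨y, Subgroup.mem_subgroupOf.mp hy⟩, rfl⟩,
        ?_⟩
      exact (hψα y (hψ₀T y)).symm
    refine ⟨χ.comp (Subgroup.inclusion himg), restrict_mem E hχ himg, fun x hx => ?_⟩
    have hαx : ((α ⟨((⟨ψ₀ (Subgroup.inclusion hPQ x), ⟨x, rfl⟩⟩ :
        ↥(ψ₀.comp (Subgroup.inclusion hPQ)).range) : Ω), hrT ⟨x, rfl⟩⟩ : T) : Ω) ∈
        ((ψ₀.comp (Subgroup.inclusion hPQ)).range.subgroupOf T).map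
          (T.subtype.comp α.toMonoidHom) :=
      ⟨⟨ψ₀ (Subgroup.inclusion hPQ x), hψ₀T _⟩, Subgroup.mem_subgroupOf.mpr ⟨x, rfl⟩, rfl⟩
    have key := hχx ⟨ψ₀ (Subgroup.inclusion hPQ x), ⟨x, rfl⟩⟩ (hψ₀T _) hαx
    have e1 : Subgroup.inclusion himg ⟨ψ (Subgroup.inclusion hPQ x), hx⟩ = ⟨_, hαx⟩ :=
      Subtype.ext (hψα _ (hψ₀T _))
    show χ (Subgroup.inclusion himg ⟨ψ (Subgroup.inclusion hPQ x), hx⟩) = ψ ⟨φ x, hφQ x⟩
    rw [e1, key, hψα ⟨φ x, hφQ x⟩ (hψ₀T _)]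
    congr 3
    show ψ₀ ⟨φ ⟨ι₀ ⟨ψ₀ (Subgroup.inclusion hPQ x), ⟨x, rfl⟩⟩, _⟩, _⟩ = ψ₀ ⟨φ x, hφQ x⟩
    have e2 : (⟨ι₀ ⟨ψ₀ (Subgroup.inclusion hPQ x), ⟨x, rfl⟩⟩, hι₀P _⟩ : P) = x :=
      Subtype.ext (hι₀x x)
    congr 2
    rw [e2]
  · intro hSI
    have hinv := invCond_of_strongInv hT hSI
    refine ⟨hE, hT, hinv, fun P hPT φ hφ => ?_⟩
    have h1 := le_goodSys hS F hF E hT hSI P hφ
    exact h1.2 P le_rfl hPT

end Cfsg.Agent.H85
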