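import Mathlib
import Cfsg.Prelude.Def_FusionSystem
import Cfsg.Agent.H85.Basic
import Cfsg.Agent.H85.Aut
import Cfsg.Agent.H85.Sat
import Cfsg.Agent.H85.Hyp
import Cfsg.Agent.H85.Invariant
import Cfsg.Agent.H85.InvSys
import Cfsg.Agent.Lib.Helper87.FSAlperin
import Cfsg.Agent.Lib.Helper87.FSSat
import Cfsg.Agent.Lib.Helper87.FSLocal
import Cfsg.Agent.Lib.Helper87.ChainStab
import Cfsg.Agent.Lib.Helper88.AlpCentric

/-! Subsystems of index prime to `p` (BCGLO, Lemma 3.4): a subsystem `E` of a saturated `F`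
over `S` with `Aut_E(P) ≥ O^{p'}(Aut_F(P))` for the centric `P`. -/

set_option autoImplicit false

namespace Cfsg.Agent.H85

open Cfsg Cfsg.FusionSystem

/-- The subgroup generated by the elements of `p`-power order. -/
abbrev ppGen (p : ℕ) (A : Type*) [Group A] : Subgroup A :=
  Subgroup.closure {a : A | ∃ k : ℕ, orderOf a = p ^ k}

theorem ppGen_map_of_injective {A B : Type*} [Group A] [Group B] (f : A →* B)
    (hf : Function.Injective f) {p : ℕ} {a : A} (ha : a ∈ ppGen p A) : f a ∈ ppGen p B := by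
  have h : ppGen p A ≤ (ppGen p B).comap f := by
    refine (Subgroup.closure_le _).mpr ?_
    rintro g ⟨k, hk⟩
    exact Subgroup.subset_closure ⟨k, by rw [orderOf_injective f hf]; exact hk⟩
  exact h ha

theorem ppGen_conj_mem {A : Type*} [Group A] (p : ℕ) (a : A) {n : A} (hn : n ∈ ppGen p A) :
    a * n * a⁻¹ ∈ ppGen p A :=
  ppGen_map_of_injective (MulAut.conj a).toMonoidHom (MulAut.conj a).injective hn

variable {Ω : Type*} [Group Ω] {S : Subgroup Ω}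

theorem isCentric_of_isConj (F : FusionSystem S) {P Q : Subgroup Ω} (hP : F.IsCentric P)
    (h : F.IsConj P Q) : F.IsCentric Q :=
  ⟨IsConj_le_right F h, fun R hR => hP.2 R (isConj_trans F h hR)⟩

/-- The hypothesis on centric subgroups passes to the largest `Aut_F(S)`-invariant subsystem. -/
theorem ppGen_le_invSys (F E : FusionSystem S) (p : ℕ)
    (h : ∀ P : Subgroup Ω, F.IsCentric P →
      (ppGen p (F.autGroup P)).map (F.autGroup P).subtype ≤ E.autGroup P) :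
    ∀ P : Subgroup Ω, F.IsCentric P →
      (ppGen p (F.autGroup P)).map (F.autGroup P).subtype ≤
        (invSys E (F.autGroup S)).autGroup P := by
  intro P hP
  rintro _ ⟨β, hβ, rfl⟩
  refine aut_mem_invSys E _ hP.1 _ (h P hP ⟨β, hβ, rfl⟩) (fun α hα => ?_)
  have he := isIso_autRes F le_rfl hα hP.1
  have h1 := ppGen_map_of_injective (autCongrHom F he) (autCongrHom_injective F he) hβ
  exact h (autImage α P) (isCentric_of_isConj F hP (isConj_of_isIso F he)) ⟨_, h1, rfl⟩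

/-- The Frattini property: every map of `F` is an element of `Aut_F(S)` composed with a map of
the invariant subsystem `E'`. -/
theorem frattini_of_primeIdx [Finite S] (p : ℕ) [Fact p.Prime] (hS : IsPGroup p S)
    (F : FusionSystem S) (hF : F.IsSaturated p) (E' : FusionSystem S)
    (hE'F : E'.IsSubsystemOf F) (hT : F.StronglyClosed S) (hinv : InvCond E' F)
    (h : ∀ P : Subgroup Ω, F.IsCentric P →
      (ppGen p (F.autGroup P)).map (F.autGroup P).subtype ≤ E'.autGroup P) :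
    ∀ P, F.Hom P ⊆ (goodSys E' F hT hinv).Hom P := by
  obtain ⟨𝒢, h𝒢⟩ : ∃ 𝒢 : FusionSystem S, 𝒢 = goodSys E' F hT hinv := ⟨_, rfl⟩
  rw [← h𝒢]
  have h𝒢mem : ∀ {P : Subgroup Ω} (φ : P →* Ω), φ ∈ 𝒢.Hom P ↔ φ ∈ F.Hom P ∧
      ∀ (R : Subgroup Ω) (hRP : R ≤ P), R ≤ S → Good E' F (φ.comp (Subgroup.inclusion hRP)) := by
    intro P φ; rw [h𝒢]; exact Iff.rfl
  have hE'𝒢 : ∀ P, E'.Hom P ⊆ 𝒢.Hom P := fun P φ hφ =>
    (h𝒢mem φ).mpr ⟨hE'F P hφ, fun R hRP _ => Good.of_mem (restrict_mem E' hφ hRP)⟩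
  refine Lib.Helper87.FSAlperin.alperin_induction hS F hF 𝒢 ?_
  intro Y hfa hrec IH α hα hr
  have hY : Y ≤ S := hfa.1
  haveI : Finite Y := finite_of_le hY
  by_cases hc : F.IsCentric Y
  swap
  · obtain ⟨R, hYR, hlt, α', hα', hext⟩ :=
      Lib.Helper88.AlpCentric.extends_of_not_centric F hrec hα hr hc
    exact hom_congr 𝒢 (restrict_mem 𝒢 (IH R hlt hα') hYR) (fun x => (hext x).symm)
  by_cases hSY : S ≤ Y
  · refine (h𝒢mem α).mpr ⟨hα, fun R hRY hRT => ?_⟩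
    have hαT := restrict_mem F hα hSY
    have hrT : (α.comp (Subgroup.inclusion hSY)).range = S := by
      apply Subgroup.eq_of_le_of_card_ge
      · rintro _ ⟨x, rfl⟩; exact hT.2 S le_rfl _ hαT x
      · exact (Nat.card_congr (MonoidHom.ofInjective (F.injective_of_mem hαT)).toEquiv).le
    exact ⟨isoOf F hαT hrT, (mem_autGroup_iff F le_rfl _).mpr (isIso_isoOf F hαT hrT), R.subtype,
      subtype_mem E' hRT, fun x hx => rfl⟩
  · obtain ⟨g, hgS, hgN, hgY⟩ := Lib.Helper87.FSLocal.exists_mem_normalizer_of_not_le hS hY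
      (le_refl S) (hY.trans Subgroup.le_normalizer) hSY
    obtain ⟨N, hNdef⟩ : ∃ N : Subgroup (MulAut Y),
      N = (ppGen p (F.autGroup Y)).map (F.autGroup Y).subtype := ⟨_, rfl⟩
    have hNA : N ≤ F.autGroup Y := by
      rw [hNdef]
      rintro _ ⟨b, -, rfl⟩
      exact b.2
    have hnorm : ∀ a ∈ F.autGroup Y, ∀ n ∈ N, a * n * a⁻¹ ∈ N := by
      intro a ha n hn
      rw [hNdef] at hn ⊢
      obtain ⟨b, hb, rfl⟩ := hn
      exact ⟨⟨a, ha⟩ * b * ⟨a, ha⟩⁻¹, ppGen_conj_mem p ⟨a, ha⟩ hb, rfl⟩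
    have hN𝒢 : N ≤ 𝒢.autGroup Y := by
      rw [hNdef]
      intro b hb
      have h1 := h Y hc hb
      exact (mem_autGroup_iff 𝒢 hY b).mpr (hE'𝒢 Y ((mem_autGroup_iff E' hY b).mp h1))
    obtain ⟨n, hn, ν, hν, hαnν, hνd⟩ := Lib.Helper87.ChainStab.frattini_decomp (F.autGroup Y) N
      (autInducedBy S Y) hNA hnorm (isPGroup_autInducedBy hS Y)
      (fun K hK hKp => Lib.Helper87.FSSat.exists_conj_le_autS F hfa K hKp hK)
      (Lib.Helper87.FSBasic.autOfMap α (F.injective_of_mem hα) hr)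
      (Lib.Helper87.FSBasic.autOfMap_mem F hα hr)
    have hcS : Y.normalizerMonoidHom ⟨g, hgN⟩ ∈ autInducedBy S Y :=
      (mem_autInducedBy_iff S Y _).mpr ⟨g, hgS, fun x => rfl⟩
    have hcg : Y.normalizerMonoidHom ⟨g, hgN⟩ ∈ autInducedBy S Y ⊓ N := by
      refine ⟨hcS, ?_⟩
      rw [hNdef]
      obtain ⟨k, hk⟩ := (IsPGroup.iff_orderOf.mp (isPGroup_autInducedBy hS Y)) ⟨_, hcS⟩
      refine ⟨⟨_, autInducedBy_le_autGroup F hY hcS⟩, Subgroup.subset_closure ⟨k, ?_⟩, rfl⟩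
      rw [← hk, ← Subgroup.orderOf_coe, ← Subgroup.orderOf_coe]
    have hconj := (hνd _ hcg).1
    have hν𝒢 := Lib.Helper87.FSLocal.aut_mem_of_extends F 𝒢 hrec IH hν hgS hgN hgY hconj
    have hmul : n * ν ∈ 𝒢.autGroup Y :=
      Subgroup.mul_mem _ (hN𝒢 hn) ((mem_autGroup_iff 𝒢 hY ν).mpr hν𝒢)
    rw [← hαnν] at hmul
    have := (mem_autGroup_iff 𝒢 hY _).mp hmul
    exact hom_congr 𝒢 this (fun x => rfl)

/-- Given the Frattini property, every `F`-automorphism of `p`-power order lies in the invariant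
subsystem `E'`. -/
theorem pElement_mem_of_frattini [Finite S] (p : ℕ) [Fact p.Prime]
    (F : FusionSystem S) (hF : F.IsSaturated p) (E' : FusionSystem S)
    (hT : F.StronglyClosed S) (hinv : InvCond E' F)
    (hfrat : ∀ P, F.Hom P ⊆ (goodSys E' F hT hinv).Hom P) {P : Subgroup Ω} (hP : P ≤ S)
    (β : F.autGroup P) (k : ℕ) (hβ : orderOf β = p ^ k) : (β : MulAut P) ∈ E'.autGroup P := by
  haveI : Finite P := finite_of_le hP
  obtain ⟨ρ, hρ, hfa, hrec⟩ := Lib.Helper87.FSSat.exists_far F hF hP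
  obtain ⟨P', hP'def⟩ : ∃ P' : Subgroup Ω, ρ.range = P' := ⟨_, rfl⟩
  rw [hP'def] at hfa hrec
  obtain ⟨e, hedef⟩ : ∃ e : P ≃* P', e = isoOf F hρ hP'def := ⟨_, rfl⟩
  have he : IsIso F e := by rw [hedef]; exact isIso_isoOf F hρ hP'def
  have hP' : P' ≤ S := hfa.1
  haveI : Finite P' := finite_of_le hP'
  have hβ' : MulAut.congr e (β : MulAut P) ∈ F.autGroup P' := congr_mem_autGroup F he β.2
  have ho : orderOf (MulAut.congr e (β : MulAut P)) = p ^ k := by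
    rw [← hβ, ← Subgroup.orderOf_coe]
    exact orderOf_injective (MulAut.congr e).toMonoidHom (MulAut.congr e).injective _
  have hKp : IsPGroup p (Subgroup.zpowers (MulAut.congr e (β : MulAut P))) :=
    IsPGroup.of_card (n := k) (by rw [Nat.card_zpowers, ho])
  obtain ⟨χ, hχ, hχK⟩ := Lib.Helper87.FSSat.exists_conj_le_autS F hfa _ hKp
    (by rw [Subgroup.zpowers_le]; exact hβ')
  obtain ⟨s, hs, hsx⟩ := (mem_autInducedBy_iff S P' _).mp (hχK _ (Subgroup.mem_zpowers _))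
  have hε : IsIso F (e.trans (χ : P' ≃* P')) :=
    isIso_trans F he ((mem_autGroup_iff F hP' χ).mp hχ)
  obtain ⟨α, hα, ε₀, hε₀, hεα⟩ := (hfrat P hε).2 P le_rfl hP
  have hε₀S : ∀ x, ε₀ x ∈ S := (E'.le_of_mem hε₀).2
  have hεα' : ∀ x : P, ((χ (e x) : P') : Ω) = ((α ⟨ε₀ x, hε₀S x⟩ : S) : Ω) :=
    fun x => hεα x (hε₀S x)
  -- the key relation
  have key : ∀ x : P, ε₀ ((β : MulAut P) x) =
      ((α⁻¹ ⟨s, hs⟩ : S) : Ω) * ε₀ x * ((α⁻¹ ⟨s, hs⟩ : S) : Ω)⁻¹ := by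
    intro x
    have h1 := hsx (χ (e x))
    have h2 : (χ * MulAut.congr e (β : MulAut P) * χ⁻¹) (χ (e x)) = χ (e ((β : MulAut P) x)) := by
      show χ (MulAut.congr e (β : MulAut P) (χ⁻¹ (χ (e x)))) = _
      rw [MulAut.inv_apply_self]
      show χ (e ((β : MulAut P) (e.symm (e x)))) = _
      rw [MulEquiv.symm_apply_apply]
    rw [h2, hεα', hεα'] at h1
    have h3 : α ⟨ε₀ ((β : MulAut P) x), hε₀S _⟩ = ⟨s, hs⟩ * α ⟨ε₀ x, hε₀S x⟩ * (⟨s, hs⟩ : S)⁻¹ :=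
      Subtype.ext h1
    have h4 := congrArg (fun z : S => ((α⁻¹ z : S) : Ω)) h3
    simp only [map_mul, map_inv, MulAut.inv_apply_self, Subgroup.coe_mul, Subgroup.coe_inv] at h4
    exact h4
  have hs' : ((α⁻¹ ⟨s, hs⟩ : S) : Ω) ∈ S := (α⁻¹ ⟨s, hs⟩).2
  have hP₀ : ε₀.range ≤ S := by
    rintro _ ⟨x, rfl⟩
    exact hε₀S x
  obtain ⟨ι, hι, hιx⟩ := E'.inv_mem hε₀
  have h1 : ∀ x : P, ε₀ x ∈ ε₀.range := fun x => ⟨x, rfl⟩
  have c1 := E'.comp_mem hε₀ (E'.conj_mem hP₀ hs') h1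
  have h2 : ∀ x : P, ((conjHom ε₀.range ((α⁻¹ ⟨s, hs⟩ : S) : Ω)).comp
      (ε₀.codRestrict ε₀.range h1)) x ∈ ε₀.range := by
    intro x
    refine ⟨(β : MulAut P) x, ?_⟩
    rw [key x]
    rfl
  have c2 := E'.comp_mem c1 hι h2
  refine (mem_autGroup_iff E' hP _).mpr (hom_congr E' c2 (fun x => ?_))
  have e2 : (((conjHom ε₀.range ((α⁻¹ ⟨s, hs⟩ : S) : Ω)).comp
      (ε₀.codRestrict ε₀.range h1)).codRestrict ε₀.range h2 x) =
      ⟨ε₀ ((β : MulAut P) x), ⟨_, rfl⟩⟩ := Subtype.ext (key x).symm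
  show (((β : MulAut P) x : P) : Ω) = ι (((conjHom ε₀.range ((α⁻¹ ⟨s, hs⟩ : S) : Ω)).comp
      (ε₀.codRestrict ε₀.range h1)).codRestrict ε₀.range h2 x)
  rw [e2, hιx]

/-- BCGLO Lemma 3.4: a subsystem `E` of the saturated system `F` over `S` whose automorphism
groups of `F`-centric subgroups contain the elements of `p`-power order has index prime to `p`,
satisfies the Frattini property with respect to `Aut_F(S)`, and has the same centric subgroups. -/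
theorem primeIdx_main [Finite S] (p : ℕ) [Fact p.Prime] (hS : IsPGroup p S)
    (F : FusionSystem S) (hF : F.IsSaturated p) (E : FusionSystem S) (hEF : E.IsSubsystemOf F)
    (h : ∀ P : Subgroup Ω, F.IsCentric P →
      (Subgroup.closure {α : ↥(F.autGroup P) | ∃ k : ℕ, orderOf α = p ^ k}).map
        (F.autGroup P).subtype ≤ E.autGroup P) :
    E.HasPrimeToPIndexIn F p ∧
      (∀ (P : Subgroup Ω) (φ : P →* Ω), φ ∈ F.Hom P → ∃ α ∈ F.autGroup S, ∃ φ₀ ∈ E.Hom P,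
        ∀ (x : P) (hx : φ₀ x ∈ S), φ x = ((α ⟨φ₀ x, hx⟩ : S) : Ω)) ∧
      ∀ P : Subgroup Ω, E.IsCentric P ↔ F.IsCentric P := by
  have hT : F.StronglyClosed S := ⟨le_rfl, fun _ _ _ hφ x => (F.le_of_mem hφ).2 x⟩
  obtain ⟨E', hE'def⟩ : ∃ E' : FusionSystem S, E' = invSys E (F.autGroup S) := ⟨_, rfl⟩
  have hE'E : E'.IsSubsystemOf E := by rw [hE'def]; exact invSys_le E _
  have hE'F : E'.IsSubsystemOf F := fun P φ hφ => hEF P (hE'E P hφ)
  have hinv : InvCond E' F := by rw [hE'def]; exact invSys_invCond E F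
  have h' : ∀ P : Subgroup Ω, F.IsCentric P →
      (ppGen p (F.autGroup P)).map (F.autGroup P).subtype ≤ E'.autGroup P := by
    rw [hE'def]; exact ppGen_le_invSys F E p h
  have hfrat := frattini_of_primeIdx p hS F hF E' hE'F hT hinv h'
  have hfrat' : ∀ (P : Subgroup Ω) (φ : P →* Ω), φ ∈ F.Hom P → ∃ α ∈ F.autGroup S,
      ∃ φ₀ ∈ E.Hom P, ∀ (x : P) (hx : φ₀ x ∈ S), φ x = ((α ⟨φ₀ x, hx⟩ : S) : Ω) := by
    intro P φ hφ
    obtain ⟨α, hα, φ₀, hφ₀, hφα⟩ := (hfrat P hφ).2 P le_rfl (F.le_of_mem hφ).1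
    exact ⟨α, hα, φ₀, hE'E P hφ₀, fun x hx => hφα x hx⟩
  refine ⟨⟨hEF, fun P hP => ?_⟩, hfrat', fun P => ⟨fun hPc => ?_, fun hPc => ?_⟩⟩
  · refine (Subgroup.map_le_iff_le_comap).mpr ((Subgroup.closure_le _).mpr ?_)
    rintro β ⟨k, hk⟩
    have h1 := pElement_mem_of_frattini p F hF E' hT hinv hfrat hP β k hk
    have hmono : E'.autGroup P ≤ E.autGroup P := Subgroup.closure_mono (fun a ha => hE'E P ha)
    exact hmono h1
  · -- E-centric implies F-centric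
    refine ⟨hPc.1, ?_⟩
    rintro Q ⟨φ, hφ, rfl⟩
    obtain ⟨α, hα, φ₀, hφ₀, hφα⟩ := hfrat' P φ hφ
    have hφ₀S : ∀ x, φ₀ x ∈ S := (E.le_of_mem hφ₀).2
    have hQ₀ := hPc.2 φ₀.range ⟨φ₀, hφ₀, rfl⟩
    intro c hc
    have hcS : c ∈ S := hc.1
    have hc' : ((α⁻¹ ⟨c, hcS⟩ : S) : Ω) ∈ centralizerIn S φ₀.range := by
      refine ⟨(α⁻¹ ⟨c, hcS⟩).2, ?_⟩
      show ((α⁻¹ ⟨c, hcS⟩ : S) : Ω) ∈ Subgroup.centralizer (φ₀.range : Set Ω)
      rw [Subgroup.mem_centralizer_iff]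
      rintro _ ⟨x, rfl⟩
      have h1 : φ x * c = c * φ x := (Subgroup.mem_centralizer_iff.mp hc.2) (φ x) ⟨x, rfl⟩
      rw [hφα x (hφ₀S x)] at h1
      have h2 : α ⟨φ₀ x, hφ₀S x⟩ * ⟨c, hcS⟩ = ⟨c, hcS⟩ * α ⟨φ₀ x, hφ₀S x⟩ := Subtype.ext h1
      have h3 := congrArg (fun z : S => ((α⁻¹ z : S) : Ω)) h2
      simp only [map_mul, MulAut.inv_apply_self, Subgroup.coe_mul] at h3
      exact h3
    obtain ⟨x₀, hx₀⟩ := hQ₀ hc'
    refine ⟨x₀, ?_⟩
    rw [hφα x₀ (hφ₀S x₀)]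
    have e : (⟨φ₀ x₀, hφ₀S x₀⟩ : S) = α⁻¹ ⟨c, hcS⟩ := Subtype.ext hx₀
    rw [e, MulAut.apply_inv_self]
  · -- F-centric implies E-centric
    refine ⟨hPc.1, ?_⟩
    rintro Q ⟨φ, hφ, rfl⟩
    exact hPc.2 φ.range ⟨φ, hEF P hφ, rfl⟩

end Cfsg.Agent.H85
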