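import Cfsg.Agent.H85.Iso1
import Cfsg.Agent.H85.Aut
import Cfsg.Agent.Lib.Helper87.FSFactor

set_option autoImplicit false

namespace Cfsg.Agent.H85

open Cfsg Cfsg.FusionSystem

section Iso

variable {Ω : Type*} [Group Ω] {S : Subgroup Ω} {Ω' : Type*} [Group Ω'] {S' : Subgroup Ω'}

theorem stronglyClosed_bot (F : FusionSystem S) : F.StronglyClosed ⊥ := by
  refine ⟨bot_le, fun R hR φ hφ x => ?_⟩
  have hx : (x : Ω) = 1 := Subgroup.mem_bot.mp (hR x.2)
  have : x = 1 := Subtype.ext hx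
  rw [this, map_one]; exact Subgroup.one_mem _

/-- An isomorphism in the sense of `IsFactorSystem ⊥` gives an `IsoRel`. -/
theorem isoRel_of_factor {F : FusionSystem S} {F' : FusionSystem S'} {θ : S →* Ω'}
    (hF : F.IsFactorSystem ⊥ θ F') :
    ∃ e : S ≃* S', (∀ s, ((e s : S') : Ω') = θ s) ∧ IsoRel e F F' := by
  obtain ⟨-, hker, hrange, hmem⟩ := hF
  have hinj : Function.Injective θ := by
    rw [injective_iff_map_eq_one]
    intro s hs
    exact Subtype.ext (Subgroup.mem_bot.mp ((hker s).mp hs))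
  obtain ⟨e, he⟩ : ∃ e : S ≃* S', ∀ s, ((e s : S') : Ω') = θ s :=
    ⟨(MonoidHom.ofInjective hinj).trans (MulEquiv.subgroupCongr hrange), fun s => rfl⟩
  refine ⟨e, he, ?_⟩
  rintro P P' φ φ' ⟨hc, hφ, heq⟩
  have hPeq : preimageAlong θ P' = P := by
    ext x
    rw [mem_preimageAlong]
    constructor
    · rintro ⟨hx, h⟩
      rw [← he] at h
      exact (hc.2.2 ⟨x, hx⟩).mpr h
    · intro hx
      refine ⟨hc.1 hx, ?_⟩
      rw [← he]
      exact (hc.2.2 ⟨x, hc.1 hx⟩).mp hx
  rw [hmem P' φ']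
  constructor
  · intro h
    refine ⟨hc.2.1, φ.comp (Subgroup.inclusion hPeq.le), restrict_mem F h hPeq.le,
      preimageAlong_le θ P', fun x => hφ _, fun x => ((mem_preimageAlong θ P' x).mp x.2).2,
      fun x => ?_⟩
    have h1 := heq (Subgroup.inclusion hPeq.le x)
    rw [he] at h1
    have e1 : (hc.equiv (Subgroup.inclusion hPeq.le x) : P') =
        ⟨θ ⟨x, preimageAlong_le θ P' x.2⟩, ((mem_preimageAlong θ P' x).mp x.2).2⟩ :=
      Subtype.ext (he _)
    rw [e1] at h1
    exact h1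
  · rintro ⟨-, ψ, hψ, h1, h2, h3, h4⟩
    refine hom_congr F (restrict_mem F hψ hPeq.ge) (fun x => ?_)
    have k1 := heq x
    have k2 := h4 (Subgroup.inclusion hPeq.ge x)
    have e1 : (hc.equiv x : P') =
        ⟨θ ⟨(Subgroup.inclusion hPeq.ge x : ↥(preimageAlong θ P')), h1 (Subgroup.inclusion hPeq.ge x).2⟩,
          h3 (Subgroup.inclusion hPeq.ge x)⟩ := Subtype.ext (he _)
    rw [e1, k2, he] at k1
    have k3 := hinj k1
    exact (congrArg Subtype.val k3).symm

/-- An `IsoRel` is an isomorphism in the sense of `IsFactorSystem ⊥`. -/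
theorem factor_of_isoRel {e : S ≃* S'} {F : FusionSystem S} {F' : FusionSystem S'}
    (h : IsoRel e F F') : F.IsFactorSystem ⊥ (S'.subtype.comp e.toMonoidHom) F' := by
  refine ⟨bot_le, fun s => ?_, ?_, fun P' φ' => ?_⟩
  · rw [Subgroup.mem_bot]
    constructor
    · intro hs
      have h1 : e s = 1 := Subtype.ext hs
      have : s = 1 := by rw [← e.symm_apply_apply s, h1, map_one]
      rw [this]; rfl
    · intro hs
      have : s = 1 := Subtype.ext hs
      rw [this, map_one]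
  · ext y
    constructor
    · rintro ⟨s, rfl⟩; exact (e s).2
    · intro hy
      exact ⟨e.symm ⟨y, hy⟩, by show ((e (e.symm ⟨y, hy⟩) : S') : Ω') = y; rw [e.apply_symm_apply]⟩
  · have hcorr : P' ≤ S' → Corr e (preimageAlong (S'.subtype.comp e.toMonoidHom) P') P' := by
      intro hP'
      refine ⟨preimageAlong_le _ P', hP', fun s => ?_⟩
      rw [mem_preimageAlong]
      constructor
      · rintro ⟨_, h⟩; exact h
      · intro h; exact ⟨s.2, h⟩
    constructor
    · intro hφ'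
      have hP' := (F'.le_of_mem hφ').1
      have hc := hcorr hP'
      have m : Match e (hc.symm.push φ' (F'.le_of_mem hφ').2) φ' :=
        (hc.symm.push_match φ' _).of_symm
      refine ⟨hP', _, h.symm.push_mem hc.symm hφ', hc.1, m.val_mem, fun x => hc.mem x, fun x => ?_⟩
      exact m.apply x
    · rintro ⟨hP', φ, hφ, h1, h2, h3, h4⟩
      have hc := hcorr hP'
      exact (h _ P' φ φ' ⟨hc, h2, fun x => h4 x⟩).mp hφ

theorem IsoRel.trans {Ω'' : Type*} [Group Ω''] {S'' : Subgroup Ω''} {e₁ : S ≃* S'} {e₂ : S' ≃* S''}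
    {F : FusionSystem S} {F' : FusionSystem S'} {F'' : FusionSystem S''} (h₁ : IsoRel e₁ F F')
    (h₂ : IsoRel e₂ F' F'') : IsoRel (e₁.trans e₂) F F'' := by
  rintro P P'' φ φ'' ⟨hc, hφ, heq⟩
  obtain ⟨P', hc₁⟩ := Corr.exists_right e₁ hc.1
  have hc₂ : Corr e₂ P' P'' := by
    refine ⟨hc₁.2.1, hc.2.1, fun s' => ?_⟩
    have h1 := hc₁.2.2 (e₁.symm s')
    have h2 := hc.2.2 (e₁.symm s')
    rw [e₁.apply_symm_apply] at h1
    have e3 : (e₁.trans e₂) (e₁.symm s') = e₂ s' := by
      show e₂ (e₁ (e₁.symm s')) = e₂ s'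
      rw [e₁.apply_symm_apply]
    rw [e3] at h2
    rw [← h1, h2]
  have m₁ : Match e₁ φ (hc₁.push φ hφ) := hc₁.push_match φ hφ
  have m₂ : Match e₂ (hc₁.push φ hφ) φ'' := by
    refine ⟨hc₂, m₁.val_mem', fun y => ?_⟩
    obtain ⟨x, rfl⟩ := hc₁.equiv.surjective y
    have k1 := heq x
    have e4 : hc₂.equiv (hc₁.equiv x) = hc.equiv x := Subtype.ext rfl
    rw [e4, k1]
    have e5 : (⟨hc₁.push φ hφ (hc₁.equiv x), m₁.val_mem' _⟩ : S') = e₁ ⟨φ x, hφ x⟩ :=
      Subtype.ext (hc₁.push_equiv φ hφ x)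
    rw [e5]
    rfl
  rw [h₁ P P' φ _ m₁, h₂ P' P'' _ φ'' m₂]

/-- The image of a fusion system under an isomorphism of the underlying groups exists. -/
theorem exists_isoRel [Finite S] (F : FusionSystem S) (e : S ≃* S') :
    ∃ F' : FusionSystem S', IsoRel e F F' := by
  have hker : ∀ s : S, (S'.subtype.comp e.toMonoidHom) s = 1 ↔ (s : Ω) ∈ (⊥ : Subgroup Ω) := by
    intro s
    rw [Subgroup.mem_bot]
    constructor
    · intro hs
      have h1 : e s = 1 := Subtype.ext hs
      have : s = 1 := by rw [← e.symm_apply_apply s, h1, map_one]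
      rw [this]; rfl
    · intro hs
      have : s = 1 := Subtype.ext hs
      rw [this, map_one]
  have hrange : (S'.subtype.comp e.toMonoidHom).range = S' := by
    ext y
    constructor
    · rintro ⟨s, rfl⟩; exact (e s).2
    · intro hy
      exact ⟨e.symm ⟨y, hy⟩, by show ((e (e.symm ⟨y, hy⟩) : S') : Ω') = y; rw [e.apply_symm_apply]⟩
  obtain ⟨F', hF'⟩ := exists_factorSystem F ⊥ (stronglyClosed_bot F) _ hker S' hrange
  obtain ⟨e₂, he₂, h⟩ := isoRel_of_factor hF'
  exact ⟨F', h.congr (fun s => Subtype.ext (he₂ s))⟩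

/-- Saturation is transported along isomorphisms. -/
theorem IsoRel.saturated [Finite S] {p : ℕ} [Fact p.Prime] (hS : IsPGroup p S) {e : S ≃* S'}
    {F : FusionSystem S} {F' : FusionSystem S'} (h : IsoRel e F F') (hF : F.IsSaturated p) :
    F'.IsSaturated p :=
  Lib.Helper87.FSFactor.factor_saturated hS F hF ⊥ (stronglyClosed_bot F) _ F' (factor_of_isoRel h)

theorem IsoRel.stronglyClosed {e : S ≃* S'} {F : FusionSystem S} {F' : FusionSystem S'}
    (h : IsoRel e F F') {T : Subgroup Ω} {T' : Subgroup Ω'} (hT : Corr e T T')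
    (hsc : F.StronglyClosed T) : F'.StronglyClosed T' := by
  refine ⟨hT.2.1, fun R' hR' φ' hφ' y => ?_⟩
  obtain ⟨R, φ, m, hφ⟩ := h.exists_pull hφ'
  have hR : R ≤ T := (m.corr.le_iff hT).mpr hR'
  have h1 := m.apply (m.corr.equiv.symm y)
  rw [m.corr.equiv.apply_symm_apply] at h1
  rw [h1]
  exact (hT.2.2 _).mp (hsc.2 R hR φ hφ _)

/-- Correspondence of automorphisms. -/
theorem IsoRel.autGroup_congr {e : S ≃* S'} {F : FusionSystem S} {F' : FusionSystem S'}
    (h : IsoRel e F F') {P : Subgroup Ω} {P' : Subgroup Ω'} (hc : Corr e P P') (α : MulAut P) :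
    α ∈ F.autGroup P ↔ MulAut.congr hc.equiv α ∈ F'.autGroup P' := by
  rw [mem_autGroup_iff F hc.1, mem_autGroup_iff F' hc.2.1]
  apply h
  refine ⟨hc, fun x => hc.1 (α x).2, fun x => ?_⟩
  show (((MulAut.congr hc.equiv α) (hc.equiv x) : P') : Ω') = _
  have : (MulAut.congr hc.equiv α) (hc.equiv x) = hc.equiv (α x) := by
    show hc.equiv (α (hc.equiv.symm (hc.equiv x))) = hc.equiv (α x)
    rw [hc.equiv.symm_apply_apply]
  rw [this]
  rfl

theorem IsoRel.autGroup_congr' {e : S ≃* S'} {F : FusionSystem S} {F' : FusionSystem S'}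
    (h : IsoRel e F F') {P : Subgroup Ω} {P' : Subgroup Ω'} (hc : Corr e P P') (α' : MulAut P') :
    α' ∈ F'.autGroup P' ↔ MulAut.congr hc.equiv.symm α' ∈ F.autGroup P := by
  rw [h.autGroup_congr hc]
  have : MulAut.congr hc.equiv (MulAut.congr hc.equiv.symm α') = α' := by
    apply MulEquiv.ext
    intro y
    show hc.equiv (hc.equiv.symm (α' (hc.equiv.symm.symm (hc.equiv.symm y)))) = α' y
    rw [hc.equiv.apply_symm_apply]
    show α' (hc.equiv (hc.equiv.symm y)) = α' y
    rw [hc.equiv.apply_symm_apply]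
  rw [this]

end Iso

end Cfsg.Agent.H85
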