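import Mathlib
import Cfsg.Agent.H85.MaxClass

set_option autoImplicit false

/-! A nonabelian `p`-group `S` with an abelian subgroup `A` of index `p`: basic structure
(the commutator map `a ↦ [a, x]` on `A`, its kernel `Z(S)` and image `[S, S]`), and counting
lemmas for iterated kernels. -/

namespace Cfsg.Agent.H85

open scoped commutatorElement

variable {Ω : Type*} [Group Ω]

/-- A subgroup of prime relative index is maximal. -/
theorem max_of_relIndex_prime {G : Type*} [Group G] {p : ℕ} (hp : p.Prime) {A B S : Subgroup G}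
    (hidx : A.relIndex S = p) (hAB : A ≤ B) (hBS : B ≤ S) (hne : ¬ B ≤ A) : S ≤ B := by
  have h1 := Subgroup.relIndex_mul_relIndex A B S hAB hBS
  rw [hidx] at h1
  have h2 : A.relIndex B ∣ p := Dvd.intro _ h1
  rcases (Nat.dvd_prime hp).mp h2 with h3 | h3
  · exact absurd (Subgroup.relIndex_eq_one.mp h3) hne
  · rw [h3] at h1
    have h4 : B.relIndex S = 1 := Nat.eq_of_mul_eq_mul_left hp.pos (h1.trans (mul_one p).symm)
    exact Subgroup.relIndex_eq_one.mp h4

/-- A subgroup of prime index is maximal. -/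
theorem eq_top_of_index_prime {G : Type*} [Group G] {p : ℕ} (hp : p.Prime) {H K : Subgroup G}
    (hidx : H.index = p) (hHK : H ≤ K) (hne : ¬ K ≤ H) : K = ⊤ := by
  rw [eq_top_iff]
  exact max_of_relIndex_prime hp (by rw [Subgroup.relIndex_top_right]; exact hidx) hHK le_top hne

/-- `A` is an abelian subgroup of index `p` of the nonabelian group `S`, normalized by `S`. -/
structure AbIdx (p : ℕ) (S A : Subgroup Ω) : Prop where
  le : A ≤ S
  comm : ∀ a ∈ A, ∀ b ∈ A, a * b = b * a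
  idx : A.relIndex S = p
  normal : ∀ s ∈ S, ∀ a ∈ A, s * a * s⁻¹ ∈ A
  nonab : ∃ s ∈ S, ∃ t ∈ S, s * t ≠ t * s

theorem AbIdx.of_hyp {S A : Subgroup Ω} [Finite S] {p : ℕ} [hp : Fact p.Prime] (hS : IsPGroup p S)
    (hna : ¬ IsMulCommutative ↥S)
    (hA : A ≤ S ∧ IsMulCommutative ↥A ∧ (A.subgroupOf S).index = p) : AbIdx p S A := by
  obtain ⟨hAS, hAc, hidx⟩ := hA
  have hnorm : (A.subgroupOf S).Normal := by
    apply Subgroup.normal_of_index_eq_minFac_card
    obtain ⟨n, hn⟩ := IsPGroup.iff_card.mp hS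
    have hn0 : n ≠ 0 := by
      rintro rfl
      rw [pow_zero] at hn
      have h1 : (A.subgroupOf S).index ∣ Nat.card S := Subgroup.index_dvd_card _
      rw [hn, hidx] at h1
      exact hp.out.one_lt.ne' (Nat.dvd_one.mp h1)
    rw [hidx, hn, hp.out.pow_minFac hn0]
  refine ⟨hAS, fun a ha b hb => ?_, hidx, fun s hs a ha => ?_, ?_⟩
  · exact congrArg Subtype.val (hAc.is_comm.comm ⟨a, ha⟩ ⟨b, hb⟩)
  · have := hnorm.conj_mem ⟨a, hAS ha⟩ (Subgroup.mem_subgroupOf.mpr ha) ⟨s, hs⟩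
    exact Subgroup.mem_subgroupOf.mp this
  · by_contra hcon
    push Not at hcon
    exact hna ⟨⟨fun a b => Subtype.ext (hcon a a.2 b b.2)⟩⟩

section

variable {S A : Subgroup Ω} {p : ℕ}

theorem AbIdx.exists_not_mem (hp : p.Prime) (h : AbIdx p S A) : ∃ x ∈ S, x ∉ A := by
  by_contra hcon
  push Not at hcon
  have h1 : A.relIndex S = 1 := Subgroup.relIndex_eq_one.mpr hcon
  rw [h.idx] at h1
  exact hp.one_lt.ne' h1

theorem AbIdx.gen (hp : p.Prime) (h : AbIdx p S A) {x : Ω} (hxS : x ∈ S) (hxA : x ∉ A)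
    {H : Subgroup Ω} (hA : A ≤ H) (hx : x ∈ H) : S ≤ H := by
  have h1 := max_of_relIndex_prime hp h.idx (le_inf hA h.le) (inf_le_right : H ⊓ S ≤ S)
    (fun hle => hxA (hle ⟨hx, hxS⟩))
  exact h1.trans inf_le_left

theorem AbIdx.center_le (hp : p.Prime) (h : AbIdx p S A) :
    S ⊓ Subgroup.centralizer (S : Set Ω) ≤ A := by
  intro z hz
  by_contra hzA
  have hzc : ∀ s ∈ S, s * z = z * s := Subgroup.mem_centralizer_iff.mp hz.2
  have h1 : S ≤ Subgroup.centralizer (A : Set Ω) := by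
    refine h.gen hp hz.1 hzA ?_ ?_
    · intro a ha
      exact Subgroup.mem_centralizer_iff.mpr (fun b hb => h.comm b hb a ha)
    · exact Subgroup.mem_centralizer_iff.mpr (fun b hb => hzc b (h.le hb))
  have h2 : S ≤ Subgroup.centralizer (S : Set Ω) := by
    refine h.gen hp hz.1 hzA ?_ ?_
    · intro a ha
      exact Subgroup.mem_centralizer_iff.mpr
        (fun s hs => (Subgroup.mem_centralizer_iff.mp (h1 hs) a ha).symm)
    · exact hz.2
  obtain ⟨s, hs, t, ht, hst⟩ := h.nonab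
  exact hst (Subgroup.mem_centralizer_iff.mp (h2 ht) s hs)

theorem AbIdx.mem_center_of_comm (hp : p.Prime) (h : AbIdx p S A) {x : Ω} (hxS : x ∈ S)
    (hxA : x ∉ A) {a : Ω} (ha : a ∈ A) (hc : a * x = x * a) :
    a ∈ S ⊓ Subgroup.centralizer (S : Set Ω) := by
  refine ⟨h.le ha, ?_⟩
  have h1 : S ≤ Subgroup.centralizer ({a} : Set Ω) := by
    refine h.gen hp hxS hxA ?_ ?_
    · intro b hb
      rw [Subgroup.mem_centralizer_iff]
      intro c hc'
      rw [Set.mem_singleton_iff.mp hc']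
      exact h.comm _ ha b hb
    · rw [Subgroup.mem_centralizer_iff]
      intro c hc'
      rw [Set.mem_singleton_iff.mp hc']
      exact hc
  show a ∈ Subgroup.centralizer (S : Set Ω)
  rw [Subgroup.mem_centralizer_iff]
  intro s hs
  exact (Subgroup.mem_centralizer_iff.mp (h1 hs) a rfl).symm

end

/-- The elements `s` of `S` with `[a, s] ∈ K`, for `K` normalized by `S`. -/
def commSub (S K : Subgroup Ω) (hK : ∀ s ∈ S, ∀ k ∈ K, s * k * s⁻¹ ∈ K) (a : Ω) : Subgroup Ω where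
  carrier := {s | s ∈ S ∧ a * s * a⁻¹ * s⁻¹ ∈ K}
  one_mem' := ⟨S.one_mem, by simp [K.one_mem]⟩
  mul_mem' := by
    rintro s t ⟨hs, hsK⟩ ⟨ht, htK⟩
    refine ⟨S.mul_mem hs ht, ?_⟩
    have e : a * (s * t) * a⁻¹ * (s * t)⁻¹
        = (a * s * a⁻¹ * s⁻¹) * (s * (a * t * a⁻¹ * t⁻¹) * s⁻¹) := by group
    rw [e]
    exact K.mul_mem hsK (hK s hs _ htK)
  inv_mem' := by
    rintro s ⟨hs, hsK⟩
    refine ⟨S.inv_mem hs, ?_⟩
    have e : a * s⁻¹ * a⁻¹ * s⁻¹⁻¹ = s⁻¹ * (a * s * a⁻¹ * s⁻¹)⁻¹ * s⁻¹⁻¹ := by group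
    rw [e]
    exact hK s⁻¹ (S.inv_mem hs) _ (K.inv_mem hsK)

section

variable {S A : Subgroup Ω} {p : ℕ}

/-- If the commutators `[a, x]`, `a ∈ A`, lie in a subgroup `K` normalized by `S`, so do all
commutators of `S`. -/
theorem AbIdx.comm_mem (hp : p.Prime) (h : AbIdx p S A) {x : Ω} (hxS : x ∈ S) (hxA : x ∉ A)
    (K : Subgroup Ω) (hK : ∀ s ∈ S, ∀ k ∈ K, s * k * s⁻¹ ∈ K)
    (h2 : ∀ a ∈ A, a * x * a⁻¹ * x⁻¹ ∈ K) :
    ∀ u ∈ S, ∀ v ∈ S, u * v * u⁻¹ * v⁻¹ ∈ K := by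
  have s1 : ∀ a ∈ A, ∀ v ∈ S, a * v * a⁻¹ * v⁻¹ ∈ K := by
    intro a ha v hv
    have hle : S ≤ commSub S K hK a := by
      refine h.gen hp hxS hxA ?_ ?_
      · intro b hb
        refine ⟨h.le hb, ?_⟩
        have e : a * b * a⁻¹ * b⁻¹ = 1 := by
          rw [h.comm a ha b hb]; group
        rw [e]; exact K.one_mem
      · exact ⟨hxS, h2 a ha⟩
    exact (hle hv).2
  have inv_sw : ∀ u v : Ω, u * v * u⁻¹ * v⁻¹ ∈ K → v * u * v⁻¹ * u⁻¹ ∈ K := by
    intro u v huv
    have e : v * u * v⁻¹ * u⁻¹ = (u * v * u⁻¹ * v⁻¹)⁻¹ := by group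
    rw [e]; exact K.inv_mem huv
  have s2 : ∀ v ∈ S, x * v * x⁻¹ * v⁻¹ ∈ K := by
    intro v hv
    have hle : S ≤ commSub S K hK x := by
      refine h.gen hp hxS hxA ?_ ?_
      · intro b hb
        exact ⟨h.le hb, inv_sw _ _ (h2 b hb)⟩
      · refine ⟨hxS, ?_⟩
        have e : x * x * x⁻¹ * x⁻¹ = 1 := by group
        rw [e]; exact K.one_mem
    exact (hle hv).2
  intro u hu v hv
  have hle : S ≤ commSub S K hK v := by
    refine h.gen hp hxS hxA ?_ ?_
    · intro b hb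
      exact ⟨h.le hb, inv_sw _ _ (s1 b hb v hv)⟩
    · exact ⟨hxS, inv_sw _ _ (s2 v hv)⟩
  exact inv_sw _ _ (hle hu).2

theorem AbIdx.comm_mem_A (hp : p.Prime) (h : AbIdx p S A) :
    ∀ u ∈ S, ∀ v ∈ S, u * v * u⁻¹ * v⁻¹ ∈ A := by
  obtain ⟨x, hxS, hxA⟩ := h.exists_not_mem hp
  refine h.comm_mem hp hxS hxA A h.normal (fun a ha => ?_)
  have e : a * x * a⁻¹ * x⁻¹ = a * (x * a⁻¹ * x⁻¹) := by group
  rw [e]; exact A.mul_mem ha (h.normal x hxS _ (A.inv_mem ha))

/-- The homomorphism `a ↦ [a, x]` of `A`. -/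
def AbIdx.kappa (h : AbIdx p S A) (x : Ω) (hx : x ∈ S) : ↥A →* ↥A :=
  MonoidHom.mk' (fun a => ⟨(a : Ω) * x * (a : Ω)⁻¹ * x⁻¹, by
    have e : (a : Ω) * x * (a : Ω)⁻¹ * x⁻¹ = a * (x * (a : Ω)⁻¹ * x⁻¹) := by group
    rw [e]; exact A.mul_mem a.2 (h.normal x hx _ (A.inv_mem a.2))⟩) (by
    intro a b
    apply Subtype.ext
    show ((a * b : ↥A) : Ω) * x * ((a * b : ↥A) : Ω)⁻¹ * x⁻¹
      = ((a : Ω) * x * (a : Ω)⁻¹ * x⁻¹) * ((b : Ω) * x * (b : Ω)⁻¹ * x⁻¹)
    have hu : x * (a : Ω)⁻¹ * x⁻¹ ∈ A := h.normal x hx _ (A.inv_mem a.2)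
    have hv : (b : Ω) * x * (b : Ω)⁻¹ * x⁻¹ ∈ A := by
      have e : (b : Ω) * x * (b : Ω)⁻¹ * x⁻¹ = b * (x * (b : Ω)⁻¹ * x⁻¹) := by group
      rw [e]; exact A.mul_mem b.2 (h.normal x hx _ (A.inv_mem b.2))
    have huv := h.comm _ hu _ hv
    calc ((a * b : ↥A) : Ω) * x * ((a * b : ↥A) : Ω)⁻¹ * x⁻¹
        = (a : Ω) * (((b : Ω) * x * (b : Ω)⁻¹ * x⁻¹) * (x * (a : Ω)⁻¹ * x⁻¹)) := by
          rw [Subgroup.coe_mul]; group
      _ = (a : Ω) * ((x * (a : Ω)⁻¹ * x⁻¹) * ((b : Ω) * x * (b : Ω)⁻¹ * x⁻¹)) := by rw [huv]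
      _ = _ := by group)

theorem AbIdx.kappa_coe (h : AbIdx p S A) (x : Ω) (hx : x ∈ S) (a : ↥A) :
    ((h.kappa x hx a : ↥A) : Ω) = (a : Ω) * x * (a : Ω)⁻¹ * x⁻¹ := rfl

theorem AbIdx.mem_kappa_ker (hp : p.Prime) (h : AbIdx p S A) {x : Ω} (hxS : x ∈ S) (hxA : x ∉ A)
    (a : ↥A) :
    a ∈ (h.kappa x hxS).ker ↔ (a : Ω) ∈ S ⊓ Subgroup.centralizer (S : Set Ω) := by
  rw [MonoidHom.mem_ker]
  constructor
  · intro h1
    have h2 : (a : Ω) * x * (a : Ω)⁻¹ * x⁻¹ = 1 := congrArg Subtype.val h1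
    refine h.mem_center_of_comm hp hxS hxA a.2 ?_
    calc (a : Ω) * x = ((a : Ω) * x * (a : Ω)⁻¹ * x⁻¹) * x * a := by group
      _ = x * a := by rw [h2, one_mul]
  · intro h1
    apply Subtype.ext
    show (a : Ω) * x * (a : Ω)⁻¹ * x⁻¹ = 1
    have h2 : x * (a : Ω) = a * x := Subgroup.mem_centralizer_iff.mp h1.2 x hxS
    calc (a : Ω) * x * (a : Ω)⁻¹ * x⁻¹ = (x * a) * (a : Ω)⁻¹ * x⁻¹ := by rw [h2]
      _ = 1 := by group

theorem AbIdx.kappa_ker (hp : p.Prime) (h : AbIdx p S A) {x : Ω} (hxS : x ∈ S) (hxA : x ∉ A) :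
    (h.kappa x hxS).ker = (S ⊓ Subgroup.centralizer (S : Set Ω)).subgroupOf A := by
  ext a
  rw [h.mem_kappa_ker hp hxS hxA, Subgroup.mem_subgroupOf]

end

theorem mem_center_iff_coe {S : Subgroup Ω} (z : ↥S) :
    z ∈ Subgroup.center ↥S ↔ (z : Ω) ∈ S ⊓ Subgroup.centralizer (S : Set Ω) := by
  constructor
  · intro hz
    refine ⟨z.2, Subgroup.mem_centralizer_iff.mpr (fun s hs => ?_)⟩
    exact congrArg Subtype.val (Subgroup.mem_center_iff.mp hz ⟨s, hs⟩)
  · intro hz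
    exact Subgroup.mem_center_iff.mpr
      (fun g => Subtype.ext (Subgroup.mem_centralizer_iff.mp hz.2 g g.2))

theorem mem_ucs_two_iff {S : Subgroup Ω} (y : Ω) :
    y ∈ (Subgroup.upperCentralSeries ↥S 2).map S.subtype ↔
      y ∈ S ∧ ∀ s ∈ S, y * s * y⁻¹ * s⁻¹ ∈ S ⊓ Subgroup.centralizer (S : Set Ω) := by
  constructor
  · rintro ⟨y', hy', rfl⟩
    refine ⟨y'.2, fun s hs => ?_⟩
    have h1 := (Subgroup.mem_upperCentralSeries_succ_iff (n := 1)).mp hy' ⟨s, hs⟩
    rw [Subgroup.upperCentralSeries_one] at h1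
    exact (mem_center_iff_coe _).mp h1
  · rintro ⟨hy, hys⟩
    refine ⟨⟨y, hy⟩, (Subgroup.mem_upperCentralSeries_succ_iff (n := 1)).mpr ?_, rfl⟩
    intro s
    rw [Subgroup.upperCentralSeries_one]
    exact (mem_center_iff_coe _).mpr (hys s s.2)

section

variable {S A : Subgroup Ω} {p : ℕ}

theorem AbIdx.mem_ucs_two_of (hp : p.Prime) (h : AbIdx p S A) {x : Ω} (hxS : x ∈ S) (hxA : x ∉ A)
    {a : Ω} (ha : a ∈ A) (hc : a * x * a⁻¹ * x⁻¹ ∈ S ⊓ Subgroup.centralizer (S : Set Ω)) :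
    a ∈ (Subgroup.upperCentralSeries ↥S 2).map S.subtype := by
  rw [mem_ucs_two_iff]
  refine ⟨h.le ha, fun s hs => ?_⟩
  have hK : ∀ s ∈ S, ∀ k ∈ S ⊓ Subgroup.centralizer (S : Set Ω),
      s * k * s⁻¹ ∈ S ⊓ Subgroup.centralizer (S : Set Ω) := by
    intro s hs k hk
    have e : s * k * s⁻¹ = k := by
      rw [Subgroup.mem_centralizer_iff.mp hk.2 s hs]; group
    rw [e]; exact hk
  have hle : S ≤ commSub S _ hK a := by
    refine h.gen hp hxS hxA ?_ ?_
    · intro b hb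
      refine ⟨h.le hb, ?_⟩
      have e : a * b * a⁻¹ * b⁻¹ = 1 := by rw [h.comm a ha b hb]; group
      rw [e]; exact Subgroup.one_mem _
    · exact ⟨hxS, hc⟩
  exact (hle hs).2

theorem AbIdx.kappa_range (hp : p.Prime) (h : AbIdx p S A) {x : Ω} (hxS : x ∈ S) (hxA : x ∉ A) :
    (commutator ↥S).map S.subtype = (h.kappa x hxS).range.map A.subtype := by
  apply le_antisymm
  · have hKA : (h.kappa x hxS).range.map A.subtype ≤ A := Subgroup.map_subtype_le _
    have hmemK : ∀ a ∈ A, a * x * a⁻¹ * x⁻¹ ∈ (h.kappa x hxS).range.map A.subtype :=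
      fun a ha => ⟨h.kappa x hxS ⟨a, ha⟩, ⟨⟨a, ha⟩, rfl⟩, rfl⟩
    have hN : S ≤ Subgroup.normalizer (((h.kappa x hxS).range.map A.subtype : Subgroup Ω) : Set Ω) := by
      refine h.gen hp hxS hxA ?_ ?_
      · intro b hb
        rw [Subgroup.mem_normalizer_iff]
        intro k
        constructor
        · intro hk
          have e : b * k * b⁻¹ = k := by rw [h.comm b hb k (hKA hk)]; group
          rw [e]; exact hk
        · intro hk
          have hk' : k ∈ A := by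
            have h3 := A.mul_mem (A.mul_mem (A.inv_mem hb) (hKA hk)) hb
            have e : b⁻¹ * (b * k * b⁻¹) * b = k := by group
            rwa [e] at h3
          have e : b * k * b⁻¹ = k := by rw [h.comm b hb k hk']; group
          rwa [e] at hk
      · rw [Subgroup.mem_normalizer_iff]
        intro k
        constructor
        · rintro ⟨_, ⟨a, rfl⟩, rfl⟩
          have ha' : x * (a : Ω) * x⁻¹ ∈ A := h.normal x hxS _ a.2
          have e : x * (A.subtype (h.kappa x hxS a)) * x⁻¹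
              = (x * (a : Ω) * x⁻¹) * x * (x * (a : Ω) * x⁻¹)⁻¹ * x⁻¹ := by
            show x * ((a : Ω) * x * (a : Ω)⁻¹ * x⁻¹) * x⁻¹ = _
            group
          rw [e]; exact hmemK _ ha'
        · rintro ⟨_, ⟨a, rfl⟩, hk⟩
          have ha' : x⁻¹ * (a : Ω) * x⁻¹⁻¹ ∈ A := h.normal x⁻¹ (S.inv_mem hxS) _ a.2
          have e : k = (x⁻¹ * (a : Ω) * x⁻¹⁻¹) * x * (x⁻¹ * (a : Ω) * x⁻¹⁻¹)⁻¹ * x⁻¹ := by
            have hk2 : (a : Ω) * x * (a : Ω)⁻¹ * x⁻¹ = x * k * x⁻¹ := hk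
            calc k = x⁻¹ * (x * k * x⁻¹) * x := by group
              _ = x⁻¹ * ((a : Ω) * x * (a : Ω)⁻¹ * x⁻¹) * x := by rw [hk2]
              _ = _ := by group
          rw [e]; exact hmemK _ ha'
    have hK : ∀ s ∈ S, ∀ k ∈ (h.kappa x hxS).range.map A.subtype,
        s * k * s⁻¹ ∈ (h.kappa x hxS).range.map A.subtype :=
      fun s hs k hk => (Subgroup.mem_normalizer_iff.mp (hN hs) k).mp hk
    have hall := h.comm_mem hp hxS hxA _ hK hmemK
    rw [Subgroup.map_le_iff_le_comap]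
    show ⁅(⊤ : Subgroup ↥S), ⊤⁆ ≤ _
    rw [Subgroup.commutator_le]
    intro g₁ _ g₂ _
    exact hall g₁ g₁.2 g₂ g₂.2
  · rintro _ ⟨_, ⟨a, rfl⟩, rfl⟩
    refine ⟨⁅(⟨a, h.le a.2⟩ : ↥S), ⟨x, hxS⟩⁆, ?_, rfl⟩
    exact Subgroup.commutator_mem_commutator (Subgroup.mem_top _) (Subgroup.mem_top _)

theorem AbIdx.iterate_mem_lcs (h : AbIdx p S A) (x : Ω) (hx : x ∈ S) (a : ↥A) (i : ℕ) :
    (((h.kappa x hx)^[i] a : ↥A) : Ω) ∈ Subgroup.lowerCentralSeries S i := by
  induction i with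
  | zero => exact h.le a.2
  | succ i ih =>
    rw [Function.iterate_succ_apply', Subgroup.lowerCentralSeries_succ]
    exact Subgroup.commutator_mem_commutator ih hx

end

/-! ### Counting with an endomorphism -/

theorem card_map_eq_relIndex_ker {B C : Type*} [Group B] [Group C] (κ : B →* C) (H : Subgroup B) :
    Nat.card ↥(H.map κ) = κ.ker.relIndex H := by
  have h1 := Subgroup.index_ker (κ.comp H.subtype)
  have h2 : (κ.comp H.subtype).ker = κ.ker.subgroupOf H := rfl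
  have h3 : (κ.comp H.subtype).range = H.map κ := by
    rw [← MonoidHom.map_range, Subgroup.range_subtype]
  rw [h2, h3] at h1
  exact h1.symm

theorem index_ker_sup_range {B : Type*} [Group B] [Finite B] (κ : B →* B) {p : ℕ}
    (hc : Nat.card ↥(κ.ker ⊓ κ.range) = p) : (κ.ker ⊔ κ.range).index = p := by
  have h1 : κ.ker.relIndex (κ.ker ⊔ κ.range) = κ.ker.relIndex κ.range :=
    Subgroup.relIndex_sup_left κ.range κ.ker
  have h2 : κ.ker.relIndex (κ.ker ⊔ κ.range) * (κ.ker ⊔ κ.range).index = κ.ker.index :=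
    Subgroup.relIndex_mul_index le_sup_left
  have h3 : κ.ker.index = Nat.card κ.range := Subgroup.index_ker κ
  have h4 : Nat.card ↥(κ.ker.subgroupOf κ.range) * κ.ker.relIndex κ.range = Nat.card κ.range :=
    Subgroup.card_mul_index _
  have h5 : Nat.card ↥(κ.ker.subgroupOf κ.range) = Nat.card ↥(κ.ker ⊓ κ.range) := by
    rw [← Subgroup.inf_subgroupOf_right]
    exact Nat.card_congr (Subgroup.subgroupOfEquivOfLe inf_le_right).toEquiv
  have h6 : κ.ker.relIndex κ.range ≠ 0 := Subgroup.index_ne_zero_of_finite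
  rw [h5, hc] at h4
  rw [h1, h3, ← h4] at h2
  have h7 : κ.ker.relIndex κ.range * (κ.ker ⊔ κ.range).index = κ.ker.relIndex κ.range * p := by
    rw [h2, mul_comm]
  exact Nat.eq_of_mul_eq_mul_left (Nat.pos_of_ne_zero h6) h7

/-- The kernels of the iterates of an endomorphism. -/
def kerChain {B : Type*} [Group B] (κ : B →* B) : ℕ → Subgroup B
  | 0 => ⊥
  | (i + 1) => (kerChain κ i).comap κ

theorem kerChain_mono {B : Type*} [Group B] (κ : B →* B) (i : ℕ) :
    kerChain κ i ≤ kerChain κ (i + 1) := by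
  induction i with
  | zero => exact bot_le
  | succ i ih => exact Subgroup.comap_mono ih

theorem mem_kerChain {B : Type*} [Group B] (κ : B →* B) (i : ℕ) (a : B) :
    a ∈ kerChain κ i ↔ κ^[i] a = 1 := by
  induction i generalizing a with
  | zero => exact Subgroup.mem_bot
  | succ i ih =>
    show κ a ∈ kerChain κ i ↔ _
    rw [ih, Function.iterate_succ_apply]

theorem kerChain_relIndex_le {B : Type*} [Group B] [Finite B] (κ : B →* B) (i : ℕ) :
    (kerChain κ (i + 1)).relIndex (kerChain κ (i + 2))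
      ≤ (kerChain κ i).relIndex (kerChain κ (i + 1)) := by
  show ((kerChain κ i).comap κ).relIndex ((kerChain κ (i + 1)).comap κ) ≤ _
  rw [Subgroup.relIndex_comap]
  exact Subgroup.relIndex_le_of_le_right (Subgroup.map_comap_le _ _)
    Subgroup.index_ne_zero_of_finite

theorem kerChain_bound {B : Type*} [Group B] [Finite B] (κ : B →* B) {p : ℕ}
    (h2 : (kerChain κ 1).relIndex (kerChain κ 2) ≤ p) (i : ℕ) :
    (kerChain κ 1).relIndex (kerChain κ (i + 1)) ≤ p ^ i := by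
  have hstep : ∀ j, (kerChain κ (j + 1)).relIndex (kerChain κ (j + 2)) ≤ p := by
    intro j
    induction j with
    | zero => exact h2
    | succ j ih => exact (kerChain_relIndex_le κ (j + 1)).trans ih
  have hmono : ∀ j, kerChain κ 1 ≤ kerChain κ (j + 1) := by
    intro j
    induction j with
    | zero => exact le_rfl
    | succ j ih => exact ih.trans (kerChain_mono κ (j + 1))
  induction i with
  | zero =>
    show (kerChain κ 1).relIndex (kerChain κ 1) ≤ p ^ 0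
    rw [Subgroup.relIndex_self, pow_zero]
  | succ i ih =>
    rw [← Subgroup.relIndex_mul_relIndex _ _ _ (hmono i) (kerChain_mono κ (i + 1)), pow_succ]
    exact Nat.mul_le_mul ih (hstep i)

theorem exists_iterate_ne_one {B : Type*} [Group B] [Finite B] (κ : B →* B) {p : ℕ} (hp : 1 < p)
    (h2 : κ.ker.relIndex (κ.ker.comap κ) ≤ p) (n : ℕ) (hn : κ.ker.index = p ^ (n + 1)) :
    ∃ a : B, κ^[n + 1] a ≠ 1 := by
  by_contra hcon
  push Not at hcon
  have htop : kerChain κ (n + 1) = ⊤ := by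
    rw [eq_top_iff]; intro a _; exact (mem_kerChain κ (n + 1) a).mpr (hcon a)
  have e1 : kerChain κ 1 = κ.ker := MonoidHom.comap_bot κ
  have e2 : kerChain κ 2 = κ.ker.comap κ := by
    show (kerChain κ 1).comap κ = _
    rw [e1]
  have hb := kerChain_bound κ (p := p) (by rw [e1, e2]; exact h2) n
  rw [htop, Subgroup.relIndex_top_right, e1, hn] at hb
  exact absurd hb (not_le.mpr (Nat.pow_lt_pow_right hp (Nat.lt_succ_self n)))

/-- The structure of `S` once `Z₂(S) ≤ A` and `|Z₂(S) : Z(S)| = p`. -/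
theorem AbIdx.struct {S A : Subgroup Ω} [Finite S] {p : ℕ} [hp : Fact p.Prime] (h : AbIdx p S A)
    (hZ₂A : (Subgroup.upperCentralSeries ↥S 2).map S.subtype ≤ A)
    (hidx : (S ⊓ Subgroup.centralizer (S : Set Ω)).relIndex
      ((Subgroup.upperCentralSeries ↥S 2).map S.subtype) = p) :
    Nat.card ↥((S ⊓ Subgroup.centralizer (S : Set Ω)) ⊓ (commutator ↥S).map S.subtype) = p ∧
    (((S ⊓ Subgroup.centralizer (S : Set Ω)) ⊔ (commutator ↥S).map S.subtype).subgroupOf A).index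
      = p ∧
    ∀ m : ℕ, ((S ⊓ Subgroup.centralizer (S : Set Ω)).subgroupOf S).index = p ^ m → 3 ≤ m →
      ¬ Subgroup.lowerCentralSeries S (m - 2) ≤ (S ⊓ Subgroup.centralizer (S : Set Ω)) := by
  obtain ⟨x, hxS, hxA⟩ := h.exists_not_mem hp.out
  have : Finite ↥A := Finite.of_injective (Subgroup.inclusion h.le) (Subgroup.inclusion_injective h.le)
  have hker : (h.kappa x hxS).ker = (S ⊓ Subgroup.centralizer (S : Set Ω)).subgroupOf A :=
    h.kappa_ker hp.out hxS hxA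
  have hrange : (commutator ↥S).map S.subtype = (h.kappa x hxS).range.map A.subtype :=
    h.kappa_range hp.out hxS hxA
  have hZA : S ⊓ Subgroup.centralizer (S : Set Ω) ≤ A := h.center_le hp.out
  have hcomap : (h.kappa x hxS).ker.comap (h.kappa x hxS)
      = ((Subgroup.upperCentralSeries ↥S 2).map S.subtype).subgroupOf A := by
    ext a
    rw [Subgroup.mem_comap, h.mem_kappa_ker hp.out hxS hxA, Subgroup.mem_subgroupOf]
    constructor
    · intro h1
      exact h.mem_ucs_two_of hp.out hxS hxA a.2 h1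
    · intro h1
      exact ((mem_ucs_two_iff _).mp h1).2 x hxS
  have hrel : (h.kappa x hxS).ker.relIndex ((h.kappa x hxS).ker.comap (h.kappa x hxS)) = p := by
    rw [hcomap, hker, Subgroup.relIndex_subgroupOf hZ₂A]
    exact hidx
  have hZmap : (S ⊓ Subgroup.centralizer (S : Set Ω)) = (h.kappa x hxS).ker.map A.subtype := by
    rw [hker, Subgroup.map_subgroupOf_eq_of_le hZA]
  have hcard : Nat.card ↥((h.kappa x hxS).ker ⊓ (h.kappa x hxS).range) = p := by
    have e : (h.kappa x hxS).ker ⊓ (h.kappa x hxS).range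
        = ((h.kappa x hxS).ker.comap (h.kappa x hxS)).map (h.kappa x hxS) := by
      ext y
      constructor
      · rintro ⟨hy1, a, rfl⟩
        exact ⟨a, hy1, rfl⟩
      · rintro ⟨a, ha, rfl⟩
        exact ⟨ha, a, rfl⟩
    rw [e, card_map_eq_relIndex_ker, hrel]
  refine ⟨?_, ?_, ?_⟩
  · have e2 : (S ⊓ Subgroup.centralizer (S : Set Ω)) ⊓ (commutator ↥S).map S.subtype
        = ((h.kappa x hxS).ker ⊓ (h.kappa x hxS).range).map A.subtype := by
      rw [Subgroup.map_inf _ _ _ A.subtype_injective, ← hZmap, ← hrange]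
    rw [e2, Subgroup.card_map_of_injective A.subtype_injective]
    exact hcard
  · have hSdA : (commutator ↥S).map S.subtype ≤ A := by
      rw [hrange]; exact Subgroup.map_subtype_le _
    have e3 : ((S ⊓ Subgroup.centralizer (S : Set Ω)) ⊔ (commutator ↥S).map S.subtype).subgroupOf A
        = (h.kappa x hxS).ker ⊔ (h.kappa x hxS).range := by
      rw [Subgroup.subgroupOf_sup hZA hSdA, ← hker]
      congr 1
      rw [hrange]
      exact Subgroup.comap_map_eq_self_of_injective A.subtype_injective _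
    rw [e3]
    exact index_ker_sup_range _ hcard
  · intro m hm h3 hle
    have h1 := Subgroup.relIndex_mul_relIndex _ _ _ hZA h.le
    rw [h.idx] at h1
    have h2 : (S ⊓ Subgroup.centralizer (S : Set Ω)).relIndex S = p ^ m := hm
    rw [h2] at h1
    have h4 : (S ⊓ Subgroup.centralizer (S : Set Ω)).relIndex A = p ^ (m - 1) := by
      have e : p ^ m = p ^ (m - 1) * p := by
        rw [← pow_succ]; congr 1; omega
      rw [e] at h1
      exact Nat.eq_of_mul_eq_mul_right hp.out.pos h1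
    have h5 : (h.kappa x hxS).ker.index = p ^ ((m - 2) + 1) := by
      rw [hker]
      show (S ⊓ Subgroup.centralizer (S : Set Ω)).relIndex A = _
      rw [h4]; congr 1; omega
    obtain ⟨a, ha⟩ := exists_iterate_ne_one (h.kappa x hxS) hp.out.one_lt hrel.le (m - 2) h5
    rw [Function.iterate_succ_apply'] at ha
    have h6 : ((h.kappa x hxS)^[m - 2] a) ∉ (h.kappa x hxS).ker :=
      fun hk => ha (MonoidHom.mem_ker.mp hk)
    apply h6
    rw [h.mem_kappa_ker hp.out hxS hxA]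
    exact hle (h.iterate_mem_lcs x hxS a (m - 2))

end Cfsg.Agent.H85
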