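import Mathlib
import Cfsg.Prelude.Def_FusionSystem
import Cfsg.Agent.H85.MaxClass
import Cfsg.Agent.H85.Basic
import Cfsg.Agent.H85.Aut
import Cfsg.Agent.H84.FusEss
import Cfsg.Agent.S5077
import Cfsg.Agent.Lib.Helper87.FSBasic

/-! In a saturated fusion system on a `p`-group of maximal class, if some automorphism of
`Z₂(S)` in the system moves `Z(S)`, then `C_S(Z₂(S))` is essential. -/

set_option autoImplicit false

namespace Cfsg.Agent.H85

open Cfsg Cfsg.FusionSystem
open scoped commutatorElement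

variable {Ω : Type*} [Group Ω] {S : Subgroup Ω}

/-- The image in the ambient group of a normal subgroup of `S` is normalized by `S`. -/
theorem le_normalizer_map_subtype (N : Subgroup S) [hN : N.Normal] :
    S ≤ Subgroup.normalizer ((N.map S.subtype : Subgroup Ω) : Set Ω) := by
  have key : ∀ s ∈ S, ∀ h ∈ N.map S.subtype, s * h * s⁻¹ ∈ N.map S.subtype := by
    rintro s hs _ ⟨h', hh', rfl⟩
    exact ⟨⟨s, hs⟩ * h' * ⟨s, hs⟩⁻¹, hN.conj_mem h' hh' ⟨s, hs⟩, rfl⟩
  intro s hs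
  rw [Subgroup.mem_normalizer_iff]
  intro h
  constructor
  · exact key s hs h
  · intro hh
    have := key s⁻¹ (S.inv_mem hs) _ hh
    have e : s⁻¹ * (s * h * s⁻¹) * s⁻¹⁻¹ = h := by group
    rwa [e] at this

/-- A subgroup normalized by `S` is fully normalized. -/
theorem fn_of_normal [Finite S] (F : FusionSystem S) {P : Subgroup Ω} (hP : P ≤ S)
    (hN : S ≤ Subgroup.normalizer (P : Set Ω)) : F.IsFullyNormalized P := by
  refine ⟨hP, fun Q _ => ?_⟩
  have hle : normalizerIn S Q ≤ normalizerIn S P := fun x hx => ⟨hx.1, hN hx.1⟩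
  haveI : Finite ↥(normalizerIn S P) := Cfsg.Agent.H84.finite_of_le (inf_le_left : normalizerIn S P ≤ S)
  exact Subgroup.card_le_of_le hle

theorem mem_map_center_iff (y : Ω) :
    y ∈ (Subgroup.center ↥S).map S.subtype ↔ y ∈ S ∧ ∀ s ∈ S, s * y = y * s := by
  constructor
  · rintro ⟨y', hy', rfl⟩
    refine ⟨y'.2, fun s hs => ?_⟩
    have := Subgroup.mem_center_iff.mp hy' ⟨s, hs⟩
    exact congrArg Subtype.val this
  · rintro ⟨hyS, hy⟩
    refine ⟨⟨y, hyS⟩, Subgroup.mem_center_iff.mpr fun g => ?_, rfl⟩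
    exact Subtype.ext (hy g g.2)

theorem maxclass_essential [Finite S] (p : ℕ) [hp : Fact p.Prime] (hS : IsPGroup p ↥S) (n : ℕ)
    (hn : Nat.card S = p ^ n) (h4 : 4 ≤ n) (hmax : Subgroup.lowerCentralSeries S (n - 2) ≠ ⊥)
    (F : FusionSystem S) (hF : F.IsSaturated p)
    (Z₂ : Subgroup Ω) (hZ₂ : Z₂ = (Subgroup.upperCentralSeries ↥S 2).map S.subtype)
    (Z : Subgroup Ω) (hZdef : Z = (Subgroup.center ↥S).map S.subtype)
    (φ : ↥Z₂ →* Ω) (hφ : φ ∈ F.Hom Z₂) (hφZ : φ.range = Z₂)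
    (hmove : ∃ (z : Ω) (hz : z ∈ Z₂), z ∈ Z ∧ φ ⟨z, hz⟩ ∉ Z) :
    F.IsEssential p (centralizerIn S Z₂) := by
  obtain ⟨M, hM⟩ : ∃ M : Subgroup Ω, M = centralizerIn S Z₂ := ⟨_, rfl⟩
  rw [← hM]
  -- group facts
  have hmax' : Subgroup.upperCentralSeries ↥S (n - 2) ≠ ⊤ := by
    intro h
    apply hmax
    have h1 := (Subgroup.lowerCentralSeries_eq_bot_iff_upperCentralSeries_eq_top
      (G := ↥S) (n := n - 2)).mpr h
    rw [← Subgroup.top_subtype_lowerCentralSeries, h1, Subgroup.map_bot]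
  have hcards := card_ucs_of_maxClass hS hn (by omega) hmax'
  have hc1 : Nat.card (Subgroup.center ↥S) = p := by
    have := hcards 1 (by omega)
    rwa [Subgroup.upperCentralSeries_one, pow_one] at this
  have hc2 : Nat.card (Subgroup.upperCentralSeries ↥S 2) = p ^ 2 := hcards 2 (by omega)
  have hcomm : ∀ a b : Subgroup.upperCentralSeries ↥S 2, a * b = b * a := fun a b =>
    (IsPGroup.isMulCommutative_of_card_eq_prime_sq hc2).is_comm.comm a b
  have hZ₂S : Z₂ ≤ S := by rw [hZ₂]; exact Subgroup.map_subtype_le _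
  have hZ₂comm : ∀ a ∈ Z₂, ∀ b ∈ Z₂, a * b = b * a := by
    rw [hZ₂]
    rintro _ ⟨a, ha, rfl⟩ _ ⟨b, hb, rfl⟩
    have := hcomm ⟨a, ha⟩ ⟨b, hb⟩
    exact congrArg (fun x : Subgroup.upperCentralSeries ↥S 2 => ((x : ↥S) : Ω)) this
  have hZ₂M : Z₂ ≤ M := by
    rw [hM]
    exact fun a ha => ⟨hZ₂S ha, Subgroup.mem_centralizer_iff.mpr fun b hb => hZ₂comm b hb a ha⟩
  have hZ₂norm : S ≤ Subgroup.normalizer (Z₂ : Set Ω) := by
    rw [hZ₂]; exact le_normalizer_map_subtype _
  have hMS : M ≤ S := by rw [hM]; exact inf_le_left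
  have hMnorm : S ≤ Subgroup.normalizer (M : Set Ω) := by
    have key : ∀ s ∈ S, ∀ m ∈ M, s * m * s⁻¹ ∈ M := by
      intro s hs m hm
      rw [hM] at hm ⊢
      refine ⟨S.mul_mem (S.mul_mem hs hm.1) (S.inv_mem hs), ?_⟩
      show s * m * s⁻¹ ∈ Subgroup.centralizer (Z₂ : Set Ω)
      rw [Subgroup.mem_centralizer_iff]
      intro z hz
      have hz' : s⁻¹ * z * s⁻¹⁻¹ ∈ Z₂ :=
        (Subgroup.mem_normalizer_iff.mp (hZ₂norm (S.inv_mem hs)) z).mp hz
      have h1 := Subgroup.mem_centralizer_iff.mp hm.2 _ hz'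
      have e1 : z * (s * m * s⁻¹) = s * ((s⁻¹ * z * s⁻¹⁻¹) * m) * s⁻¹ := by group
      rw [e1, h1]; group
    intro s hs
    rw [Subgroup.mem_normalizer_iff]
    intro h
    constructor
    · exact key s hs h
    · intro hh
      have := key s⁻¹ (S.inv_mem hs) _ hh
      have e : s⁻¹ * (s * h * s⁻¹) * s⁻¹⁻¹ = h := by group
      rwa [e] at this
  -- an element of Z₂ outside the centre
  obtain ⟨x₀, hx₀2, hx₀1⟩ : ∃ x₀ : ↥S, x₀ ∈ Subgroup.upperCentralSeries ↥S 2 ∧
      x₀ ∉ Subgroup.center ↥S := by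
    by_contra hcon
    push_neg at hcon
    have hle : Subgroup.upperCentralSeries ↥S 2 ≤ Subgroup.center ↥S := hcon
    have := Subgroup.card_le_of_le hle
    rw [hc1, hc2] at this
    have hp1 := hp.out.one_lt
    nlinarith
  have hcenter : ∀ s : ↥S, ⁅s, x₀⁆ ∈ Subgroup.center ↥S := by
    intro s
    have h1 := (Subgroup.mem_upperCentralSeries_succ_iff (n := 1)).mp hx₀2 s
    rw [Subgroup.upperCentralSeries_one] at h1
    have e : ⁅s, x₀⁆ = ⁅x₀, s⁆⁻¹ := (commutatorElement_inv x₀ s).symm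
    rw [e]
    exact (Subgroup.center ↥S).inv_mem h1
  let f : ↥S →* ↥(Subgroup.center ↥S) := MonoidHom.mk' (fun s => ⟨⁅s, x₀⁆, hcenter s⟩) (by
    intro s t
    apply Subtype.ext
    show ⁅s * t, x₀⁆ = ⁅s, x₀⁆ * ⁅t, x₀⁆
    have hc := Subgroup.mem_center_iff.mp (hcenter t)
    have e1 : ⁅s * t, x₀⁆ = s * ⁅t, x₀⁆ * (x₀ * s⁻¹ * x₀⁻¹) := by
      simp only [commutatorElement_def]; group
    rw [e1, hc s]
    have e2 : ⁅t, x₀⁆ * s * (x₀ * s⁻¹ * x₀⁻¹) = ⁅t, x₀⁆ * ⁅s, x₀⁆ := by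
      simp only [commutatorElement_def]; group
    rw [e2, ← hc ⁅s, x₀⁆])
  have hker : ∀ s : ↥S, s ∈ f.ker ↔ s * x₀ = x₀ * s := by
    intro s
    rw [MonoidHom.mem_ker]
    constructor
    · intro h
      have h1 : ⁅s, x₀⁆ = 1 := congrArg Subtype.val h
      exact commutatorElement_eq_one_iff_mul_comm.mp h1
    · intro h
      apply Subtype.ext
      exact commutatorElement_eq_one_iff_mul_comm.mpr h
  have hidx : f.ker.index = p := by
    have h1 : f.ker.index ∣ p := by
      rw [Subgroup.index_ker, ← hc1]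
      exact Subgroup.card_subgroup_dvd_card _
    rcases (Nat.dvd_prime hp.out).mp h1 with h2 | h2
    · exfalso
      have h3 := Subgroup.index_eq_one.mp h2
      apply hx₀1
      rw [Subgroup.mem_center_iff]
      intro g
      exact (hker g).mp (h3 ▸ Subgroup.mem_top g)
    · exact h2
  -- the kernel of f is M
  have hKtop : Subgroup.closure {x₀} ⊔ Subgroup.center ↥S = Subgroup.upperCentralSeries ↥S 2 := by
    have hle : Subgroup.closure {x₀} ⊔ Subgroup.center ↥S ≤ Subgroup.upperCentralSeries ↥S 2 := by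
      apply sup_le
      · rw [Subgroup.closure_le]
        exact Set.singleton_subset_iff.mpr hx₀2
      · rw [← Subgroup.upperCentralSeries_one]
        exact Subgroup.upperCentralSeries_mono ↥S (by omega)
    apply Subgroup.eq_of_le_of_card_ge hle
    have hlt : Subgroup.center ↥S < Subgroup.closure {x₀} ⊔ Subgroup.center ↥S := by
      refine lt_of_le_of_ne le_sup_right ?_
      intro h
      apply hx₀1
      rw [h]
      exact le_sup_left (a := Subgroup.closure {x₀}) (Subgroup.subset_closure rfl)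
    have := card_mul_le_of_lt hS hlt
    rw [hc1] at this
    rw [hc2]
    calc p ^ 2 = p * p := by ring
      _ ≤ _ := this
  have hkerM : ∀ s : ↥S, s ∈ f.ker → (s : Ω) ∈ M := by
    intro s hs
    rw [hM]
    refine ⟨s.2, ?_⟩
    show (s : Ω) ∈ Subgroup.centralizer (Z₂ : Set Ω)
    rw [Subgroup.mem_centralizer_iff, hZ₂]
    rintro _ ⟨z, hz, rfl⟩
    have hle : Subgroup.closure {x₀} ⊔ Subgroup.center ↥S ≤ Subgroup.centralizer ({s} : Set ↥S) := by
      apply sup_le
      · rw [Subgroup.closure_le]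
        apply Set.singleton_subset_iff.mpr
        show x₀ ∈ Subgroup.centralizer ({s} : Set ↥S)
        rw [Subgroup.mem_centralizer_iff]
        rintro h rfl
        exact (hker h).mp hs
      · exact Subgroup.center_le_centralizer _
    rw [hKtop] at hle
    have h1 := Subgroup.mem_centralizer_iff.mp (hle hz) s rfl
    exact (congrArg Subtype.val h1).symm
  have hMneS : M ≠ S := by
    intro h
    apply hx₀1
    rw [Subgroup.mem_center_iff]
    intro g
    have hg : (g : Ω) ∈ M := by rw [h]; exact g.2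
    rw [hM] at hg
    have hx₀Z : (x₀ : Ω) ∈ Z₂ := by rw [hZ₂]; exact ⟨x₀, hx₀2, rfl⟩
    have := Subgroup.mem_centralizer_iff.mp hg.2 _ hx₀Z
    exact Subtype.ext this.symm
  have hbig : ∀ Q : Subgroup Ω, M < Q → Q ≤ S → S ≤ Q := by
    intro Q hMQ hQS
    have hkerM' : f.ker ≤ M.subgroupOf S := fun s hs => Subgroup.mem_subgroupOf.mpr (hkerM s hs)
    have hMQ' : M.subgroupOf S ≤ Q.subgroupOf S := fun s hs =>
      Subgroup.mem_subgroupOf.mpr (hMQ.le (Subgroup.mem_subgroupOf.mp hs))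
    have h1 : (Q.subgroupOf S).index ∣ p := by
      rw [← hidx]; exact Subgroup.index_dvd_of_le (hkerM'.trans hMQ')
    rcases (Nat.dvd_prime hp.out).mp h1 with h2 | h2
    · have h3 := Subgroup.index_eq_one.mp h2
      intro s hs
      have : (⟨s, hs⟩ : ↥S) ∈ Q.subgroupOf S := h3 ▸ Subgroup.mem_top _
      exact Subgroup.mem_subgroupOf.mp this
    · exfalso
      have h3 := Subgroup.relIndex_mul_index (hkerM'.trans hMQ')
      rw [h2, hidx] at h3
      have h4 : f.ker.relIndex (Q.subgroupOf S) = 1 := by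
        have : f.ker.relIndex (Q.subgroupOf S) * p = 1 * p := by rw [h3, one_mul]
        exact Nat.eq_of_mul_eq_mul_right hp.out.pos this
      have h5 : Q.subgroupOf S ≤ f.ker := Subgroup.relIndex_eq_one.mp h4
      apply hMQ.not_ge
      intro q hq
      have : (⟨q, hQS hq⟩ : ↥S) ∈ f.ker := h5 (Subgroup.mem_subgroupOf.mpr hq)
      exact hkerM _ this
  -- extend φ to M
  have hfnZ₂ : F.IsFullyNormalized Z₂ := fn_of_normal F hZ₂S hZ₂norm
  have hsat := (Cfsg.Agent.S5077.result p hS F).mp hF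
  have hrecZ₂ : F.IsReceptive Z₂ :=
    hsat.2 Z₂ (Cfsg.Agent.H84.fullyCentralized_of_fn hS F hF hfnZ₂)
  obtain ⟨ψ, hψ, hψx⟩ := receptive_extend_sup F hrecZ₂ hφ hφZ
  have hMle : M ≤ Z₂ ⊔ centralizerIn S Z₂ := by rw [hM]; exact le_sup_right
  have hψ' : ψ.comp (Subgroup.inclusion hMle) ∈ F.Hom M := restrict_mem F hψ hMle
  have hQ : ∀ y ∈ Z₂, ∃ x : Z₂, ψ (Subgroup.inclusion le_sup_left x) = y := by
    intro y hy
    rw [← hφZ] at hy
    obtain ⟨x, rfl⟩ := hy
    exact ⟨x, hψx x⟩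
  have hval : ∀ m : M, ψ.comp (Subgroup.inclusion hMle) m ∈ M := by
    intro m
    have hm : ((Subgroup.inclusion hMle m : ↥(Z₂ ⊔ centralizerIn S Z₂)) : Ω) ∈
        centralizerIn S Z₂ := hM.le m.2
    exact hM.ge (map_centralizer_mem F hψ hQ (Subgroup.inclusion hMle m) hm)
  haveI hfinM : Finite M := Cfsg.Agent.H84.finite_of_le hMS
  have hinj := F.injective_of_mem hψ'
  have hrange : (ψ.comp (Subgroup.inclusion hMle)).range = M := by
    have hle : (ψ.comp (Subgroup.inclusion hMle)).range ≤ M := by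
      rintro _ ⟨m, rfl⟩
      exact hval m
    apply Subgroup.eq_of_le_of_card_ge hle
    exact (Nat.card_congr (MonoidHom.ofInjective hinj).toEquiv).le
  have hα₀ := Cfsg.Agent.Lib.Helper87.FSBasic.autOfMap_mem F hψ' hrange
  -- M is fully normalized, hence fully automized and receptive
  have hfnM : F.IsFullyNormalized M := fn_of_normal F hMS hMnorm
  have hfaM := Cfsg.Agent.H84.fullyAutomized_of_fn hS F hF hfnM
  have hrecM : F.IsReceptive M := hsat.2 M (Cfsg.Agent.H84.fullyCentralized_of_fn hS F hF hfnM)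
  by_contra hess
  have hgen := Cfsg.Agent.H84.closure_extSet_eq hS F hfaM hrecM hMneS hess
  let St : Subgroup (MulAut M) :=
    { carrier := {α | ∀ x : M, ((α x : M) : Ω) ∈ Z ↔ (x : Ω) ∈ Z}
      one_mem' := fun x => Iff.rfl
      mul_mem' := fun {a b} ha hb x => (ha (b x)).trans (hb x)
      inv_mem' := fun {a} ha x => by
        have := ha (a⁻¹ x)
        rw [MulAut.apply_inv_self] at this
        exact this.symm }
  have hext : Cfsg.Agent.H84.extSet F M ⊆ St := by
    rintro α ⟨Q, hMQ, φ', hφ', hα⟩ x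
    show ((α x : M) : Ω) ∈ Z ↔ (x : Ω) ∈ Z
    have hQS : Q ≤ S := (F.le_of_mem hφ').1
    have hSQ : S ≤ Q := hbig Q hMQ hQS
    have hinj' := F.injective_of_mem hφ'
    haveI : Finite Q := Cfsg.Agent.H84.finite_of_le hQS
    have hr : φ'.range = S := by
      have hle : φ'.range ≤ S := by
        rintro _ ⟨q, rfl⟩
        exact (F.le_of_mem hφ').2 q
      apply Subgroup.eq_of_le_of_card_ge hle
      calc Nat.card S ≤ Nat.card Q := Subgroup.card_le_of_le hSQ
        _ = Nat.card φ'.range := Nat.card_congr (MonoidHom.ofInjective hinj').toEquiv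
    rw [← hα x, hZdef, mem_map_center_iff, mem_map_center_iff]
    constructor
    · rintro ⟨-, h⟩
      refine ⟨hMS x.2, fun s hs => ?_⟩
      have h1 := h (φ' ⟨s, hSQ hs⟩) ((F.le_of_mem hφ').2 _)
      rw [← map_mul, ← map_mul] at h1
      have h2 := hinj' h1
      exact congrArg Subtype.val h2
    · rintro ⟨-, h⟩
      refine ⟨(F.le_of_mem hφ').2 _, fun s hs => ?_⟩
      have hs' : s ∈ φ'.range := by rw [hr]; exact hs
      obtain ⟨q, rfl⟩ := hs'
      rw [← map_mul, ← map_mul]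
      congr 1
      apply Subtype.ext
      exact h (q : Ω) (hQS q.2)
  have hα₀St : Cfsg.Agent.Lib.Helper87.FSBasic.autOfMap (ψ.comp (Subgroup.inclusion hMle))
      hinj hrange ∈ St := by
    rw [← hgen] at hα₀
    exact (Subgroup.closure_le St).mpr hext hα₀
  obtain ⟨z, hz, hzZ, hzφ⟩ := hmove
  have h1 := (hα₀St ⟨z, hZ₂M hz⟩).mpr hzZ
  apply hzφ
  have e : ((Cfsg.Agent.Lib.Helper87.FSBasic.autOfMap (ψ.comp (Subgroup.inclusion hMle))
      hinj hrange ⟨z, hZ₂M hz⟩ : M) : Ω) = φ ⟨z, hz⟩ := by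
    rw [Cfsg.Agent.Lib.Helper87.FSBasic.autOfMap_coe]
    exact hψx ⟨z, hz⟩
  rw [e] at h1
  exact h1

end Cfsg.Agent.H85
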