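import Mathlib
import Cfsg.Agent.H85.AbIdx
import Cfsg.Agent.H85.MaxClassEss
import Cfsg.Agent.H85.Aut
import Cfsg.Agent.H84.FusEss
import Cfsg.Agent.H84.FusSat
import Cfsg.Agent.Lib.Helper86.Essential
import Cfsg.Agent.Lib.Helper88.StrEmbQuot
import Cfsg.Agent.Lib.Helper87.StabChain

set_option autoImplicit false

/-! Essential subgroups of a saturated fusion system over a nonabelian `p`-group with a unique
abelian subgroup of index `p` (Oliver). -/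

namespace Cfsg.Agent.H85

open Cfsg Cfsg.FusionSystem

section chain

variable {P : Type*} [Group P]

/-- The chain `⊤ ≥ D ≥ ⊥ ≥ ⊥ ≥ ...`. -/
def chain3 (D : Subgroup P) : ℕ → Subgroup P
  | 0 => ⊤
  | 1 => D
  | _ + 2 => ⊥

/-- The automorphisms in `G` centralizing `D` and `P / D`. -/
def chainSub (G : Subgroup (MulAut P)) (D : Subgroup P) : Subgroup (MulAut P) where
  carrier := {β | β ∈ G ∧ (∀ y, y⁻¹ * β y ∈ D) ∧ ∀ y ∈ D, β y = y}
  one_mem' := ⟨G.one_mem, fun y => by simp [D.one_mem], fun y _ => rfl⟩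
  mul_mem' := by
    rintro β γ ⟨hβ, hβ1, hβ2⟩ ⟨hγ, hγ1, hγ2⟩
    refine ⟨G.mul_mem hβ hγ, fun y => ?_, fun y hy => ?_⟩
    · have e : y⁻¹ * (β * γ) y = (y⁻¹ * γ y) * ((γ y)⁻¹ * β (γ y)) := by
        rw [MulAut.mul_apply]; group
      rw [e]
      exact D.mul_mem (hγ1 y) (hβ1 _)
    · rw [MulAut.mul_apply, hγ2 y hy, hβ2 y hy]
  inv_mem' := by
    rintro β ⟨hβ, hβ1, hβ2⟩
    refine ⟨G.inv_mem hβ, fun y => ?_, fun y hy => ?_⟩
    · have h1 := hβ1 (β⁻¹ y)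
      rw [MulAut.apply_inv_self] at h1
      have e : y⁻¹ * β⁻¹ y = ((β⁻¹ y)⁻¹ * y)⁻¹ := by group
      rw [e]
      exact D.inv_mem h1
    · have h1 := hβ2 y hy
      calc β⁻¹ y = β⁻¹ (β y) := by rw [h1]
        _ = y := MulAut.inv_apply_self _ _ _

theorem chainSub_isPGroup [Finite P] {p : ℕ} [Fact p.Prime] (hP : IsPGroup p P)
    (G : Subgroup (MulAut P)) (D : Subgroup P) : IsPGroup p (chainSub G D) := by
  rintro ⟨β, hβ, hβ1, hβ2⟩
  have hinv : ∀ i, ∀ y ∈ chain3 D i, β y ∈ chain3 D i := by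
    intro i y hy
    rcases i with _ | _ | i
    · exact Subgroup.mem_top _
    · have hy' : y ∈ D := hy
      rw [hβ2 y hy']; exact hy
    · have hy' : y = 1 := Subgroup.mem_bot.mp hy
      rw [hy', map_one]; exact Subgroup.one_mem _
  have hstep : ∀ i, ∀ y ∈ chain3 D i, y⁻¹ * β y ∈ chain3 D (i + 1) := by
    intro i y hy
    rcases i with _ | _ | i
    · exact hβ1 y
    · have hy' : y ∈ D := hy
      rw [hβ2 y hy', inv_mul_cancel]; exact Subgroup.one_mem _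
    · have hy' : y = 1 := Subgroup.mem_bot.mp hy
      rw [hy', map_one, inv_one, one_mul]; exact Subgroup.one_mem _
  obtain ⟨k, hk⟩ := Cfsg.Agent.Lib.Helper87.StabChain.exists_pow_eq_one hP β (chain3 D) hinv hstep
    rfl 2 rfl
  exact ⟨k, Subtype.ext hk⟩

theorem chainSub_conj (G : Subgroup (MulAut P)) (P₀ : Subgroup P) (a : MulAut P) (ha : a ∈ G)
    {β : MulAut P} (hβ : β ∈ chainSub G (P₀ ⊓ P₀.map a⁻¹.toMonoidHom)) :
    a * β * a⁻¹ ∈ chainSub G (P₀ ⊓ P₀.map a.toMonoidHom) := by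
  obtain ⟨hβG, hβ1, hβ2⟩ := hβ
  refine ⟨G.mul_mem (G.mul_mem ha hβG) (G.inv_mem ha), fun y => ?_, fun y hy => ?_⟩
  · have e : y⁻¹ * (a * β * a⁻¹) y = a ((a⁻¹ y)⁻¹ * β (a⁻¹ y)) := by
      rw [map_mul, map_inv, MulAut.apply_inv_self]; rfl
    rw [e]
    obtain ⟨h1, w, hw, hw2⟩ := hβ1 (a⁻¹ y)
    refine ⟨?_, ⟨_, h1, rfl⟩⟩
    rw [← hw2]
    show a (a⁻¹ w) ∈ P₀
    rw [MulAut.apply_inv_self]; exact hw
  · obtain ⟨hy1, w, hw, rfl⟩ := hy
    have hwD : w ∈ P₀ ⊓ P₀.map a⁻¹.toMonoidHom := ⟨hw, a w, hy1, MulAut.inv_apply_self _ a w⟩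
    show a (β (a⁻¹ (a w))) = a w
    rw [MulAut.inv_apply_self, hβ2 w hwD]

theorem chainSub_conj_inv (G : Subgroup (MulAut P)) (D : Subgroup P)
    (hD : ∀ α ∈ G, ∀ y ∈ D, α y ∈ D) (a : MulAut P) (ha : a ∈ G)
    {β : MulAut P} (hβ : β ∈ chainSub G D) : a * β * a⁻¹ ∈ chainSub G D := by
  obtain ⟨hβG, hβ1, hβ2⟩ := hβ
  refine ⟨G.mul_mem (G.mul_mem ha hβG) (G.inv_mem ha), fun y => ?_, fun y hy => ?_⟩
  · have e : y⁻¹ * (a * β * a⁻¹) y = a ((a⁻¹ y)⁻¹ * β (a⁻¹ y)) := by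
      rw [map_mul, map_inv, MulAut.apply_inv_self]; rfl
    rw [e]
    exact hD a ha _ (hβ1 _)
  · show a (β (a⁻¹ y)) = y
    rw [hβ2 _ (hD a⁻¹ (G.inv_mem ha) y hy), MulAut.apply_inv_self]

theorem chainSub_le_inn [Finite P] {p : ℕ} [Fact p.Prime] (hP : IsPGroup p P)
    (G : Subgroup (MulAut P)) [hn : ((Inn P).subgroupOf G).Normal]
    (E : Subgroup (↥G ⧸ (Inn P).subgroupOf G)) (hE : IsStronglyPEmbedded p E)
    (D : Subgroup P) (hD : ∀ α ∈ G, ∀ y ∈ D, α y ∈ D) : chainSub G D ≤ Inn P := by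
  have hN : ((chainSub G D).subgroupOf G).Normal := by
    constructor
    intro n hn' g
    exact Subgroup.mem_subgroupOf.mpr
      (chainSub_conj_inv G D hD g g.2 (Subgroup.mem_subgroupOf.mp hn'))
  have hpg : IsPGroup p ((chainSub G D).subgroupOf G) := (chainSub_isPGroup hP G D).comap_subtype
  have hle := Cfsg.Agent.Lib.Helper86.Essential.normal_pgroup_le_of_quotient _ E hE _ hN hpg
  intro β hβ
  have h1 : (⟨β, hβ.1⟩ : ↥G) ∈ (chainSub G D).subgroupOf G := Subgroup.mem_subgroupOf.mpr hβ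
  exact Subgroup.mem_subgroupOf.mp (hle h1)

/-- For `D` normal, the elements `y` with `y⁻¹ β(y) ∈ D`. -/
def cocSub (D : Subgroup P) [hD : D.Normal] (β : MulAut P) : Subgroup P where
  carrier := {y | y⁻¹ * β y ∈ D}
  one_mem' := by simp [D.one_mem]
  mul_mem' := by
    intro y z hy hz
    have e : (y * z)⁻¹ * β (y * z) = z⁻¹ * (y⁻¹ * β y) * z⁻¹⁻¹ * (z⁻¹ * β z) := by
      rw [map_mul]; group
    show (y * z)⁻¹ * β (y * z) ∈ D
    rw [e]
    exact D.mul_mem (hD.conj_mem _ hy z⁻¹) hz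
  inv_mem' := by
    intro y hy
    have e : y⁻¹⁻¹ * β y⁻¹ = y * (y⁻¹ * β y)⁻¹ * y⁻¹ := by
      rw [map_inv]; group
    show y⁻¹⁻¹ * β y⁻¹ ∈ D
    rw [e]
    exact hD.conj_mem _ (D.inv_mem hy) y

theorem mem_chainSub_of_gen {p : ℕ} (hp : p.Prime) (G : Subgroup (MulAut P)) (P₀ D : Subgroup P)
    [D.Normal] (hidx : P₀.index = p) (hDP : D ≤ P₀) (x : P) (hx : x ∉ P₀) {β : MulAut P}
    (hβ : β ∈ chainSub G P₀) (hβx : x⁻¹ * β x ∈ D) : β ∈ chainSub G D := by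
  obtain ⟨hβG, hβ1, hβ2⟩ := hβ
  refine ⟨hβG, ?_, fun y hy => hβ2 y (hDP hy)⟩
  have htop : cocSub D β = ⊤ := by
    apply eq_top_of_index_prime hp hidx
    · intro y hy
      show y⁻¹ * β y ∈ D
      rw [hβ2 y hy, inv_mul_cancel]; exact D.one_mem
    · intro hle
      exact hx (hle hβx)
  intro y
  have h1 : y ∈ cocSub D β := by rw [htop]; exact Subgroup.mem_top y
  exact h1

theorem sylow_conj_into {G : Type*} [Group G] [Finite G] {p : ℕ} [Fact p.Prime] (R : Sylow p G)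
    (Q : Subgroup G) (hQ : IsPGroup p Q) : ∃ u : G, ∀ β ∈ Q, u⁻¹ * β * u ∈ (R : Subgroup G) := by
  obtain ⟨R', hR'⟩ := hQ.exists_le_sylow
  obtain ⟨u, hu⟩ := MulAction.exists_smul_eq G R R'
  refine ⟨u, fun β hβ => ?_⟩
  have h1 : β ∈ (R' : Subgroup G) := hR' hβ
  rw [← hu, Sylow.coe_subgroup_smul, Subgroup.mem_pointwise_smul_iff_inv_smul_mem] at h1
  simpa [MulAut.smul_def, MulAut.conj_apply] using h1

end chain

section ess

variable {Ω : Type*} [Group Ω] {S : Subgroup Ω}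

theorem mem_of_conj_inner {P : Subgroup Ω} (hcen : centralizerIn S P ≤ P) (hPS : P ≤ S) {g : Ω}
    (hgS : g ∈ S) (c : MulAut P) (hc : ∀ y : P, ((c y : P) : Ω) = g * y * g⁻¹) (hI : c ∈ Inn P) :
    g ∈ P := by
  obtain ⟨u, hu⟩ := hI
  have h3 : (u : Ω)⁻¹ * g ∈ centralizerIn S P := by
    refine ⟨S.mul_mem (S.inv_mem (hPS u.2)) hgS, ?_⟩
    show _ ∈ Subgroup.centralizer (P : Set Ω)
    rw [Subgroup.mem_centralizer_iff]
    intro y hy
    have h4 : (((MulAut.conj u) ⟨y, hy⟩ : P) : Ω) = ((c ⟨y, hy⟩ : P) : Ω) := by rw [hu]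
    have h5 : (u : Ω) * y * (u : Ω)⁻¹ = g * y * g⁻¹ := h4.trans (hc ⟨y, hy⟩)
    calc y * ((u : Ω)⁻¹ * g) = (u : Ω)⁻¹ * ((u : Ω) * y * (u : Ω)⁻¹) * g := by group
      _ = (u : Ω)⁻¹ * (g * y * g⁻¹) * g := by rw [h5]
      _ = (u : Ω)⁻¹ * g * y := by group
  have h6 := P.mul_mem u.2 (hcen h3)
  have e : (u : Ω) * ((u : Ω)⁻¹ * g) = g := by group
  rwa [e] at h6

theorem ucs_two_le_normalizer {P : Subgroup Ω}
    (hZP : S ⊓ Subgroup.centralizer (S : Set Ω) ≤ P) (hPS : P ≤ S) :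
    (Subgroup.upperCentralSeries ↥S 2).map S.subtype ≤ Subgroup.normalizer (P : Set Ω) := by
  have key : ∀ w ∈ (Subgroup.upperCentralSeries ↥S 2).map S.subtype, ∀ y ∈ P,
      w * y * w⁻¹ ∈ P := by
    intro w hw y hy
    have h1 := ((mem_ucs_two_iff w).mp hw).2 y (hPS hy)
    have e : w * y * w⁻¹ = (w * y * w⁻¹ * y⁻¹) * y := by group
    rw [e]; exact P.mul_mem (hZP h1) hy
  intro w hw
  rw [Subgroup.mem_normalizer_iff]
  intro y
  constructor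
  · exact key w hw y
  · intro hy
    have h2 := key w⁻¹ (Subgroup.inv_mem _ hw) _ hy
    have e : w⁻¹ * (w * y * w⁻¹) * w⁻¹⁻¹ = y := by group
    rwa [e] at h2

variable {A : Subgroup Ω} {p : ℕ}

theorem AbIdx.normal_subgroupOf (h : AbIdx p S A) {P : Subgroup Ω} (hPS : P ≤ S) :
    (A.subgroupOf P).Normal :=
  ⟨fun n hn g => Subgroup.mem_subgroupOf.mpr
    (h.normal g (hPS g.2) n (Subgroup.mem_subgroupOf.mp hn))⟩

theorem AbIdx.relIndex_eq (hp : p.Prime) (h : AbIdx p S A) {P : Subgroup Ω} (hPS : P ≤ S)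
    (hPA : ¬ P ≤ A) : A.relIndex P = p := by
  haveI := h.normal_subgroupOf (le_refl S)
  have h1 : (A.subgroupOf S).relIndex (P.subgroupOf S) ∣ (A.subgroupOf S).index :=
    Subgroup.relIndex_dvd_index_of_normal _ _
  rw [Subgroup.relIndex_subgroupOf hPS] at h1
  have h2 : (A.subgroupOf S).index = p := h.idx
  rw [h2] at h1
  rcases (Nat.dvd_prime hp).mp h1 with h3 | h3
  · exact absurd (Subgroup.relIndex_eq_one.mp h3) hPA
  · exact h3

/-- Conjugation by an element of `N_A(P)` centralizes `P ∩ A` and `P / (P ∩ A)`. -/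
theorem AbIdx.conjAut_mem_chainSub (h : AbIdx p S A) (F : FusionSystem S) {P : Subgroup Ω}
    (hPS : P ≤ S) {g : Ω} (hgS : g ∈ S) (hgN : g ∈ Subgroup.normalizer (P : Set Ω))
    (hgA : g ∈ A) :
    P.normalizerMonoidHom ⟨g, hgN⟩ ∈ chainSub (F.autGroup P) (A.subgroupOf P) := by
  refine ⟨autInducedBy_le_autGroup F hPS (Subgroup.subset_closure ⟨g, hgS, fun y => rfl⟩),
    fun y => ?_, fun y hy => ?_⟩
  · rw [Subgroup.mem_subgroupOf]
    show (y : Ω)⁻¹ * (g * (y : Ω) * g⁻¹) ∈ A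
    have e : (y : Ω)⁻¹ * (g * (y : Ω) * g⁻¹) = ((y : Ω)⁻¹ * g * (y : Ω)⁻¹⁻¹) * g⁻¹ := by group
    rw [e]
    exact A.mul_mem (h.normal _ (S.inv_mem (hPS y.2)) g hgA) (A.inv_mem hgA)
  · apply Subtype.ext
    show g * (y : Ω) * g⁻¹ = y
    rw [h.comm g hgA y (Subgroup.mem_subgroupOf.mp hy)]; group

/-- `g ↦ [g, x]` from `N_A(P)` to `P`. -/
def AbIdx.lam (h : AbIdx p S A) (P : Subgroup Ω) (x : Ω) (hxS : x ∈ S) (hxP : x ∈ P) :
    ↥((S ⊓ Subgroup.normalizer (P : Set Ω)) ⊓ A) →* ↥P :=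
  MonoidHom.codRestrict
    (A.subtype.comp ((h.kappa x hxS).comp (Subgroup.inclusion inf_le_right))) P (by
      intro g
      show (g : Ω) * x * (g : Ω)⁻¹ * x⁻¹ ∈ P
      have hg : (g : Ω) ∈ Subgroup.normalizer (P : Set Ω) := g.2.1.2
      exact P.mul_mem ((Subgroup.mem_normalizer_iff.mp hg x).mp hxP) (P.inv_mem hxP))

theorem AbIdx.lam_coe (h : AbIdx p S A) (P : Subgroup Ω) (x : Ω) (hxS : x ∈ S) (hxP : x ∈ P)
    (g : ↥((S ⊓ Subgroup.normalizer (P : Set Ω)) ⊓ A)) :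
    ((h.lam P x hxS hxP g : ↥P) : Ω) = (g : Ω) * x * (g : Ω)⁻¹ * x⁻¹ := rfl

end ess

end Cfsg.Agent.H85
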