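import Mathlib
import Cfsg.Agent.H85.AbIdxEss

set_option autoImplicit false

/-! Oliver's description of the essential subgroups over a `p`-group with a unique abelian
subgroup of index `p`: main theorem. -/

namespace Cfsg.Agent.H85

open Cfsg Cfsg.FusionSystem

variable {Ω : Type*} [Group Ω] {S : Subgroup Ω}

theorem AbIdx.no_second {A : Subgroup Ω} {p : ℕ} (hp : p.Prime) (h : AbIdx p S A)
    (huniq : ∀ B : Subgroup Ω, B ≤ S → IsMulCommutative ↥B → (B.subgroupOf S).index = p → B = A)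
    (Z : Subgroup Ω) (hZ : Z = S ⊓ Subgroup.centralizer (S : Set Ω)) (hZA' : Z.relIndex A = p)
    {w : Ω} (hwS : w ∈ S) (hwA : w ∉ A) : False := by
  have hZA : Z ≤ A := by rw [hZ]; exact h.center_le hp
  have hZc : ∀ z ∈ Z, ∀ s ∈ S, s * z = z * s := by
    intro z hz s hs
    rw [hZ] at hz
    exact Subgroup.mem_centralizer_iff.mp hz.2 s hs
  have hZS' : Z ≤ S := hZA.trans h.le
  obtain ⟨B, hB⟩ : ∃ B : Subgroup Ω, B = Z ⊔ Subgroup.zpowers w := ⟨_, rfl⟩
  have hZB : Z ≤ B := by rw [hB]; exact le_sup_left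
  have hwB : w ∈ B := by rw [hB]; exact Subgroup.mem_sup_right (Subgroup.mem_zpowers w)
  have hBle : ∀ H : Subgroup Ω, Z ≤ H → w ∈ H → B ≤ H := by
    intro H h1 h2
    rw [hB]; exact sup_le h1 (by rw [Subgroup.zpowers_le]; exact h2)
  have hBS : B ≤ S := hBle S hZS' hwS
  have hwc : B ≤ Subgroup.centralizer ({w} : Set Ω) := by
    apply hBle
    · intro z hz
      rw [Subgroup.mem_centralizer_iff]
      intro c hc
      rw [Set.mem_singleton_iff.mp hc]
      exact hZc z hz w hwS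
    · rw [Subgroup.mem_centralizer_iff]
      intro c hc
      rw [Set.mem_singleton_iff.mp hc]
  have hBcomm : ∀ u ∈ B, ∀ v ∈ B, u * v = v * u := by
    intro u hu v hv
    have hle : B ≤ Subgroup.centralizer ({v} : Set Ω) := by
      apply hBle
      · intro z hz
        rw [Subgroup.mem_centralizer_iff]
        intro c hc
        rw [Set.mem_singleton_iff.mp hc]
        exact hZc z hz v (hBS hv)
      · rw [Subgroup.mem_centralizer_iff]
        intro c hc
        rw [Set.mem_singleton_iff.mp hc]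
        exact (Subgroup.mem_centralizer_iff.mp (hwc hv) w rfl).symm
    exact (Subgroup.mem_centralizer_iff.mp (hle hu) v rfl).symm
  have hBne1 : ¬ B ≤ Z := fun hle => hwA (hZA (hle hwB))
  have hBne2 : ¬ S ≤ B := by
    intro hle
    obtain ⟨s, hs, t, ht, hst⟩ := h.nonab
    exact hst (hBcomm s (hle hs) t (hle ht))
  have hZS : Z.relIndex S = p * p := by
    rw [← Subgroup.relIndex_mul_relIndex _ _ _ hZA h.le, hZA', h.idx]
  have hprod := Subgroup.relIndex_mul_relIndex Z B S hZB hBS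
  rw [hZS] at hprod
  have hne1 : Z.relIndex B ≠ 1 := fun h1 => hBne1 (Subgroup.relIndex_eq_one.mp h1)
  have hne2 : B.relIndex S ≠ 1 := fun h1 => hBne2 (Subgroup.relIndex_eq_one.mp h1)
  have hBidx : B.relIndex S = p := by
    have hd : Z.relIndex B ∣ p ^ 2 := by
      rw [pow_two]; exact Dvd.intro _ hprod
    obtain ⟨j, hj, hdj⟩ := (Nat.dvd_prime_pow hp).mp hd
    rw [hdj] at hprod hne1
    interval_cases j
    · exact absurd (pow_zero p) hne1
    · rw [pow_one] at hprod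
      exact Nat.eq_of_mul_eq_mul_left hp.pos hprod
    · exfalso
      apply hne2
      have h3 : p ^ 2 * B.relIndex S = p ^ 2 * 1 := by
        rw [hprod, mul_one, pow_two]
      exact Nat.eq_of_mul_eq_mul_left (pow_pos hp.pos 2) h3
  have hBA := huniq B hBS ⟨⟨fun u v => Subtype.ext (hBcomm u u.2 v v.2)⟩⟩ hBidx
  rw [hBA] at hwB
  exact hwA hwB

/-- `|N_A(P) : P ∩ A| ≤ p` for an essential subgroup `P` not contained in `A`. -/
theorem abidx_claim1 [Finite S] {p : ℕ} [hp : Fact p.Prime] (hS : IsPGroup p S)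
    (F : FusionSystem S) {A : Subgroup Ω} (h : AbIdx p S A) {P : Subgroup Ω} (hPS : P ≤ S)
    (hcen : centralizerIn S P ≤ P) (R : Sylow p (F.autGroup P))
    (hR : (R : Subgroup (F.autGroup P)) = (autInducedBy S P).subgroupOf (F.autGroup P))
    [hn : ((Inn P).subgroupOf (F.autGroup P)).Normal]
    (E : Subgroup (F.autGroup P ⧸ (Inn P).subgroupOf (F.autGroup P)))
    (hE : IsStronglyPEmbedded p E) {x : Ω} (hxP : x ∈ P) (hxA : x ∉ A) :
    (P ⊓ A).relIndex ((S ⊓ Subgroup.normalizer (P : Set Ω)) ⊓ A) ≤ p := by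
  by_contra hbig
  push Not at hbig
  have hxS := hPS hxP
  haveI hfinP : Finite ↥P := Cfsg.Agent.H84.finite_of_le hPS
  have hPp : IsPGroup p ↥P := hS.to_le hPS
  have hPnA : ¬ P ≤ A := fun hle => hxA (hle hxP)
  have hidx : (A.subgroupOf P).index = p := h.relIndex_eq hp.out hPS hPnA
  haveI hnorm0 : (A.subgroupOf P).Normal := h.normal_subgroupOf hPS
  have hx' : (⟨x, hxP⟩ : ↥P) ∉ A.subgroupOf P := fun hx => hxA (Subgroup.mem_subgroupOf.mp hx)
  have hKL : ∀ a : MulAut ↥P, ∃ t ∈ autInducedBy S P, t ∉ Inn P ∧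
      t ∈ chainSub (F.autGroup P) (A.subgroupOf P ⊓ (A.subgroupOf P).map a.toMonoidHom) := by
    intro a
    haveI hnorm1 : ((A.subgroupOf P).map a.toMonoidHom).Normal := hnorm0.map _ a.surjective
    have hidx1 : ((A.subgroupOf P).map a.toMonoidHom).index = p := by
      rw [Subgroup.index_map_of_bijective a.bijective]; exact hidx
    have hKidx : (((A.subgroupOf P).map a.toMonoidHom).comap (h.lam P x hxS hxP)).index ∣ p := by
      have h0 := Subgroup.relIndex_dvd_index_of_normal ((A.subgroupOf P).map a.toMonoidHom)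
        (h.lam P x hxS hxP).range
      rw [hidx1] at h0
      rw [Subgroup.index_comap]
      exact h0
    have hex : ∃ g : ↥((S ⊓ Subgroup.normalizer (P : Set Ω)) ⊓ A),
        g ∈ ((A.subgroupOf P).map a.toMonoidHom).comap (h.lam P x hxS hxP) ∧ (g : Ω) ∉ P := by
      by_contra hcon
      push Not at hcon
      have hle : ((A.subgroupOf P).map a.toMonoidHom).comap (h.lam P x hxS hxP) ≤
          (P ⊓ A).subgroupOf ((S ⊓ Subgroup.normalizer (P : Set Ω)) ⊓ A) := by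
        intro g hg
        exact Subgroup.mem_subgroupOf.mpr ⟨hcon g hg, g.2.2⟩
      have h1 := Subgroup.index_dvd_of_le hle
      have h2 : (P ⊓ A).relIndex ((S ⊓ Subgroup.normalizer (P : Set Ω)) ⊓ A) ∣ p :=
        h1.trans hKidx
      exact absurd (Nat.le_of_dvd hp.out.pos h2) (not_le.mpr hbig)
    obtain ⟨g, hgK, hgP⟩ := hex
    have hgS : (g : Ω) ∈ S := g.2.1.1
    have hgN : (g : Ω) ∈ Subgroup.normalizer (P : Set Ω) := g.2.1.2
    have hgA : (g : Ω) ∈ A := g.2.2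
    refine ⟨P.normalizerMonoidHom ⟨g, hgN⟩, Subgroup.subset_closure ⟨g, hgS, fun y => rfl⟩,
      ?_, ?_⟩
    · intro hI
      exact hgP (mem_of_conj_inner hcen hPS hgS _ (fun y => rfl) hI)
    · refine mem_chainSub_of_gen hp.out _ (A.subgroupOf P) _ hidx inf_le_left ⟨x, hxP⟩ hx'
        (h.conjAut_mem_chainSub F hPS hgS hgN hgA) ?_
      have hlam : h.lam P x hxS hxP g ∈
          A.subgroupOf P ⊓ (A.subgroupOf P).map a.toMonoidHom := by
        have h1 : h.lam P x hxS hxP g ∈ A.subgroupOf P :=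
          Subgroup.mem_subgroupOf.mpr (h.kappa x hxS ⟨g, hgA⟩).2
        exact ⟨h1, hgK⟩
      have e : (⟨x, hxP⟩ : ↥P)⁻¹ * P.normalizerMonoidHom ⟨g, hgN⟩ ⟨x, hxP⟩
          = (⟨x, hxP⟩ : ↥P)⁻¹ * h.lam P x hxS hxP g * (⟨x, hxP⟩ : ↥P)⁻¹⁻¹ := by
        apply Subtype.ext
        show x⁻¹ * ((g : Ω) * x * (g : Ω)⁻¹) = x⁻¹ * ((g : Ω) * x * (g : Ω)⁻¹ * x⁻¹) * x⁻¹⁻¹
        group
      rw [e]
      exact Subgroup.Normal.conj_mem inferInstance _ hlam _
  obtain ⟨B, hBtop, hB⟩ := Cfsg.Agent.Lib.Helper88.StrEmbQuot.exists_proper_of_quotient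
    ((Inn P).subgroupOf (F.autGroup P)) E hE (R : Subgroup (F.autGroup P)) R.isPGroup'
  apply hBtop
  rw [eq_top_iff]
  intro a _
  obtain ⟨t₁, ht₁U, ht₁I, ht₁C⟩ := hKL (a : MulAut ↥P)
  obtain ⟨t₂, ht₂U, ht₂I, ht₂C⟩ := hKL ((a : MulAut ↥P)⁻¹)
  have ht₁G := ht₁C.1
  have ht₂G := ht₂C.1
  obtain ⟨u, hu⟩ := sylow_conj_into R
    ((chainSub (F.autGroup P) (A.subgroupOf P ⊓
      (A.subgroupOf P).map (a : MulAut ↥P).toMonoidHom)).subgroupOf (F.autGroup P))
    (chainSub_isPGroup hPp _ _).comap_subtype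
  have hRmem : ∀ t : ↥(F.autGroup P), t ∈ (R : Subgroup (F.autGroup P)) ↔
      (t : MulAut ↥P) ∈ autInducedBy S P := by
    intro t; rw [hR]; exact Subgroup.mem_subgroupOf
  have hu1 : u⁻¹ ∈ B := by
    apply hB
    refine ⟨⟨t₁, ht₁G⟩, (hRmem _).mpr ht₁U, fun hI => ht₁I (Subgroup.mem_subgroupOf.mp hI), ?_⟩
    rw [inv_inv]
    exact hu _ (Subgroup.mem_subgroupOf.mpr ht₁C)
  have hu2 : u⁻¹ * a ∈ B := by
    apply hB
    refine ⟨⟨t₂, ht₂G⟩, (hRmem _).mpr ht₂U, fun hI => ht₂I (Subgroup.mem_subgroupOf.mp hI), ?_⟩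
    have hc := chainSub_conj (F.autGroup P) (A.subgroupOf P) (a : MulAut ↥P) a.2 ht₂C
    have h3 := hu (a * ⟨t₂, ht₂G⟩ * a⁻¹) (Subgroup.mem_subgroupOf.mpr hc)
    have e : u⁻¹ * a * ⟨t₂, ht₂G⟩ * (u⁻¹ * a)⁻¹ = u⁻¹ * (a * ⟨t₂, ht₂G⟩ * a⁻¹) * u := by group
    rw [e]; exact h3
  have e : a = u * (u⁻¹ * a) := by group
  rw [e]
  exact B.mul_mem (by simpa using B.inv_mem hu1) hu2

end Cfsg.Agent.H85
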