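import Mathlib
import Cfsg.Agent.H85.AbIdxMain

set_option autoImplicit false

/-! Oliver's description of the essential subgroups over a `p`-group with a unique abelian
subgroup of index `p`: the classification. -/

namespace Cfsg.Agent.H85

open Cfsg Cfsg.FusionSystem

variable {Ω : Type*} [Group Ω] {S : Subgroup Ω}

theorem abidx_ess [Finite S] (p : ℕ) [hp : Fact p.Prime] (hS : IsPGroup p S) (F : FusionSystem S)
    (hF : F.IsSaturated p) (A : Subgroup Ω) (h : AbIdx p S A)
    (huniq : ∀ B : Subgroup Ω, B ≤ S → IsMulCommutative ↥B → (B.subgroupOf S).index = p → B = A)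
    (P : Subgroup Ω) (hP : F.IsEssential p P) (hPA : P ≠ A) :
    P.relIndex (S ⊓ Subgroup.normalizer (P : Set Ω)) = p ∧
    (Subgroup.upperCentralSeries ↥S 2).map S.subtype ≤ A ∧
    (S ⊓ Subgroup.centralizer (S : Set Ω)).relIndex
      ((Subgroup.upperCentralSeries ↥S 2).map S.subtype) = p ∧
    ∃ x ∈ S, x ∉ A ∧ (P = (S ⊓ Subgroup.centralizer (S : Set Ω)) ⊔ Subgroup.zpowers x ∨
      P = (Subgroup.upperCentralSeries ↥S 2).map S.subtype ⊔ Subgroup.zpowers x) := by
  obtain ⟨hcenP, hfn, hn, E, hE⟩ := hP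
  have hPS : P ≤ S := hcenP.1
  have hcen : centralizerIn S P ≤ P := hcenP.2 P (isConj_refl F hPS)
  obtain ⟨-, R, hR⟩ := Cfsg.Agent.H84.fullyAutomized_of_fn hS F hF hfn
  haveI hfinP : Finite ↥P := Cfsg.Agent.H84.finite_of_le hPS
  have hPp : IsPGroup p ↥P := hS.to_le hPS
  have hZA := h.center_le hp.out
  have hZP : S ⊓ Subgroup.centralizer (S : Set Ω) ≤ P := by
    intro z hz
    refine hcen ⟨hz.1, ?_⟩
    show z ∈ Subgroup.centralizer (P : Set Ω)
    rw [Subgroup.mem_centralizer_iff]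
    intro y hy
    exact Subgroup.mem_centralizer_iff.mp hz.2 y (hPS hy)
  have hPnA : ¬ P ≤ A := by
    intro hle
    apply hPA
    apply le_antisymm hle
    intro a ha
    refine hcen ⟨h.le ha, ?_⟩
    show a ∈ Subgroup.centralizer (P : Set Ω)
    rw [Subgroup.mem_centralizer_iff]
    intro y hy
    exact h.comm y (hle hy) a ha
  obtain ⟨x, hxP, hxA⟩ := SetLike.not_le_iff_exists.mp hPnA
  have hxS : x ∈ S := hPS hxP
  have hcl := abidx_claim1 hS F h hPS hcen R hR E hE hxP hxA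
  -- index bookkeeping
  have hPN : P ≤ S ⊓ Subgroup.normalizer (P : Set Ω) := le_inf hPS Subgroup.le_normalizer
  have hNnA : ¬ (S ⊓ Subgroup.normalizer (P : Set Ω)) ≤ A := fun hle => hxA (hle (hPN hxP))
  have hI1 : A.relIndex P = p := h.relIndex_eq hp.out hPS hPnA
  have hI2 : A.relIndex (S ⊓ Subgroup.normalizer (P : Set Ω)) = p :=
    h.relIndex_eq hp.out inf_le_left hNnA
  have hI1' : (P ⊓ A).relIndex P = p := by rw [Subgroup.inf_relIndex_left]; exact hI1
  have hI2' : ((S ⊓ Subgroup.normalizer (P : Set Ω)) ⊓ A).relIndex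
      (S ⊓ Subgroup.normalizer (P : Set Ω)) = p := by
    rw [Subgroup.inf_relIndex_left]; exact hI2
  have hI3 : P.relIndex (S ⊓ Subgroup.normalizer (P : Set Ω))
      = (P ⊓ A).relIndex ((S ⊓ Subgroup.normalizer (P : Set Ω)) ⊓ A) := by
    have e1 := Subgroup.relIndex_mul_relIndex (P ⊓ A) P (S ⊓ Subgroup.normalizer (P : Set Ω))
      inf_le_left hPN
    have e2 := Subgroup.relIndex_mul_relIndex (P ⊓ A)
      ((S ⊓ Subgroup.normalizer (P : Set Ω)) ⊓ A) (S ⊓ Subgroup.normalizer (P : Set Ω))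
      (inf_le_inf_right A hPN) inf_le_left
    rw [hI1'] at e1
    rw [hI2'] at e2
    have e3 : p * P.relIndex (S ⊓ Subgroup.normalizer (P : Set Ω))
        = p * (P ⊓ A).relIndex ((S ⊓ Subgroup.normalizer (P : Set Ω)) ⊓ A) := by
      rw [e1, ← e2, mul_comm]
    exact Nat.eq_of_mul_eq_mul_left hp.out.pos e3
  have hE1 : ¬ (S ⊓ Subgroup.normalizer (P : Set Ω)) ≤ P := by
    intro hle
    apply Cfsg.Agent.Lib.Helper86.Essential.sylow_not_normal_of_quotient _ E hE R
    have hU : autInducedBy S P = Inn P := by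
      apply le_antisymm
      · intro α hα
        obtain ⟨n, hnS, rfl⟩ := (mem_autInducedBy_iff_normalizer S P α).mp hα
        exact Cfsg.Agent.H84.mem_inn_of_induces _ (hle ⟨hnS, n.2⟩) (fun y => rfl)
      · exact Cfsg.Agent.H84.inn_le_autInducedBy hPS
    rw [hR, hU]
    exact hn
  have hrel1 : (P ⊓ A).relIndex ((S ⊓ Subgroup.normalizer (P : Set Ω)) ⊓ A) ≠ 1 := by
    rw [← hI3]
    intro h1
    exact hE1 (Subgroup.relIndex_eq_one.mp h1)
  have hfinN : Finite ↥((S ⊓ Subgroup.normalizer (P : Set Ω)) ⊓ A) :=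
    Cfsg.Agent.H84.finite_of_le (inf_le_left.trans inf_le_left)
  have hNp : IsPGroup p ↥((S ⊓ Subgroup.normalizer (P : Set Ω)) ⊓ A) :=
    hS.to_le (inf_le_left.trans inf_le_left)
  have hrel : (P ⊓ A).relIndex ((S ⊓ Subgroup.normalizer (P : Set Ω)) ⊓ A) = p := by
    obtain ⟨k, hk⟩ := hNp.index ((P ⊓ A).subgroupOf ((S ⊓ Subgroup.normalizer (P : Set Ω)) ⊓ A))
    have hk' : (P ⊓ A).relIndex ((S ⊓ Subgroup.normalizer (P : Set Ω)) ⊓ A) = p ^ k := hk
    rw [hk'] at hcl hrel1 ⊢
    rcases k with _ | _ | k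
    · exact absurd (pow_zero p) hrel1
    · simp
    · exfalso
      have h1 : p ^ 2 ≤ p ^ (k + 1 + 1) := Nat.pow_le_pow_right hp.out.pos (by omega)
      have h2 : p < p ^ 2 := by
        have := hp.out.two_le
        nlinarith
      omega
  have hmain1 : P.relIndex (S ⊓ Subgroup.normalizer (P : Set Ω)) = p := hI3.trans hrel
  obtain ⟨g₀, hg₀N, hg₀P⟩ : ∃ g ∈ (S ⊓ Subgroup.normalizer (P : Set Ω)) ⊓ A, g ∉ P := by
    by_contra hcon
    push Not at hcon
    apply hrel1
    exact Subgroup.relIndex_eq_one.mpr (fun g hg => ⟨hcon g hg, hg.2⟩)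
  have hx' : (⟨x, hxP⟩ : ↥P) ∉ A.subgroupOf P := fun hx => hxA (Subgroup.mem_subgroupOf.mp hx)
  haveI hnorm0 : (A.subgroupOf P).Normal := h.normal_subgroupOf hPS
  have hidx : (A.subgroupOf P).index = p := hI1
  have hC1 : ∃ α ∈ F.autGroup P, ∃ y₀ ∈ A.subgroupOf P, α y₀ ∉ A.subgroupOf P := by
    by_contra hcon
    push Not at hcon
    have hle := chainSub_le_inn hPp (F.autGroup P) E hE (A.subgroupOf P) hcon
    have hc := h.conjAut_mem_chainSub F hPS hg₀N.1.1 hg₀N.1.2 hg₀N.2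
    exact hg₀P (mem_of_conj_inner hcen hPS hg₀N.1.1 _ (fun y => rfl) (hle hc))
  obtain ⟨α, hαG, y₀, hy₀, hαy₀⟩ := hC1
  haveI hnorm1 : ((A.subgroupOf P).map α.toMonoidHom).Normal := hnorm0.map _ α.surjective
  have hidx1 : ((A.subgroupOf P).map α.toMonoidHom).index = p := by
    rw [Subgroup.index_map_of_bijective α.bijective]; exact hidx
  have hD : ∀ d : ↥P, d ∈ A.subgroupOf P → d ∈ (A.subgroupOf P).map α.toMonoidHom →
      (d : Ω) ∈ S ⊓ Subgroup.centralizer (S : Set Ω) := by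
    intro d hd0 hd1
    have htop : Subgroup.centralizer ({d} : Set ↥P) = ⊤ := by
      apply eq_top_of_index_prime hp.out hidx
      · intro y hy
        rw [Subgroup.mem_centralizer_iff]
        intro c hc
        rw [Set.mem_singleton_iff.mp hc]
        exact Subtype.ext (h.comm _ (Subgroup.mem_subgroupOf.mp hd0) _
          (Subgroup.mem_subgroupOf.mp hy))
      · intro hle
        apply hαy₀
        apply hle
        rw [Subgroup.mem_centralizer_iff]
        intro c hc
        rw [Set.mem_singleton_iff.mp hc]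
        obtain ⟨d', hd', hdd'⟩ := hd1
        rw [← hdd']
        show α d' * α y₀ = α y₀ * α d'
        rw [← map_mul, ← map_mul]
        congr 1
        exact Subtype.ext (h.comm _ (Subgroup.mem_subgroupOf.mp hd') _
          (Subgroup.mem_subgroupOf.mp hy₀))
    have hx1 : (⟨x, hxP⟩ : ↥P) ∈ Subgroup.centralizer ({d} : Set ↥P) := by
      rw [htop]; exact Subgroup.mem_top _
    have hx2 : d * ⟨x, hxP⟩ = ⟨x, hxP⟩ * d := Subgroup.mem_centralizer_iff.mp hx1 d rfl
    exact h.mem_center_of_comm hp.out hxS hxA (Subgroup.mem_subgroupOf.mp hd0)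
      (congrArg Subtype.val hx2)
  have hdvd : (S ⊓ Subgroup.centralizer (S : Set Ω)).relIndex (P ⊓ A) ∣ p := by
    have hle : A.subgroupOf P ⊓ (A.subgroupOf P).map α.toMonoidHom ≤
        (S ⊓ Subgroup.centralizer (S : Set Ω)).subgroupOf P := by
      intro d hd
      exact Subgroup.mem_subgroupOf.mpr (hD d hd.1 hd.2)
    have h1 := Subgroup.relIndex_dvd_of_le_left (A.subgroupOf P) hle
    rw [Subgroup.inf_relIndex_left] at h1
    have h2 := Subgroup.relIndex_dvd_index_of_normal ((A.subgroupOf P).map α.toMonoidHom)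
      (A.subgroupOf P)
    rw [hidx1] at h2
    have h3 : ((S ⊓ Subgroup.centralizer (S : Set Ω)).subgroupOf P).relIndex (A.subgroupOf P)
        = (S ⊓ Subgroup.centralizer (S : Set Ω)).relIndex (P ⊓ A) := by
      rw [← Subgroup.inf_subgroupOf_left A P, Subgroup.relIndex_subgroupOf inf_le_left]
    rw [h3] at h1
    exact h1.trans h2
  have hP₀Z₂ : P ⊓ A ≤ (Subgroup.upperCentralSeries ↥S 2).map S.subtype := by
    intro y hy
    apply h.mem_ucs_two_of hp.out hxS hxA hy.2
    have hcA := h.comm_mem_A hp.out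
    have hmemP : y * x * y⁻¹ * x⁻¹ ∈ P :=
      P.mul_mem (P.mul_mem (P.mul_mem hy.1 hxP) (P.inv_mem hy.1)) (P.inv_mem hxP)
    refine hD ⟨y * x * y⁻¹ * x⁻¹, hmemP⟩ ?_ ?_
    · exact Subgroup.mem_subgroupOf.mpr (hcA y (hPS hy.1) x hxS)
    · refine ⟨α⁻¹ ⟨y, hy.1⟩ * α⁻¹ ⟨x, hxP⟩ * (α⁻¹ ⟨y, hy.1⟩)⁻¹ * (α⁻¹ ⟨x, hxP⟩)⁻¹, ?_, ?_⟩
      · exact Subgroup.mem_subgroupOf.mpr
          (hcA _ (hPS (α⁻¹ ⟨y, hy.1⟩).2) _ (hPS (α⁻¹ ⟨x, hxP⟩).2))
      · show α (α⁻¹ ⟨y, hy.1⟩ * α⁻¹ ⟨x, hxP⟩ * (α⁻¹ ⟨y, hy.1⟩)⁻¹ * (α⁻¹ ⟨x, hxP⟩)⁻¹) = _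
        rw [map_mul, map_mul, map_mul, map_inv, map_inv, MulAut.apply_inv_self,
          MulAut.apply_inv_self]
        rfl
  have hZP₀ : S ⊓ Subgroup.centralizer (S : Set Ω) ≤ P ⊓ A := le_inf hZP hZA
  have hgen : ∀ B : Subgroup Ω, P ⊓ A ≤ B → B ≤ P → x ∈ B → P ≤ B := by
    intro B hB1 hB2 hxB
    exact max_of_relIndex_prime hp.out hI1' hB1 hB2 (fun hle => hxA (hle hxB).2)
  have hZ₂N := ucs_two_le_normalizer hZP hPS
  rcases (Nat.dvd_prime hp.out).mp hdvd with hcase | hcase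
  · -- `P ∩ A = Z(S)`
    have hP₀Z : P ⊓ A ≤ S ⊓ Subgroup.centralizer (S : Set Ω) := Subgroup.relIndex_eq_one.mp hcase
    have hP₀eq : P ⊓ A = S ⊓ Subgroup.centralizer (S : Set Ω) := le_antisymm hP₀Z hZP₀
    have hN₀ : (S ⊓ Subgroup.normalizer (P : Set Ω)) ⊓ A
        = (Subgroup.upperCentralSeries ↥S 2).map S.subtype ⊓ A := by
      apply le_antisymm
      · intro g hg
        refine ⟨h.mem_ucs_two_of hp.out hxS hxA hg.2 ?_, hg.2⟩
        apply hP₀Z
        refine ⟨?_, ?_⟩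
        · exact P.mul_mem ((Subgroup.mem_normalizer_iff.mp hg.1.2 x).mp hxP) (P.inv_mem hxP)
        · have e : g * x * g⁻¹ * x⁻¹ = g * (x * g⁻¹ * x⁻¹) := by group
          rw [e]; exact A.mul_mem hg.2 (h.normal x hxS _ (A.inv_mem hg.2))
      · intro g hg
        exact ⟨⟨((mem_ucs_two_iff g).mp hg.1).1, hZ₂N hg.1⟩, hg.2⟩
    have hZ₂A : (Subgroup.upperCentralSeries ↥S 2).map S.subtype ≤ A := by
      by_contra hnot
      obtain ⟨w, hwZ₂, hwA⟩ := SetLike.not_le_iff_exists.mp hnot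
      have hwS : w ∈ S := ((mem_ucs_two_iff w).mp hwZ₂).1
      have hAZ₂ : A ≤ (Subgroup.upperCentralSeries ↥S 2).map S.subtype := by
        intro a ha
        apply h.mem_ucs_two_of hp.out hwS hwA ha
        have h1 := ((mem_ucs_two_iff w).mp hwZ₂).2 a (h.le ha)
        have e : a * w * a⁻¹ * w⁻¹ = (w * a * w⁻¹ * a⁻¹)⁻¹ := by group
        rw [e]; exact Subgroup.inv_mem _ h1
      have hZA' : (S ⊓ Subgroup.centralizer (S : Set Ω)).relIndex A = p := by
        have h1 := hrel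
        rw [hN₀, inf_eq_right.mpr hAZ₂, hP₀eq] at h1
        exact h1
      exact h.no_second hp.out huniq _ rfl hZA' hwS hwA
    have hZ₂rel : (S ⊓ Subgroup.centralizer (S : Set Ω)).relIndex
        ((Subgroup.upperCentralSeries ↥S 2).map S.subtype) = p := by
      have h1 := hrel
      rw [hN₀, inf_eq_left.mpr hZ₂A, hP₀eq] at h1
      exact h1
    refine ⟨hmain1, hZ₂A, hZ₂rel, x, hxS, hxA, Or.inl ?_⟩
    apply le_antisymm
    · exact hgen _ (hP₀Z.trans le_sup_left)
        (sup_le hZP (by rw [Subgroup.zpowers_le]; exact hxP))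
        (Subgroup.mem_sup_right (Subgroup.mem_zpowers x))
    · exact sup_le hZP (by rw [Subgroup.zpowers_le]; exact hxP)
  · -- `|P ∩ A : Z(S)| = p`
    have hP₀nZ : ¬ P ⊓ A ≤ S ⊓ Subgroup.centralizer (S : Set Ω) := by
      intro hle
      have h1 := Subgroup.relIndex_eq_one.mpr hle
      rw [hcase] at h1
      exact hp.out.one_lt.ne' h1
    have hcenter : ∀ u : ↥P, u ∈ Subgroup.center ↥P →
        (u : Ω) ∈ S ⊓ Subgroup.centralizer (S : Set Ω) := by
      intro u hu
      have hux : (u : Ω) * x = x * u := by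
        have h1 := Subgroup.mem_center_iff.mp hu ⟨x, hxP⟩
        exact (congrArg Subtype.val h1).symm
      by_cases huA : (u : Ω) ∈ A
      · exact h.mem_center_of_comm hp.out hxS hxA huA hux
      · exfalso
        apply hP₀nZ
        intro y hy
        have htop : Subgroup.centralizer ({(⟨y, hy.1⟩ : ↥P)} : Set ↥P) = ⊤ := by
          apply eq_top_of_index_prime hp.out hidx
          · intro v hv
            rw [Subgroup.mem_centralizer_iff]
            intro c hc
            rw [Set.mem_singleton_iff.mp hc]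
            exact Subtype.ext (h.comm _ hy.2 _ (Subgroup.mem_subgroupOf.mp hv))
          · intro hle
            have hmem : u ∈ Subgroup.centralizer ({(⟨y, hy.1⟩ : ↥P)} : Set ↥P) := by
              rw [Subgroup.mem_centralizer_iff]
              intro c hc
              rw [Set.mem_singleton_iff.mp hc]
              exact Subgroup.mem_center_iff.mp hu _
            exact huA (Subgroup.mem_subgroupOf.mp (hle hmem))
        have hx1 : (⟨x, hxP⟩ : ↥P) ∈ Subgroup.centralizer ({(⟨y, hy.1⟩ : ↥P)} : Set ↥P) := by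
          rw [htop]; exact Subgroup.mem_top _
        have hx2 := Subgroup.mem_centralizer_iff.mp hx1 _ rfl
        exact h.mem_center_of_comm hp.out hxS hxA hy.2 (congrArg Subtype.val hx2)
    have hinvZ : ∀ β ∈ F.autGroup P,
        ∀ y ∈ (S ⊓ Subgroup.centralizer (S : Set Ω)).subgroupOf P,
        β y ∈ (S ⊓ Subgroup.centralizer (S : Set Ω)).subgroupOf P := by
      intro β _ y hy
      rw [Subgroup.mem_subgroupOf] at hy ⊢
      apply hcenter
      rw [Subgroup.mem_center_iff]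
      intro w
      have hyc : ∀ v : ↥P, v * y = y * v :=
        fun v => Subtype.ext (Subgroup.mem_centralizer_iff.mp hy.2 v (hPS v.2))
      calc w * β y = β (β⁻¹ w * y) := by rw [map_mul, MulAut.apply_inv_self]
        _ = β (y * β⁻¹ w) := by rw [hyc]
        _ = β y * w := by rw [map_mul, MulAut.apply_inv_self]
    have hZ₂P : (Subgroup.upperCentralSeries ↥S 2).map S.subtype ≤ P := by
      intro w hw
      have hwS : w ∈ S := ((mem_ucs_two_iff w).mp hw).1
      have hwN := hZ₂N hw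
      have hle := chainSub_le_inn hPp (F.autGroup P) E hE _ hinvZ
      have hc : P.normalizerMonoidHom ⟨w, hwN⟩ ∈ chainSub (F.autGroup P)
          ((S ⊓ Subgroup.centralizer (S : Set Ω)).subgroupOf P) := by
        refine ⟨autInducedBy_le_autGroup F hPS (Subgroup.subset_closure ⟨w, hwS, fun y => rfl⟩),
          fun y => ?_, fun y hy => ?_⟩
        · rw [Subgroup.mem_subgroupOf]
          show (y : Ω)⁻¹ * (w * (y : Ω) * w⁻¹) ∈ _
          have h1 := ((mem_ucs_two_iff w).mp hw).2 (y : Ω)⁻¹ (S.inv_mem (hPS y.2))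
          have e : (y : Ω)⁻¹ * (w * (y : Ω) * w⁻¹)
              = (w * (y : Ω)⁻¹ * w⁻¹ * (y : Ω)⁻¹⁻¹)⁻¹ := by group
          rw [e]; exact Subgroup.inv_mem _ h1
        · apply Subtype.ext
          show w * (y : Ω) * w⁻¹ = y
          have hy' := Subgroup.mem_subgroupOf.mp hy
          rw [Subgroup.mem_centralizer_iff.mp hy'.2 w hwS]; group
      exact mem_of_conj_inner hcen hPS hwS _ (fun y => rfl) (hle hc)
    have hZ₂A : (Subgroup.upperCentralSeries ↥S 2).map S.subtype ≤ A := by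
      by_contra hnot
      obtain ⟨w, hwZ₂, hwA⟩ := SetLike.not_le_iff_exists.mp hnot
      have hwP := hZ₂P hwZ₂
      have hPZ₂ : P ≤ (Subgroup.upperCentralSeries ↥S 2).map S.subtype := by
        have h1 := max_of_relIndex_prime hp.out hI1' (le_inf hP₀Z₂ inf_le_left)
          (inf_le_right : (Subgroup.upperCentralSeries ↥S 2).map S.subtype ⊓ P ≤ P)
          (fun hle => hwA (hle ⟨hwZ₂, hwP⟩).2)
        exact h1.trans inf_le_left
      have hPeq : P = (Subgroup.upperCentralSeries ↥S 2).map S.subtype := le_antisymm hPZ₂ hZ₂P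
      have hSN : S ≤ Subgroup.normalizer (P : Set Ω) := by
        rw [hPeq]; exact le_normalizer_map_subtype _
      have h1 := hmain1
      rw [inf_eq_left.mpr hSN] at h1
      have h2 : (Subgroup.upperCentralSeries ↥S 2).index = p := by
        have e : (Subgroup.upperCentralSeries ↥S 2)
            = ((Subgroup.upperCentralSeries ↥S 2).map S.subtype).subgroupOf S :=
          (Subgroup.comap_map_eq_self_of_injective S.subtype_injective _).symm
        rw [e, ← hPeq]; exact h1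
      exact ucs_index_ne_prime hp.out 1 h2
    have hP₀eq : P ⊓ A = (Subgroup.upperCentralSeries ↥S 2).map S.subtype :=
      le_antisymm hP₀Z₂ (le_inf hZ₂P hZ₂A)
    refine ⟨hmain1, hZ₂A, ?_, x, hxS, hxA, Or.inr ?_⟩
    · rw [← hP₀eq]; exact hcase
    · apply le_antisymm
      · exact hgen _ (hP₀Z₂.trans le_sup_left)
          (sup_le hZ₂P (by rw [Subgroup.zpowers_le]; exact hxP))
          (Subgroup.mem_sup_right (Subgroup.mem_zpowers x))
      · exact sup_le hZ₂P (by rw [Subgroup.zpowers_le]; exact hxP)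

end Cfsg.Agent.H85
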