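import Cfsg.Agent.H85.Sat
import Cfsg.Agent.H85.Factor

set_option autoImplicit false

namespace Cfsg.Agent.H85

open Cfsg Cfsg.FusionSystem

section Iso

variable {Ω : Type*} [Group Ω] {S : Subgroup Ω} {Ω' : Type*} [Group Ω'] {S' : Subgroup Ω'}

/-- The subgroups `P ≤ S` and `P' ≤ S'` correspond under the isomorphism `e : S ≃* S'`. -/
def Corr (e : S ≃* S') (P : Subgroup Ω) (P' : Subgroup Ω') : Prop :=
  P ≤ S ∧ P' ≤ S' ∧ ∀ s : S, (s : Ω) ∈ P ↔ ((e s : S') : Ω') ∈ P'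

theorem Corr.symm {e : S ≃* S'} {P : Subgroup Ω} {P' : Subgroup Ω'} (h : Corr e P P') :
    Corr e.symm P' P :=
  ⟨h.2.1, h.1, fun s' => by rw [h.2.2 (e.symm s'), e.apply_symm_apply]⟩

theorem Corr.of_symm {e : S ≃* S'} {P : Subgroup Ω} {P' : Subgroup Ω'} (h : Corr e.symm P' P) :
    Corr e P P' :=
  ⟨h.2.1, h.1, fun s => by rw [h.2.2 (e s)]; rw [e.symm_apply_apply]⟩

theorem Corr.mem {e : S ≃* S'} {P : Subgroup Ω} {P' : Subgroup Ω'} (h : Corr e P P') (x : P) :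
    ((e ⟨x, h.1 x.2⟩ : S') : Ω') ∈ P' := (h.2.2 ⟨x, h.1 x.2⟩).mp x.2

theorem Corr.mem' {e : S ≃* S'} {P : Subgroup Ω} {P' : Subgroup Ω'} (h : Corr e P P') (y : P') :
    ((e.symm ⟨y, h.2.1 y.2⟩ : S) : Ω) ∈ P :=
  (h.2.2 (e.symm ⟨y, h.2.1 y.2⟩)).mpr (by rw [e.apply_symm_apply]; exact y.2)

/-- The isomorphism `P ≃* P'` induced by `e` on corresponding subgroups. -/
def Corr.equiv {e : S ≃* S'} {P : Subgroup Ω} {P' : Subgroup Ω'} (h : Corr e P P') : P ≃* P' where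
  toFun x := ⟨e ⟨x, h.1 x.2⟩, h.mem x⟩
  invFun y := ⟨e.symm ⟨y, h.2.1 y.2⟩, h.mem' y⟩
  left_inv x := by
    apply Subtype.ext
    show ((e.symm ⟨((e ⟨x, h.1 x.2⟩ : S') : Ω'), _⟩ : S) : Ω) = x
    have : (⟨((e ⟨x, h.1 x.2⟩ : S') : Ω'), h.2.1 (h.mem x)⟩ : S') = e ⟨x, h.1 x.2⟩ := rfl
    rw [this, e.symm_apply_apply]
  right_inv y := by
    apply Subtype.ext
    show ((e ⟨((e.symm ⟨y, h.2.1 y.2⟩ : S) : Ω), _⟩ : S') : Ω') = y
    have : (⟨((e.symm ⟨y, h.2.1 y.2⟩ : S) : Ω), h.1 (h.mem' y)⟩ : S) = e.symm ⟨y, h.2.1 y.2⟩ := rfl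
    rw [this, e.apply_symm_apply]
  map_mul' x y := by
    apply Subtype.ext
    have e1 : (⟨((x * y : P) : Ω), h.1 (x * y).2⟩ : S) = ⟨x, h.1 x.2⟩ * ⟨y, h.1 y.2⟩ := rfl
    show ((e ⟨((x * y : P) : Ω), h.1 (x * y).2⟩ : S') : Ω') =
      ((e ⟨x, h.1 x.2⟩ : S') : Ω') * ((e ⟨y, h.1 y.2⟩ : S') : Ω')
    rw [e1, map_mul]
    rfl

theorem Corr.coe_equiv {e : S ≃* S'} {P : Subgroup Ω} {P' : Subgroup Ω'} (h : Corr e P P') (x : P) :
    ((h.equiv x : P') : Ω') = ((e ⟨x, h.1 x.2⟩ : S') : Ω') := rfl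

theorem Corr.coe_equiv_symm {e : S ≃* S'} {P : Subgroup Ω} {P' : Subgroup Ω'} (h : Corr e P P')
    (y : P') : ((h.equiv.symm y : P) : Ω) = ((e.symm ⟨y, h.2.1 y.2⟩ : S) : Ω) := rfl

theorem Corr.symm_equiv {e : S ≃* S'} {P : Subgroup Ω} {P' : Subgroup Ω'} (h : Corr e P P') :
    h.symm.equiv = h.equiv.symm := rfl

/-- The image of a subgroup under `e`. -/
def corrImg (e : S ≃* S') (P : Subgroup Ω) : Subgroup Ω' :=
  (P.subgroupOf S).map (S'.subtype.comp e.toMonoidHom)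

theorem corr_img (e : S ≃* S') {P : Subgroup Ω} (hP : P ≤ S) : Corr e P (corrImg e P) := by
  refine ⟨hP, ?_, fun s => ⟨fun hs => ⟨s, Subgroup.mem_subgroupOf.mpr hs, rfl⟩, ?_⟩⟩
  · rintro _ ⟨s, -, rfl⟩; exact (e s).2
  · rintro ⟨t, ht, hts⟩
    have : e t = e s := Subtype.ext hts
    rw [← e.injective this]
    exact Subgroup.mem_subgroupOf.mp ht

theorem Corr.exists_right (e : S ≃* S') {P : Subgroup Ω} (hP : P ≤ S) : ∃ P', Corr e P P' :=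
  ⟨_, corr_img e hP⟩

theorem Corr.exists_left (e : S ≃* S') {P' : Subgroup Ω'} (hP' : P' ≤ S') : ∃ P, Corr e P P' :=
  ⟨_, (corr_img e.symm hP').of_symm⟩

theorem Corr.le_of_le {e : S ≃* S'} {P Q : Subgroup Ω} {P' Q' : Subgroup Ω'} (hP : Corr e P P')
    (hQ : Corr e Q Q') (h : P ≤ Q) : P' ≤ Q' := by
  intro y hy
  have h1 := hP.mem' ⟨y, hy⟩
  have h2 := (hQ.2.2 (e.symm ⟨y, hP.2.1 hy⟩)).mp (h h1)
  rw [e.apply_symm_apply] at h2
  exact h2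

theorem Corr.le_iff {e : S ≃* S'} {P Q : Subgroup Ω} {P' Q' : Subgroup Ω'} (hP : Corr e P P')
    (hQ : Corr e Q Q') : P ≤ Q ↔ P' ≤ Q' :=
  ⟨hP.le_of_le hQ, hP.symm.le_of_le hQ.symm⟩

theorem Corr.unique_right {e : S ≃* S'} {P : Subgroup Ω} {P' P'' : Subgroup Ω'} (h₁ : Corr e P P')
    (h₂ : Corr e P P'') : P' = P'' :=
  le_antisymm (h₁.le_of_le h₂ le_rfl) (h₂.le_of_le h₁ le_rfl)

theorem Corr.unique_left {e : S ≃* S'} {P Q : Subgroup Ω} {P' : Subgroup Ω'} (h₁ : Corr e P P')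
    (h₂ : Corr e Q P') : P = Q :=
  h₁.symm.unique_right h₂.symm

theorem Corr.top (e : S ≃* S') : Corr e S S' :=
  ⟨le_rfl, le_rfl, fun s => ⟨fun _ => (e s).2, fun _ => s.2⟩⟩

theorem Corr.bot (e : S ≃* S') : Corr e ⊥ ⊥ := by
  refine ⟨bot_le, bot_le, fun s => ?_⟩
  rw [Subgroup.mem_bot, Subgroup.mem_bot]
  constructor
  · intro h
    have : s = 1 := Subtype.ext h
    rw [this, map_one]; rfl
  · intro h
    have h1 : e s = 1 := Subtype.ext h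
    have : s = 1 := by
      rw [← e.symm_apply_apply s, h1, map_one]
    rw [this]; rfl

theorem Corr.sup {e : S ≃* S'} {P Q : Subgroup Ω} {P' Q' : Subgroup Ω'} (hP : Corr e P P')
    (hQ : Corr e Q Q') : Corr e (P ⊔ Q) (P' ⊔ Q') := by
  have hc := corr_img e (sup_le hP.1 hQ.1)
  have h1 : corrImg e (P ⊔ Q) = P' ⊔ Q' := by
    apply le_antisymm
    · have hc' : Corr e (P ⊔ Q) (corrImg e (P ⊔ Q)) := hc
      -- pull back P' ⊔ Q'
      obtain ⟨R, hR⟩ := Corr.exists_left e (sup_le hP.2.1 hQ.2.1 : P' ⊔ Q' ≤ S')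
      have hPR : P ≤ R := (hP.le_iff hR).mpr le_sup_left
      have hQR : Q ≤ R := (hQ.le_iff hR).mpr le_sup_right
      exact (hc'.le_iff hR).mp (sup_le hPR hQR)
    · exact sup_le ((hP.le_iff hc).mp le_sup_left) ((hQ.le_iff hc).mp le_sup_right)
  rw [← h1]; exact hc

theorem Corr.centralizerIn {e : S ≃* S'} {T : Subgroup Ω} {T' : Subgroup Ω'} (hT : Corr e T T') :
    Corr e (centralizerIn S T) (centralizerIn S' T') := by
  refine ⟨inf_le_left, inf_le_left, fun s => ?_⟩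
  constructor
  · rintro ⟨-, hs⟩
    refine ⟨(e s).2, ?_⟩
    show ((e s : S') : Ω') ∈ Subgroup.centralizer (T' : Set Ω')
    rw [Subgroup.mem_centralizer_iff]
    intro y hy
    have hx := hT.mem' ⟨y, hy⟩
    have h1 : ((e.symm ⟨y, hT.2.1 hy⟩ : S) : Ω) * (s : Ω) = (s : Ω) * ((e.symm ⟨y, hT.2.1 hy⟩ : S) : Ω) :=
      Subgroup.mem_centralizer_iff.mp hs _ hx
    have h2 : e.symm ⟨y, hT.2.1 hy⟩ * s = s * e.symm ⟨y, hT.2.1 hy⟩ := Subtype.ext h1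
    have h3 := congrArg (fun t : S => ((e t : S') : Ω')) h2
    simp only [map_mul, e.apply_symm_apply, Subgroup.coe_mul] at h3
    exact h3
  · rintro ⟨-, hs⟩
    refine ⟨s.2, ?_⟩
    show (s : Ω) ∈ Subgroup.centralizer (T : Set Ω)
    rw [Subgroup.mem_centralizer_iff]
    intro x hx
    have hy := hT.mem ⟨x, hx⟩
    have h1 : ((e ⟨x, hT.1 hx⟩ : S') : Ω') * ((e s : S') : Ω') =
        ((e s : S') : Ω') * ((e ⟨x, hT.1 hx⟩ : S') : Ω') :=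
      Subgroup.mem_centralizer_iff.mp hs _ hy
    have h2 : e (⟨x, hT.1 hx⟩ * s) = e (s * ⟨x, hT.1 hx⟩) := by
      rw [map_mul, map_mul]; exact Subtype.ext h1
    have h3 := congrArg (fun t : S => (t : Ω)) (e.injective h2)
    exact h3

theorem Corr.card_eq {e : S ≃* S'} {P : Subgroup Ω} {P' : Subgroup Ω'} (h : Corr e P P') :
    Nat.card P = Nat.card P' := Nat.card_congr h.equiv.toEquiv

/-- Push a homomorphism `φ : P →* Ω` with values in `S` forward along `e`. -/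
def Corr.push {e : S ≃* S'} {P : Subgroup Ω} {P' : Subgroup Ω'} (h : Corr e P P') (φ : P →* Ω)
    (hφ : ∀ x : P, φ x ∈ S) : P' →* Ω' :=
  (S'.subtype.comp e.toMonoidHom).comp ((φ.codRestrict S hφ).comp h.equiv.symm.toMonoidHom)

theorem Corr.push_apply {e : S ≃* S'} {P : Subgroup Ω} {P' : Subgroup Ω'} (h : Corr e P P')
    (φ : P →* Ω) (hφ : ∀ x : P, φ x ∈ S) (y : P') :
    h.push φ hφ y = ((e ⟨φ (h.equiv.symm y), hφ _⟩ : S') : Ω') := rfl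

theorem Corr.push_equiv {e : S ≃* S'} {P : Subgroup Ω} {P' : Subgroup Ω'} (h : Corr e P P')
    (φ : P →* Ω) (hφ : ∀ x : P, φ x ∈ S) (x : P) :
    h.push φ hφ (h.equiv x) = ((e ⟨φ x, hφ x⟩ : S') : Ω') := by
  rw [h.push_apply]
  have : h.equiv.symm (h.equiv x) = x := h.equiv.symm_apply_apply x
  simp only [this]

/-- `φ'` is the map corresponding to `φ` under `e`. -/
def Match (e : S ≃* S') {P : Subgroup Ω} (φ : P →* Ω) {P' : Subgroup Ω'} (φ' : P' →* Ω') : Prop :=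
  ∃ (h : Corr e P P') (hφ : ∀ x : P, φ x ∈ S), ∀ x : P, φ' (h.equiv x) = ((e ⟨φ x, hφ x⟩ : S') : Ω')

theorem Corr.push_match {e : S ≃* S'} {P : Subgroup Ω} {P' : Subgroup Ω'} (h : Corr e P P')
    (φ : P →* Ω) (hφ : ∀ x : P, φ x ∈ S) : Match e φ (h.push φ hφ) :=
  ⟨h, hφ, fun x => h.push_equiv φ hφ x⟩

theorem Match.corr {e : S ≃* S'} {P : Subgroup Ω} {φ : P →* Ω} {P' : Subgroup Ω'} {φ' : P' →* Ω'}
    (m : Match e φ φ') : Corr e P P' := m.1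

theorem Match.val_mem {e : S ≃* S'} {P : Subgroup Ω} {φ : P →* Ω} {P' : Subgroup Ω'}
    {φ' : P' →* Ω'} (m : Match e φ φ') (x : P) : φ x ∈ S := m.2.1 x

theorem Match.val_mem' {e : S ≃* S'} {P : Subgroup Ω} {φ : P →* Ω} {P' : Subgroup Ω'}
    {φ' : P' →* Ω'} (m : Match e φ φ') (y : P') : φ' y ∈ S' := by
  obtain ⟨h, hφ, heq⟩ := m
  have := heq (h.equiv.symm y)
  rw [h.equiv.apply_symm_apply] at this
  rw [this]; exact (e _).2

theorem Match.apply {e : S ≃* S'} {P : Subgroup Ω} {φ : P →* Ω} {P' : Subgroup Ω'}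
    {φ' : P' →* Ω'} (m : Match e φ φ') (x : P) :
    φ' (m.corr.equiv x) = ((e ⟨φ x, m.val_mem x⟩ : S') : Ω') := m.2.2 x

theorem Match.apply' {e : S ≃* S'} {P : Subgroup Ω} {φ : P →* Ω} {P' : Subgroup Ω'}
    {φ' : P' →* Ω'} (m : Match e φ φ') (y : P') :
    φ (m.corr.equiv.symm y) = ((e.symm ⟨φ' y, m.val_mem' y⟩ : S) : Ω) := by
  have h1 := m.apply (m.corr.equiv.symm y)
  have e1 : m.corr.equiv (m.corr.equiv.symm y) = y := m.corr.equiv.apply_symm_apply y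
  have h2 : (⟨φ' y, m.val_mem' y⟩ : S') = e ⟨φ (m.corr.equiv.symm y), m.val_mem _⟩ := by
    apply Subtype.ext
    show φ' y = _
    rw [← h1, e1]
  rw [h2, e.symm_apply_apply]

theorem Match.symm {e : S ≃* S'} {P : Subgroup Ω} {φ : P →* Ω} {P' : Subgroup Ω'}
    {φ' : P' →* Ω'} (m : Match e φ φ') : Match e.symm φ' φ :=
  ⟨m.corr.symm, m.val_mem', fun y => m.apply' y⟩

theorem Match.of_symm {e : S ≃* S'} {P : Subgroup Ω} {φ : P →* Ω} {P' : Subgroup Ω'}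
    {φ' : P' →* Ω'} (m : Match e.symm φ' φ) : Match e φ φ' :=
  ⟨m.corr.of_symm, m.val_mem', fun x => m.apply' x⟩

/-- `e` is an isomorphism of fusion systems from `F` onto `F'`. -/
def IsoRel (e : S ≃* S') (F : FusionSystem S) (F' : FusionSystem S') : Prop :=
  ∀ (P : Subgroup Ω) (P' : Subgroup Ω') (φ : P →* Ω) (φ' : P' →* Ω'), Match e φ φ' →
    (φ ∈ F.Hom P ↔ φ' ∈ F'.Hom P')

theorem IsoRel.symm {e : S ≃* S'} {F : FusionSystem S} {F' : FusionSystem S'}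
    (h : IsoRel e F F') : IsoRel e.symm F' F :=
  fun P' P φ' φ m => (h P P' φ φ' m.of_symm).symm

theorem IsoRel.push_mem {e : S ≃* S'} {F : FusionSystem S} {F' : FusionSystem S'}
    (h : IsoRel e F F') {P : Subgroup Ω} {P' : Subgroup Ω'} (hc : Corr e P P') {φ : P →* Ω}
    (hφ : φ ∈ F.Hom P) : hc.push φ (F.le_of_mem hφ).2 ∈ F'.Hom P' :=
  (h P P' φ _ (hc.push_match φ _)).mp hφ

theorem IsoRel.exists_pull {e : S ≃* S'} {F : FusionSystem S} {F' : FusionSystem S'}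
    (h : IsoRel e F F') {P' : Subgroup Ω'} {φ' : P' →* Ω'} (hφ' : φ' ∈ F'.Hom P') :
    ∃ (P : Subgroup Ω) (φ : P →* Ω), Match e φ φ' ∧ φ ∈ F.Hom P := by
  obtain ⟨P, hc⟩ := Corr.exists_left e (F'.le_of_mem hφ').1
  exact ⟨P, _, (hc.symm.push_match φ' _).of_symm, h.symm.push_mem hc.symm hφ'⟩

theorem IsoRel.exists_push {e : S ≃* S'} {F : FusionSystem S} {F' : FusionSystem S'}
    (h : IsoRel e F F') {P : Subgroup Ω} {φ : P →* Ω} (hφ : φ ∈ F.Hom P) :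
    ∃ (P' : Subgroup Ω') (φ' : P' →* Ω'), Match e φ φ' ∧ φ' ∈ F'.Hom P' := by
  obtain ⟨P', hc⟩ := Corr.exists_right e (F.le_of_mem hφ).1
  exact ⟨P', _, hc.push_match φ _, h.push_mem hc hφ⟩

theorem IsoRel.congr {e₁ e₂ : S ≃* S'} {F : FusionSystem S} {F' : FusionSystem S'}
    (h : IsoRel e₁ F F') (he : ∀ s, e₁ s = e₂ s) : IsoRel e₂ F F' := by
  have : e₁ = e₂ := MulEquiv.ext he
  rw [← this]; exact h

theorem fs_ext {F₁ F₂ : FusionSystem S} (h : ∀ P, F₁.Hom P = F₂.Hom P) : F₁ = F₂ := by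
  cases F₁; cases F₂
  simp only [FusionSystem.mk.injEq]
  funext P
  exact h P

theorem IsoRel.unique {e : S ≃* S'} {F : FusionSystem S} {F₁ F₂ : FusionSystem S'}
    (h₁ : IsoRel e F F₁) (h₂ : IsoRel e F F₂) : F₁ = F₂ := by
  apply fs_ext
  intro P'
  ext φ'
  constructor
  · intro hφ'
    obtain ⟨P, φ, m, hφ⟩ := h₁.exists_pull hφ'
    exact (h₂ P P' φ φ' m).mp hφ
  · intro hφ'
    obtain ⟨P, φ, m, hφ⟩ := h₂.exists_pull hφ'
    exact (h₁ P P' φ φ' m).mp hφ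

end Iso

end Cfsg.Agent.H85
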