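import Cfsg.Agent.H85.Iso2
import Cfsg.Agent.H85.InvSys

set_option autoImplicit false

namespace Cfsg.Agent.H85

open Cfsg Cfsg.FusionSystem

section Iso

variable {Ω : Type*} [Group Ω] {S : Subgroup Ω} {Ω' : Type*} [Group Ω'] {S' : Subgroup Ω'}

theorem Corr.restrict {e : S ≃* S'} {T : Subgroup Ω} {T' : Subgroup Ω'} (hT : Corr e T T')
    {P : Subgroup Ω} {P' : Subgroup Ω'} (hP : Corr e P P') (hPT : P ≤ T) : Corr hT.equiv P P' :=
  ⟨hPT, hP.le_of_le hT hPT, fun t => hP.2.2 ⟨t, hT.1 t.2⟩⟩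

theorem Corr.extend {e : S ≃* S'} {T : Subgroup Ω} {T' : Subgroup Ω'} (hT : Corr e T T')
    {P : Subgroup Ω} {P' : Subgroup Ω'} (hP : Corr hT.equiv P P') : Corr e P P' := by
  refine ⟨hP.1.trans hT.1, hP.2.1.trans hT.2.1, fun s => ⟨fun hs => ?_, fun hs => ?_⟩⟩
  · exact (hP.2.2 ⟨s, hP.1 hs⟩).mp hs
  · have hsT : (s : Ω) ∈ T := (hT.2.2 s).mpr (hP.2.1 hs)
    exact (hP.2.2 ⟨s, hsT⟩).mpr hs

theorem Match.extend {e : S ≃* S'} {T : Subgroup Ω} {T' : Subgroup Ω'} (hT : Corr e T T')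
    {P : Subgroup Ω} {φ : P →* Ω} {P' : Subgroup Ω'} {φ' : P' →* Ω'}
    (m : Match hT.equiv φ φ') : Match e φ φ' :=
  ⟨hT.extend m.corr, fun x => hT.1 (m.val_mem x), fun x => m.apply x⟩

theorem Match.restrict {e : S ≃* S'} {T : Subgroup Ω} {T' : Subgroup Ω'} (hT : Corr e T T')
    {P : Subgroup Ω} {φ : P →* Ω} {P' : Subgroup Ω'} {φ' : P' →* Ω'}
    (m : Match e φ φ') (hPT : P ≤ T) (hφT : ∀ x : P, φ x ∈ T) : Match hT.equiv φ φ' :=
  ⟨hT.restrict m.corr hPT, hφT, fun x => m.apply x⟩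

theorem IsoRel.subsystem {e : S ≃* S'} {F : FusionSystem S} {F' : FusionSystem S'}
    (h : IsoRel e F F') {T : Subgroup Ω} {T' : Subgroup Ω'} (hT : Corr e T T')
    {E : FusionSystem T} {E' : FusionSystem T'} (hE : IsoRel hT.equiv E E')
    (hsub : E.IsSubsystemOf F) : E'.IsSubsystemOf F' := by
  intro P' φ' hφ'
  obtain ⟨P, φ, m, hφ⟩ := hE.exists_pull hφ'
  exact (h P P' φ φ' (m.extend hT)).mp (hsub P hφ)

theorem congr_apply_equiv {P : Subgroup Ω} {P' : Subgroup Ω'} (f : P ≃* P') (α : MulAut P) (x : P) :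
    (MulAut.congr f α) (f x) = f (α x) := by
  show f (α (f.symm (f x))) = f (α x)
  rw [f.symm_apply_apply]

theorem congr_symm_apply_equiv {P : Subgroup Ω} {P' : Subgroup Ω'} (f : P ≃* P') (α' : MulAut P')
    (x : P) : f ((MulAut.congr f.symm α') x) = α' (f x) := by
  show f (f.symm (α' (f.symm.symm x))) = α' (f x)
  rw [f.apply_symm_apply]
  rfl

theorem IsoRel.invCond {e : S ≃* S'} {F : FusionSystem S} {F' : FusionSystem S'}
    (h : IsoRel e F F') {T : Subgroup Ω} {T' : Subgroup Ω'} (hT : Corr e T T')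
    {E : FusionSystem T} {E' : FusionSystem T'} (hE : IsoRel hT.equiv E E')
    (hinv : InvCond E F) : InvCond E' F' := by
  intro P' hP'T' φ' hφ' α' hα'
  obtain ⟨P, φ, m, hφ⟩ := hE.exists_pull hφ'
  have hPT : P ≤ T := m.corr.1
  have hα : MulAut.congr hT.equiv.symm α' ∈ F.autGroup T := (h.autGroup_congr' hT α').mp hα'
  obtain ⟨α, hαdef⟩ : ∃ α, α = MulAut.congr hT.equiv.symm α' := ⟨_, rfl⟩
  rw [← hαdef] at hα
  have hαapp : ∀ t : T, hT.equiv (α t) = α' (hT.equiv t) := by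
    intro t; rw [hαdef]; exact congr_symm_apply_equiv hT.equiv α' t
  obtain ⟨χ, hχ, hχx⟩ := hinv P hPT φ hφ α hα
  have hcA : Corr hT.equiv (autImage α P) (autImage α' P') := by
    refine ⟨autImage_le α P, autImage_le α' P', fun t => ⟨fun ht => ?_, fun ht => ?_⟩⟩
    · obtain ⟨x, hx⟩ := exists_of_mem_autImage α hPT ht
      have e1 : t = α ⟨x, hPT x.2⟩ := Subtype.ext hx.symm
      rw [e1, hαapp]
      exact mem_autImage α' hP'T' (m.corr.equiv x)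
    · obtain ⟨y, hy⟩ := exists_of_mem_autImage α' hP'T' ht
      obtain ⟨x, rfl⟩ := m.corr.equiv.surjective y
      have e1 : (⟨((m.corr.equiv x : P') : Ω'), hP'T' (m.corr.equiv x).2⟩ : T') =
          hT.equiv ⟨x, hPT x.2⟩ := Subtype.ext rfl
      rw [e1, ← hαapp] at hy
      have e2 : hT.equiv (α ⟨x, hPT x.2⟩) = hT.equiv t := Subtype.ext hy
      rw [← hT.equiv.injective e2]
      exact mem_autImage α hPT x
  have hχ' := hE.push_mem hcA hχ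
  refine ⟨hcA.push χ _, hχ', fun y hφy hαy => ?_⟩
  obtain ⟨x, rfl⟩ := m.corr.equiv.surjective y
  have hφx : φ x ∈ T := m.val_mem x
  have e1 : (⟨((α' ⟨((m.corr.equiv x : P') : Ω'), hP'T' (m.corr.equiv x).2⟩ : T') : Ω'), hαy⟩ :
      ↥(autImage α' P')) = hcA.equiv ⟨α ⟨x, hPT x.2⟩, mem_autImage α hPT x⟩ := by
    apply Subtype.ext
    show ((α' ⟨((m.corr.equiv x : P') : Ω'), hP'T' (m.corr.equiv x).2⟩ : T') : Ω') =
      ((hT.equiv (α ⟨x, hPT x.2⟩) : T') : Ω')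
    rw [hαapp]
    rfl
  have e3 : (⟨χ ⟨α ⟨x, hPT x.2⟩, mem_autImage α hPT x⟩, (E.le_of_mem hχ).2 _⟩ : T) =
      α ⟨φ x, hφx⟩ := Subtype.ext (hχx x hφx (mem_autImage α hPT x))
  have e2 : (⟨φ' (m.corr.equiv x), hφy⟩ : T') = hT.equiv ⟨φ x, hφx⟩ := Subtype.ext (m.apply x)
  rw [e1, hcA.push_equiv, e3, e2, ← hαapp]

theorem IsoRel.frattini {e : S ≃* S'} {F : FusionSystem S} {F' : FusionSystem S'}
    (h : IsoRel e F F') {T : Subgroup Ω} {T' : Subgroup Ω'} (hT : Corr e T T')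
    {E : FusionSystem T} {E' : FusionSystem T'} (hE : IsoRel hT.equiv E E')
    (hfrat : ∀ (P : Subgroup Ω), P ≤ T → ∀ (φ : P →* Ω), φ ∈ F.Hom P →
      ∃ α ∈ F.autGroup T, ∃ φ₀ ∈ E.Hom P, ∀ (x : P) (hx : φ₀ x ∈ T),
        φ x = ((α ⟨φ₀ x, hx⟩ : T) : Ω)) :
    ∀ (P' : Subgroup Ω'), P' ≤ T' → ∀ (φ' : P' →* Ω'), φ' ∈ F'.Hom P' →
      ∃ α' ∈ F'.autGroup T', ∃ φ₀' ∈ E'.Hom P', ∀ (y : P') (hy : φ₀' y ∈ T'),
        φ' y = ((α' ⟨φ₀' y, hy⟩ : T') : Ω') := by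
  intro P' hP' φ' hφ'
  obtain ⟨P, φ, m, hφ⟩ := h.exists_pull hφ'
  have hPT : P ≤ T := (m.corr.le_iff hT).mpr hP'
  obtain ⟨α, hα, φ₀, hφ₀, hx⟩ := hfrat P hPT φ hφ
  have hα' := (h.autGroup_congr hT α).mp hα
  have hcP : Corr hT.equiv P P' := hT.restrict m.corr hPT
  have hφ₀' := hE.push_mem hcP hφ₀
  refine ⟨MulAut.congr hT.equiv α, hα', hcP.push φ₀ _, hφ₀', fun y hy => ?_⟩
  obtain ⟨x, rfl⟩ := m.corr.equiv.surjective y
  have hφ₀x : φ₀ x ∈ T := (E.le_of_mem hφ₀).2 x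
  have e0 : m.corr.equiv x = hcP.equiv x := Subtype.ext rfl
  have e1 : (⟨hcP.push φ₀ (E.le_of_mem hφ₀).2 (m.corr.equiv x), hy⟩ : T') =
      hT.equiv ⟨φ₀ x, hφ₀x⟩ := by
    apply Subtype.ext
    show hcP.push φ₀ (E.le_of_mem hφ₀).2 (m.corr.equiv x) = _
    rw [e0, hcP.push_equiv]
  rw [e1, congr_apply_equiv, m.apply x]
  have e2 : (⟨φ x, m.val_mem x⟩ : S) = ⟨((α ⟨φ₀ x, hφ₀x⟩ : T) : Ω), hT.1 (α ⟨φ₀ x, hφ₀x⟩).2⟩ :=
    Subtype.ext (hx x hφ₀x)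
  rw [e2]
  rfl

theorem IsoRel.extCond {e : S ≃* S'} {F : FusionSystem S} {F' : FusionSystem S'}
    (h : IsoRel e F F') {T : Subgroup Ω} {T' : Subgroup Ω'} (hT : Corr e T T')
    {E : FusionSystem T} {E' : FusionSystem T'} (hE : IsoRel hT.equiv E E')
    (hext : ∀ α ∈ E.autGroup T, ∃ β ∈ F.autGroup (T ⊔ centralizerIn S T),
      (∀ x : T, ((β (Subgroup.inclusion le_sup_left x) : ↥(T ⊔ centralizerIn S T)) : Ω) =
        ((α x : T) : Ω)) ∧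
      ∀ c : ↥(T ⊔ centralizerIn S T), (c : Ω) ∈ centralizerIn S T →
        (c : Ω)⁻¹ * ((β c : ↥(T ⊔ centralizerIn S T)) : Ω) ∈ T ⊓ Subgroup.centralizer (T : Set Ω)) :
    ∀ α' ∈ E'.autGroup T', ∃ β' ∈ F'.autGroup (T' ⊔ centralizerIn S' T'),
      (∀ y : T', ((β' (Subgroup.inclusion le_sup_left y) : ↥(T' ⊔ centralizerIn S' T')) : Ω') =
        ((α' y : T') : Ω')) ∧
      ∀ c : ↥(T' ⊔ centralizerIn S' T'), (c : Ω') ∈ centralizerIn S' T' →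
        (c : Ω')⁻¹ * ((β' c : ↥(T' ⊔ centralizerIn S' T')) : Ω') ∈
          T' ⊓ Subgroup.centralizer (T' : Set Ω') := by
  intro α' hα'
  have hcTT : Corr hT.equiv T T' := Corr.top hT.equiv
  have hα : MulAut.congr hcTT.equiv.symm α' ∈ E.autGroup T := (hE.autGroup_congr' hcTT α').mp hα'
  obtain ⟨α, hαdef⟩ : ∃ α, α = MulAut.congr hcTT.equiv.symm α' := ⟨_, rfl⟩
  rw [← hαdef] at hα
  have hαapp : ∀ t : T, hT.equiv (α t) = α' (hT.equiv t) := by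
    intro t; rw [hαdef]; exact congr_symm_apply_equiv hcTT.equiv α' t
  obtain ⟨β, hβ, hβT, hβc⟩ := hext α hα
  have hcC : Corr e (centralizerIn S T) (centralizerIn S' T') := hT.centralizerIn
  have hcU : Corr e (T ⊔ centralizerIn S T) (T' ⊔ centralizerIn S' T') := hT.sup hcC
  have hβ' := (h.autGroup_congr hcU β).mp hβ
  refine ⟨MulAut.congr hcU.equiv β, hβ', fun y => ?_, fun c' hc' => ?_⟩
  · obtain ⟨x, rfl⟩ := hT.equiv.surjective y
    have e1 : (Subgroup.inclusion le_sup_left (hT.equiv x) : ↥(T' ⊔ centralizerIn S' T')) =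
        hcU.equiv (Subgroup.inclusion le_sup_left x) := Subtype.ext rfl
    rw [e1, congr_apply_equiv, ← hαapp]
    show ((e ⟨((β (Subgroup.inclusion le_sup_left x) : ↥(T ⊔ centralizerIn S T)) : Ω), _⟩ : S') : Ω') =
      ((e ⟨((α x : T) : Ω), _⟩ : S') : Ω')
    have e2 : (⟨((β (Subgroup.inclusion le_sup_left x) : ↥(T ⊔ centralizerIn S T)) : Ω),
        hcU.1 (β (Subgroup.inclusion le_sup_left x)).2⟩ : S) = ⟨((α x : T) : Ω), hT.1 (α x).2⟩ :=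
      Subtype.ext (hβT x)
    rw [e2]
  · obtain ⟨c, rfl⟩ := hcU.equiv.surjective c'
    have hcS : (c : Ω) ∈ S := hcU.1 c.2
    have hc : (c : Ω) ∈ centralizerIn S T := (hcC.2.2 ⟨c, hcS⟩).mpr hc'
    have hz := hβc c hc
    rw [congr_apply_equiv]
    have hzS : (c : Ω)⁻¹ * ((β c : ↥(T ⊔ centralizerIn S T)) : Ω) ∈ S := hT.1 hz.1
    have e3 : ((hcU.equiv c : ↥(T' ⊔ centralizerIn S' T')) : Ω')⁻¹ *
        ((hcU.equiv (β c) : ↥(T' ⊔ centralizerIn S' T')) : Ω') =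
        ((e ⟨(c : Ω)⁻¹ * ((β c : ↥(T ⊔ centralizerIn S T)) : Ω), hzS⟩ : S') : Ω') := by
      have e4 : (⟨(c : Ω)⁻¹ * ((β c : ↥(T ⊔ centralizerIn S T)) : Ω), hzS⟩ : S) =
          (⟨c, hcS⟩ : S)⁻¹ * ⟨β c, hcU.1 (β c).2⟩ := rfl
      rw [e4, map_mul, map_inv]
      rfl
    rw [e3]
    refine ⟨(hT.2.2 _).mp hz.1, ?_⟩
    have hzC : (c : Ω)⁻¹ * ((β c : ↥(T ⊔ centralizerIn S T)) : Ω) ∈ centralizerIn S T :=
      ⟨hzS, hz.2⟩
    exact ((hcC.2.2 ⟨_, hzS⟩).mp hzC).2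

/-- Normality of subsystems is transported along isomorphisms. -/
theorem IsoRel.normalIn [Finite S] {p : ℕ} [Fact p.Prime] (hS : IsPGroup p S) {e : S ≃* S'}
    {F : FusionSystem S} {F' : FusionSystem S'} (h : IsoRel e F F') {T : Subgroup Ω}
    {T' : Subgroup Ω'} (hT : Corr e T T') {E : FusionSystem T} {E' : FusionSystem T'}
    (hE : IsoRel hT.equiv E E') (hN : E.IsNormalIn F p) : E'.IsNormalIn F' p := by
  obtain ⟨⟨hEsat, hFsat, hsub, hsc, hinv, hfrat⟩, hext⟩ := hN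
  haveI : Finite T := finite_of_le hT.1
  have hTp : IsPGroup p T := hS.to_le hT.1
  exact ⟨⟨hE.saturated hTp hEsat, h.saturated hS hFsat, h.subsystem hT hE hsub,
    h.stronglyClosed hT hsc, h.invCond hT hE hinv, h.frattini hT hE hfrat⟩,
    h.extCond hT hE hext⟩

end Iso

end Cfsg.Agent.H85
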