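import Mathlib
import Cfsg.Prelude.Def_FusionSystem
import Cfsg.Prelude.Def_FusionComponents
import Cfsg.Agent.H85.Basic
import Cfsg.Agent.H85.Core
import Cfsg.Agent.H85.Aut
import Cfsg.Agent.H85.Sat
import Cfsg.Agent.H85.Factor
import Cfsg.Agent.Lib.Helper87.FSQuot
import Cfsg.Agent.Lib.Helper88.InnerSat
import Cfsg.Agent.Lib.Helper88.FSAbelian

set_option autoImplicit false

namespace Cfsg.Agent.H85

open Cfsg Cfsg.FusionSystem

variable {Ω : Type*} [Group Ω] {S : Subgroup Ω}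

/-- A map of the system fixes the elements of a central subgroup. -/
theorem central_fix (F : FusionSystem S) {Z : Subgroup Ω} (hZ : F.IsCentral Z) {P : Subgroup Ω}
    {φ : P →* Ω} (hφ : φ ∈ F.Hom P) (x : P) (hx : (x : Ω) ∈ Z) : φ x = x := by
  obtain ⟨ψ, -, hψP, hψZ⟩ := hZ.2 P φ hφ
  have h1 := hψP x
  have h2 := hψZ ⟨x, hx⟩
  have h12 : (Subgroup.inclusion (le_sup_left : P ≤ P ⊔ Z) x) =
      Subgroup.inclusion (le_sup_right : Z ≤ P ⊔ Z) ⟨x, hx⟩ := Subtype.ext rfl
  rw [h12, h2] at h1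
  exact h1.symm

/-- A central subgroup is strongly closed. -/
theorem stronglyClosed_of_isCentral (F : FusionSystem S) {Z : Subgroup Ω} (hZ : F.IsCentral Z) :
    F.StronglyClosed Z := by
  refine ⟨hZ.1, fun R hR φ hφ x => ?_⟩
  rw [central_fix F hZ hφ x (hR x.2)]
  exact hR x.2

/-- Over an abelian finite `p`-group, the inner fusion system is normal in every saturated system. -/
theorem inner_isNormalIn_of_abelian [Finite S] {p : ℕ} [Fact p.Prime] (hS : IsPGroup p S)
    (hab : ∀ x ∈ S, ∀ y ∈ S, x * y = y * x) (E : FusionSystem S) (hE : E.IsSaturated p) :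
    (innerFusionSystem S).IsNormalIn E p := by
  have hinner : ∀ {P : Subgroup Ω} {φ : P →* Ω}, φ ∈ (innerFusionSystem S).Hom P →
      ∀ x : P, φ x = x := by
    rintro P φ ⟨hP, g, hg, h⟩ x
    rw [h x, hab g hg x (hP x.2), mul_inv_cancel_right]
  have haut : ∀ α ∈ (innerFusionSystem S).autGroup S, α = 1 := by
    intro α hα
    have h1 := (mem_autGroup_iff (innerFusionSystem S) le_rfl α).mp hα
    ext x
    exact hinner h1 x
  refine ⟨⟨Lib.Helper88.InnerSat.inner_isSaturated p hS, hE,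
    Lib.Helper88.InnerSat.inner_isSubsystemOf E le_rfl,
    ⟨le_rfl, fun R hR φ hφ x => (E.le_of_mem hφ).2 x⟩, ?_, ?_⟩, ?_⟩
  · intro P hPT φ hφ α hα
    refine ⟨Subgroup.subtype _, Lib.Helper88.InnerSat.subtype_mem_inner ?_, ?_⟩
    · rintro _ ⟨y, -, rfl⟩
      exact (α y).2
    · intro x hφx hαx
      show ((α ⟨x, hPT x.2⟩ : S) : Ω) = ((α ⟨φ x, hφx⟩ : S) : Ω)
      have e : (⟨φ x, hφx⟩ : S) = ⟨x, hPT x.2⟩ := Subtype.ext (hinner hφ x)
      rw [e]
  · intro P hPT φ hφ
    obtain ⟨a, ha, hax⟩ := Lib.Helper88.FSAbelian.exists_aut_extension_of_abelian p E hE hab hφ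
    refine ⟨a, ha, P.subtype, Lib.Helper88.InnerSat.subtype_mem_inner hPT, fun x hx => ?_⟩
    exact (hax x x.2 hx).symm
  · intro α hα
    refine ⟨1, Subgroup.one_mem _, fun x => ?_, fun c hc => ?_⟩
    · rw [haut α hα]; rfl
    · show (c : Ω)⁻¹ * (c : Ω) ∈ _
      rw [inv_mul_cancel]; exact Subgroup.one_mem _

/-- A quasisimple fusion system is over a nonabelian group. -/
theorem not_comm_of_quasisimple [Finite S] (p : ℕ) [Fact p.Prime] (hS : IsPGroup p S)
    (F : FusionSystem S) (hq : F.Quasisimple p) : ¬ IsMulCommutative S := by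
  intro hcomm
  obtain ⟨hsat, hhyp, hsimple⟩ := hq
  have hZc : F.IsCentral F.center := isCentral_center F
  have hZsc : F.StronglyClosed F.center := stronglyClosed_of_isCentral F hZc
  obtain ⟨θ, hθdef⟩ : ∃ θ : S →* S ⧸ (F.center).subgroupOf S,
    θ = QuotientGroup.mk' ((F.center).subgroupOf S) := ⟨_, rfl⟩
  have hker : ∀ s : S, θ s = 1 ↔ (s : Ω) ∈ F.center := by
    intro s
    rw [hθdef, QuotientGroup.mk'_apply, QuotientGroup.eq_one_iff]
    exact Subgroup.mem_subgroupOf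
  have hrange : θ.range = ⊤ := by
    rw [hθdef]; exact MonoidHom.range_eq_top.mpr (QuotientGroup.mk'_surjective _)
  obtain ⟨E, hE⟩ := exists_factorSystem F F.center hZsc θ hker ⊤ hrange
  obtain ⟨hEsat, hne, hEn⟩ := hsimple E (hθdef ▸ hE)
  have hab' : ∀ x ∈ (⊤ : Subgroup (S ⧸ (F.center).subgroupOf S)), ∀ y ∈ (⊤ : Subgroup _),
      x * y = y * x := by
    intro x _ y _
    obtain ⟨a, rfl⟩ := QuotientGroup.mk_surjective x
    obtain ⟨b, rfl⟩ := QuotientGroup.mk_surjective y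
    rw [← QuotientGroup.mk_mul, ← QuotientGroup.mk_mul, mul_comm' a b]
  have hS' : IsPGroup p (⊤ : Subgroup (S ⧸ (F.center).subgroupOf S)) :=
    (hS.to_quotient _).to_subgroup ⊤
  have hnorm := inner_isNormalIn_of_abelian hS' hab' E hEsat
  have hEq : ∀ P, (innerFusionSystem ⊤).Hom P = E.Hom P := by
    rcases hEn ⊤ (innerFusionSystem ⊤) hnorm with h | ⟨-, h⟩
    · exact absurd h hne
    · exact h
  have hθS : ∀ s, θ s ∈ (⊤ : Subgroup (S ⧸ (F.center).subgroupOf S)) := fun s => Subgroup.mem_top _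
  have hkey : ∀ (P : Subgroup Ω) (φ : P →* Ω), φ ∈ F.Hom P →
      ∀ x : P, (x : Ω)⁻¹ * φ x ∈ F.center := by
    intro P φ hφ x
    obtain ⟨-, φ', hφ', hP, hφS, hPP', hind⟩ :=
      Lib.Helper87.FSQuot.le_indSys hS F hsat F.center hZsc θ E hE hθS P hφ
    rw [← hEq] at hφ'
    obtain ⟨-, g, -, hg⟩ := hφ'
    have h1 := hind x
    rw [hg] at h1
    have h2 : θ ⟨x, hP x.2⟩ = θ ⟨φ x, hφS x⟩ := by
      rw [← h1]
      show θ ⟨x, hP x.2⟩ = g * θ ⟨x, hP x.2⟩ * g⁻¹
      rw [hab' g (Subgroup.mem_top _) _ (Subgroup.mem_top _), mul_inv_cancel_right]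
    have h3 : θ ((⟨x, hP x.2⟩ : S)⁻¹ * ⟨φ x, hφS x⟩) = 1 := by
      rw [map_mul, map_inv, h2, inv_mul_cancel]
    exact (hker _).mp h3
  have hres : ∀ P : Subgroup Ω, P ≤ S → ∀ α : F.autGroup P, α ∈ pResidual p (F.autGroup P) →
      α = 1 := by
    intro P hP α hα
    haveI : Finite P := finite_of_le hP
    have hpow : ∀ β : F.autGroup P, β ^ (Nat.card P) = 1 := by
      intro β
      have hβ := (mem_autGroup_iff F hP (β : MulAut P)).mp β.2
      have hfix : ∀ t : P, (t : Ω) ∈ F.center → (β : MulAut P) t = t := by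
        intro t ht
        apply Subtype.ext
        exact central_fix F hZc hβ t ht
      have hstep : ∀ (n : ℕ) (x : P), ((β : MulAut P) ^ n) x = x * (x⁻¹ * (β : MulAut P) x) ^ n := by
        intro n
        induction n with
        | zero => intro x; simp
        | succ n ih =>
          intro x
          have ht : (β : MulAut P) (x⁻¹ * (β : MulAut P) x) = x⁻¹ * (β : MulAut P) x :=
            hfix _ (hkey P _ hβ x)
          rw [pow_succ', MulAut.mul_apply, ih x, map_mul, map_pow, ht, pow_succ', ← mul_assoc x,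
            mul_inv_cancel_left]
      apply Subtype.ext
      rw [Subgroup.coe_pow]
      ext x
      rw [hstep, pow_card_eq_one']
      simp
    have hle : pResidual p (F.autGroup P) ≤ ⊥ := by
      unfold pResidual
      rw [Subgroup.closure_le]
      intro g hg
      have hg' : Nat.Coprime (orderOf g) p := hg
      have h1 : orderOf g ∣ Nat.card P := orderOf_dvd_of_pow_eq_one (hpow g)
      obtain ⟨k, hk⟩ := IsPGroup.iff_card.mp (hS.to_le hP)
      rw [hk] at h1
      have h2 : orderOf g = 1 := Nat.Coprime.eq_one_of_dvd (Nat.Coprime.pow_right k hg') h1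
      exact orderOf_eq_one_iff.mp h2
    exact (Subgroup.mem_bot).mp (hle hα)
  have hhyp' : F.hyperfocalSubgroup p = ⊥ := by
    rw [eq_bot_iff]
    unfold hyperfocalSubgroup
    rw [Subgroup.closure_le]
    rintro y ⟨P, α, x, hP, hα, rfl⟩
    rw [hres P hP α hα]
    show (x : Ω)⁻¹ * (x : Ω) ∈ _
    rw [inv_mul_cancel]; exact Subgroup.one_mem _
  have hSbot : S ≤ ⊥ := by rw [← hhyp, hhyp']
  apply hne
  rw [eq_bot_iff]
  intro q _
  obtain ⟨s, rfl⟩ := QuotientGroup.mk_surjective q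
  have h1 : (s : Ω) = 1 := Subgroup.mem_bot.mp (hSbot s.2)
  have : s = 1 := Subtype.ext h1
  rw [this]; exact Subgroup.one_mem _

end Cfsg.Agent.H85
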