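import Cfsg.Agent.H85.Iso3
import Cfsg.Agent.H85.Core
import Cfsg.Agent.H85.Quasi
import Cfsg.Agent.H85.FullyNorm
import Cfsg.Agent.S5256

set_option autoImplicit false

namespace Cfsg.Agent.H85

open Cfsg Cfsg.FusionSystem

section Iso

variable {Ω : Type*} [Group Ω] {S : Subgroup Ω} {Ω' : Type*} [Group Ω'] {S' : Subgroup Ω'}

theorem IsoRel.isCentral {e : S ≃* S'} {F : FusionSystem S} {F' : FusionSystem S'}
    (h : IsoRel e F F') {Q : Subgroup Ω} {Q' : Subgroup Ω'} (hQ : Corr e Q Q')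
    (hc : F.IsCentral Q) : F'.IsCentral Q' := by
  refine ⟨hQ.2.1, fun P' φ' hφ' => ?_⟩
  obtain ⟨P, φ, m, hφ⟩ := h.exists_pull hφ'
  obtain ⟨ψ, hψ, hψP, hψQ⟩ := hc.2 P φ hφ
  have hcU : Corr e (P ⊔ Q) (P' ⊔ Q') := m.corr.sup hQ
  refine ⟨hcU.push ψ _, h.push_mem hcU hψ, fun y => ?_, fun y => ?_⟩
  · obtain ⟨x, rfl⟩ := m.corr.equiv.surjective y
    have e1 : (Subgroup.inclusion (le_sup_left : P' ≤ P' ⊔ Q') (m.corr.equiv x)) =
        hcU.equiv (Subgroup.inclusion (le_sup_left : P ≤ P ⊔ Q) x) := Subtype.ext rfl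
    rw [e1, hcU.push_equiv, m.apply x]
    have e2 : (⟨ψ (Subgroup.inclusion (le_sup_left : P ≤ P ⊔ Q) x), (F.le_of_mem hψ).2 _⟩ : S) =
        ⟨φ x, m.val_mem x⟩ := Subtype.ext (hψP x)
    rw [e2]
  · obtain ⟨x, rfl⟩ := hQ.equiv.surjective y
    have e1 : (Subgroup.inclusion (le_sup_right : Q' ≤ P' ⊔ Q') (hQ.equiv x)) =
        hcU.equiv (Subgroup.inclusion (le_sup_right : Q ≤ P ⊔ Q) x) := Subtype.ext rfl
    rw [e1, hcU.push_equiv]
    have e2 : (⟨ψ (Subgroup.inclusion (le_sup_right : Q ≤ P ⊔ Q) x), (F.le_of_mem hψ).2 _⟩ : S) =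
        ⟨x, hQ.1 x.2⟩ := Subtype.ext (hψQ x)
    rw [e2]
    rfl

theorem IsoRel.center [Finite S] {e : S ≃* S'} {F : FusionSystem S} {F' : FusionSystem S'}
    (h : IsoRel e F F') : Corr e F.center F'.center := by
  haveI : Finite S' := Finite.of_equiv S e.toEquiv
  have hZ := isCentral_center F
  have hZ' := isCentral_center F'
  obtain ⟨Z₁, hZ₁⟩ := Corr.exists_right e hZ.1
  have h1 : F'.IsCentral Z₁ := h.isCentral hZ₁ hZ
  obtain ⟨Z₂, hZ₂⟩ := Corr.exists_left e hZ'.1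
  have h2 : F.IsCentral Z₂ := h.symm.isCentral hZ₂.symm hZ'
  have h3 : Z₁ ≤ F'.center := le_sSup h1
  have h4 : Z₂ ≤ F.center := le_sSup h2
  have h5 : F'.center ≤ Z₁ := (hZ₂.le_iff hZ₁).mp h4
  have h6 : Z₁ = F'.center := le_antisymm h3 h5
  rw [← h6]; exact hZ₁

/-- Simplicity is transported along isomorphisms. -/
theorem IsoRel.isSimple [Finite S] {p : ℕ} [Fact p.Prime] (hS : IsPGroup p S) {e : S ≃* S'}
    {F : FusionSystem S} {F' : FusionSystem S'} (h : IsoRel e F F') (hF : F.IsSimple p) :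
    F'.IsSimple p := by
  obtain ⟨hsat, hne, hsimp⟩ := hF
  haveI : Finite S' := Finite.of_equiv S e.toEquiv
  have hS' : IsPGroup p S' := hS.of_equiv e
  refine ⟨h.saturated hS hsat, ?_, fun T' E' hN' => ?_⟩
  · intro hbot
    apply hne
    have h0 : ∀ y ∈ S', y = 1 := fun y hy => by rw [hbot] at hy; exact Subgroup.mem_bot.mp hy
    rw [eq_bot_iff]
    intro s hs
    exact ((Corr.bot e).2.2 ⟨s, hs⟩).mpr (Subgroup.mem_bot.mpr (h0 _ (e ⟨s, hs⟩).2))
  · have hT'S' : T' ≤ S' := hN'.1.2.2.2.1.1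
    obtain ⟨T, hT⟩ := Corr.exists_left e hT'S'
    haveI : Finite T' := finite_of_le hT'S'
    obtain ⟨E, hE⟩ := exists_isoRel E' hT.symm.equiv
    have hN : E.IsNormalIn F p := IsoRel.normalIn hS' h.symm hT.symm hE hN'
    rcases hsimp T E hN with hbot | ⟨hTS, hHom⟩
    · left
      have h1 : Corr e ⊥ T' := by
        have h0 := hT
        rw [hbot] at h0
        exact h0
      exact h1.unique_right (Corr.bot e)
    · right
      have h1 : Corr e S T' := by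
        have h0 := hT
        rw [hTS] at h0
        exact h0
      refine ⟨h1.unique_right (Corr.top e), fun P' => ?_⟩
      apply Set.Subset.antisymm
      · exact hN'.1.2.2.1 P'
      · intro φ' hφ'
        obtain ⟨P, φ, m, hφ⟩ := h.exists_pull hφ'
        have hPT : P ≤ T := by rw [hTS]; exact m.corr.1
        have hφT : ∀ x : P, φ x ∈ T := by rw [hTS]; exact m.val_mem
        have hφE : φ ∈ E.Hom P := by rw [hHom P]; exact hφ
        exact (hE P' P φ' φ (m.restrict hT hPT hφT).symm).mpr hφE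

theorem factor_iso_aux {Ω₁ : Type*} [Group Ω₁] {S₁ : Subgroup Ω₁} {Ω₁' : Type*} [Group Ω₁']
    {S₁' : Subgroup Ω₁'} {e : S ≃* S'} {F : FusionSystem S} {F' : FusionSystem S'}
    (h : IsoRel e F F') {Z : Subgroup Ω} {Z' : Subgroup Ω'} {π : S →* Ω₁} {π' : S' →* Ω₁'}
    {F₁ : FusionSystem S₁} {F₁' : FusionSystem S₁'} (hF₁ : F.IsFactorSystem Z π F₁)
    (hF₁' : F'.IsFactorSystem Z' π' F₁') (ē : S₁ ≃* S₁')
    (hē : ∀ (s : S) (hs : π s ∈ S₁), ((ē ⟨π s, hs⟩ : S₁') : Ω₁') = π' (e s))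
    {P₁ : Subgroup Ω₁} {P₁' : Subgroup Ω₁'} {φ₁ : P₁ →* Ω₁} {φ₁' : P₁' →* Ω₁'}
    (m : Match ē φ₁ φ₁') (hφ₁ : φ₁ ∈ F₁.Hom P₁) : φ₁' ∈ F₁'.Hom P₁' := by
  have hπS₁ : ∀ s : S, π s ∈ S₁ := fun s => by rw [← hF₁.2.2.1]; exact ⟨s, rfl⟩
  obtain ⟨-, φ, hφ, hP, hφS, hPP₁, hind⟩ := (hF₁.2.2.2 P₁ φ₁).mp hφ₁
  have hc : Corr e (preimageAlong π P₁) (preimageAlong π' P₁') := by
    refine ⟨preimageAlong_le π P₁, preimageAlong_le π' P₁', fun s => ?_⟩
    rw [mem_preimageAlong, mem_preimageAlong]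
    constructor
    · rintro ⟨_, hs⟩
      refine ⟨(e s).2, ?_⟩
      have h1 := (m.corr.2.2 ⟨π s, hπS₁ s⟩).mp hs
      rw [hē s (hπS₁ s)] at h1
      exact h1
    · rintro ⟨_, hs⟩
      refine ⟨s.2, ?_⟩
      have h1 : π' (e s) ∈ P₁' := hs
      rw [← hē s (hπS₁ s)] at h1
      exact (m.corr.2.2 ⟨π s, hπS₁ s⟩).mpr h1
  have hφ' := h.push_mem hc hφ
  rw [hF₁'.2.2.2 P₁' φ₁']
  refine ⟨m.corr.2.1, hc.push φ _, hφ', hc.2.1, fun y => (F'.le_of_mem hφ').2 y,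
    fun y => ((mem_preimageAlong π' P₁' y).mp y.2).2, fun y => ?_⟩
  obtain ⟨x, rfl⟩ := hc.equiv.surjective y
  have e1 : (⟨π' ⟨((hc.equiv x : ↥(preimageAlong π' P₁')) : Ω'), hc.2.1 (hc.equiv x).2⟩,
      ((mem_preimageAlong π' P₁' _).mp (hc.equiv x).2).2⟩ : P₁') =
      m.corr.equiv ⟨π ⟨x, hP x.2⟩, hPP₁ x⟩ := by
    apply Subtype.ext
    show π' (e ⟨x, hc.1 x.2⟩) = ((ē ⟨π ⟨x, hP x.2⟩, _⟩ : S₁') : Ω₁')
    rw [hē ⟨x, hP x.2⟩]
  rw [e1, m.apply]
  have e2 : (⟨φ₁ ⟨π ⟨x, hP x.2⟩, hPP₁ x⟩, m.val_mem _⟩ : S₁) = ⟨π ⟨φ x, hφS x⟩, hπS₁ _⟩ :=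
    Subtype.ext (hind x)
  rw [e2, hē ⟨φ x, hφS x⟩]
  have e3 : (⟨hc.push φ (F.le_of_mem hφ).2 (hc.equiv x), (F'.le_of_mem hφ').2 _⟩ : S') =
      e ⟨φ x, hφS x⟩ := Subtype.ext (hc.push_equiv φ _ x)
  rw [e3]

/-- Isomorphic systems have isomorphic factor systems. -/
theorem factor_iso {Ω₁ : Type*} [Group Ω₁] {S₁ : Subgroup Ω₁} {Ω₁' : Type*} [Group Ω₁']
    {S₁' : Subgroup Ω₁'} {e : S ≃* S'} {F : FusionSystem S} {F' : FusionSystem S'}
    (h : IsoRel e F F') {Z : Subgroup Ω} {Z' : Subgroup Ω'} {π : S →* Ω₁} {π' : S' →* Ω₁'}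
    {F₁ : FusionSystem S₁} {F₁' : FusionSystem S₁'} (hF₁ : F.IsFactorSystem Z π F₁)
    (hF₁' : F'.IsFactorSystem Z' π' F₁') (ē : S₁ ≃* S₁')
    (hē : ∀ (s : S) (hs : π s ∈ S₁), ((ē ⟨π s, hs⟩ : S₁') : Ω₁') = π' (e s)) :
    IsoRel ē F₁ F₁' := by
  have hπS₁ : ∀ s : S, π s ∈ S₁ := fun s => by rw [← hF₁.2.2.1]; exact ⟨s, rfl⟩
  have hē' : ∀ (s' : S') (hs : π' s' ∈ S₁'), ((ē.symm ⟨π' s', hs⟩ : S₁) : Ω₁) = π (e.symm s') := by
    intro s' hs
    have h1 := hē (e.symm s') (hπS₁ _)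
    rw [e.apply_symm_apply] at h1
    have h2 : ē ⟨π (e.symm s'), hπS₁ _⟩ = ⟨π' s', hs⟩ := Subtype.ext h1
    rw [← h2, ē.symm_apply_apply]
  intro P₁ P₁' φ₁ φ₁' m
  exact ⟨factor_iso_aux h hF₁ hF₁' ē hē m, factor_iso_aux h.symm hF₁' hF₁ ē.symm hē' m.symm⟩

/-- Quasisimplicity is transported along isomorphisms. -/
theorem IsoRel.quasisimple [Finite S] {p : ℕ} [Fact p.Prime] (hS : IsPGroup p S) {e : S ≃* S'}
    {F : FusionSystem S} {F' : FusionSystem S'} (h : IsoRel e F F') (hQ : F.Quasisimple p) :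
    F'.Quasisimple p := by
  obtain ⟨hsat, hhyp, hquot⟩ := hQ
  haveI : Finite S' := Finite.of_equiv S e.toEquiv
  have hS' : IsPGroup p S' := hS.of_equiv e
  refine ⟨h.saturated hS hsat, ?_, fun E' hE' => ?_⟩
  · rw [Cfsg.Agent.S5256.result p hS F hsat ⊥ (stronglyClosed_bot F) _ F' (factor_of_isoRel h), hhyp]
    ext y
    constructor
    · rintro ⟨s, -, rfl⟩; exact (e s).2
    · intro hy
      refine ⟨e.symm ⟨y, hy⟩, Subgroup.mem_subgroupOf.mpr (e.symm ⟨y, hy⟩).2, ?_⟩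
      show ((e (e.symm ⟨y, hy⟩) : S') : Ω') = y
      rw [e.apply_symm_apply]
  · have hZ : Corr e F.center F'.center := h.center
    have hcen := isCentral_center F
    have hker : ∀ s : S, (QuotientGroup.mk' ((F.center).subgroupOf S)) s = 1 ↔
        (s : Ω) ∈ F.center := by
      intro s
      rw [QuotientGroup.mk'_apply, QuotientGroup.eq_one_iff]; exact Subgroup.mem_subgroupOf
    have hrange : (QuotientGroup.mk' ((F.center).subgroupOf S)).range = ⊤ :=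
      MonoidHom.range_eq_top.mpr (QuotientGroup.mk'_surjective _)
    obtain ⟨E₁, hE₁⟩ := exists_factorSystem F F.center (stronglyClosed_of_isCentral F hcen)
      (QuotientGroup.mk' ((F.center).subgroupOf S)) hker ⊤ hrange
    have hsimp := hquot E₁ hE₁
    have hmap : ((F.center).subgroupOf S).map (e : S →* S') = (F'.center).subgroupOf S' := by
      ext y
      constructor
      · rintro ⟨s, hs, rfl⟩
        exact Subgroup.mem_subgroupOf.mpr ((hZ.2.2 s).mp (Subgroup.mem_subgroupOf.mp hs))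
      · intro hy
        refine ⟨e.symm y, Subgroup.mem_subgroupOf.mpr ((hZ.2.2 _).mpr ?_), e.apply_symm_apply y⟩
        rw [e.apply_symm_apply]; exact Subgroup.mem_subgroupOf.mp hy
    obtain ⟨q, hq⟩ : ∃ q : (S ⧸ (F.center).subgroupOf S) ≃* (S' ⧸ (F'.center).subgroupOf S'),
        ∀ s : S, q (QuotientGroup.mk s) = QuotientGroup.mk (e s) :=
      ⟨QuotientGroup.congr _ _ e hmap, fun s => QuotientGroup.congr_mk _ _ e hmap s⟩
    obtain ⟨ē, hē⟩ : ∃ ē : (⊤ : Subgroup (S ⧸ (F.center).subgroupOf S)) ≃*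
        (⊤ : Subgroup (S' ⧸ (F'.center).subgroupOf S')),
        ∀ x, ((ē x : ↥(⊤ : Subgroup (S' ⧸ (F'.center).subgroupOf S'))) :
          S' ⧸ (F'.center).subgroupOf S') = q x :=
      ⟨(Subgroup.topEquiv.trans q).trans Subgroup.topEquiv.symm, fun x => rfl⟩
    have hiso : IsoRel ē E₁ E' := factor_iso h hE₁ hE' ē (fun s hs => by rw [hē]; exact hq s)
    have hp₁ : IsPGroup p ↥(⊤ : Subgroup (S ⧸ (F.center).subgroupOf S)) :=
      (hS.to_quotient _).to_subgroup ⊤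
    exact hiso.isSimple hp₁ hsimp

/-- Subnormality is transported along isomorphisms. -/
theorem subnormal_transport {T : Subgroup Ω} {E : FusionSystem T} {F : FusionSystem S} {p : ℕ}
    (hsn : E.IsSubnormalIn F p) :
    Fact p.Prime → Finite S → IsPGroup p S →
      ∀ (S' : Subgroup Ω') (e : S ≃* S') (F' : FusionSystem S'), IsoRel e F F' →
      ∀ (T' : Subgroup Ω') (hT : Corr e T T') (E' : FusionSystem T'), IsoRel hT.equiv E E' →
        E'.IsSubnormalIn F' p := by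
  induction hsn with
  | refl F p =>
    intro hp hfin hS S' e F' h T' hT E' hE
    have hT' : T' = S' := hT.unique_right (Corr.top e)
    subst hT'
    have h2 : IsoRel e F E' := hE.congr (fun s => Subtype.ext rfl)
    have h3 := h.unique h2
    subst h3
    exact IsSubnormalIn.refl _ _
  | step hED hDF ih =>
    rename_i T U S E D F p
    intro hp hfin hS S' e F' h T' hT E' hE
    haveI := hp
    haveI := hfin
    have hUS : U ≤ S := hDF.1.2.2.2.1.1
    have hTU : T ≤ U := (subnormal_aux hED).1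
    obtain ⟨U', hU⟩ := Corr.exists_right e hUS
    haveI : Finite U := finite_of_le hUS
    obtain ⟨D', hD⟩ := exists_isoRel D hU.equiv
    have hDF' : D'.IsNormalIn F' p := IsoRel.normalIn hS h hU hD hDF
    have hT2 : Corr hU.equiv T T' := hU.restrict hT hTU
    have hE2 : IsoRel hT2.equiv E E' := hE.congr (fun s => Subtype.ext rfl)
    exact IsSubnormalIn.step
      (ih hp (finite_of_le hUS) (hS.to_le hUS) U' hU.equiv D' hD T' hT2 E' hE2) hDF'

/-- Components are transported along isomorphisms. -/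
theorem IsoRel.component [Finite S] {p : ℕ} [Fact p.Prime] (hS : IsPGroup p S) {e : S ≃* S'}
    {F : FusionSystem S} {F' : FusionSystem S'} (h : IsoRel e F F') {T : Subgroup Ω}
    {T' : Subgroup Ω'} (hT : Corr e T T') {C : FusionSystem T} {C' : FusionSystem T'}
    (hC : IsoRel hT.equiv C C') (hcomp : C.IsComponentIn F p) : C'.IsComponentIn F' p := by
  haveI : Finite T := finite_of_le hT.1
  exact ⟨subnormal_transport hcomp.1 inferInstance inferInstance hS S' e F' h T' hT C' hC,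
    IsoRel.quasisimple (hS.to_le hT.1) hC hcomp.2⟩

end Iso

end Cfsg.Agent.H85
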