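import Cfsg.Agent.H85.Iso4
import Cfsg.Agent.H85.Invariant

set_option autoImplicit false

namespace Cfsg.Agent.H85

open Cfsg Cfsg.FusionSystem

section Iso

variable {Ω : Type*} [Group Ω] {S : Subgroup Ω}

theorem aut_isoRel_aux (F : FusionSystem S) (e : S ≃* S)
    (he : S.subtype.comp e.toMonoidHom ∈ F.Hom S) {P P' : Subgroup Ω} {φ : P →* Ω}
    {φ' : P' →* Ω} (m : Match e φ φ') (hφ : φ ∈ F.Hom P) : φ' ∈ F.Hom P' := by
  have hc := m.corr
  have hres : (S.subtype.comp e.toMonoidHom).comp (Subgroup.inclusion hc.1) ∈ F.Hom P :=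
    restrict_mem F he hc.1
  have hP'range : P' ≤ ((S.subtype.comp e.toMonoidHom).comp (Subgroup.inclusion hc.1)).range := by
    intro y hy
    refine ⟨hc.equiv.symm ⟨y, hy⟩, ?_⟩
    have h1 := hc.equiv.apply_symm_apply ⟨y, hy⟩
    exact congrArg Subtype.val h1
  obtain ⟨ψ, hψ, hψx⟩ := inv_mem' F hres hP'range
  have hψe : ∀ x : P, ψ (hc.equiv x) = (x : Ω) := fun x => hψx x (hc.equiv x).2
  have h1 : ∀ y : P', ψ y ∈ P := by
    intro y
    obtain ⟨x, rfl⟩ := hc.equiv.surjective y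
    rw [hψe]; exact x.2
  have hχ₁ : φ.comp (ψ.codRestrict P h1) ∈ F.Hom P' := F.comp_mem hψ hφ h1
  have h2 : ∀ y : P', (φ.comp (ψ.codRestrict P h1)) y ∈ S := (F.le_of_mem hχ₁).2
  refine comp_mem' F hχ₁ he h2 (fun y => ?_)
  obtain ⟨x, rfl⟩ := hc.equiv.surjective y
  have e1 : (⟨(φ.comp (ψ.codRestrict P h1)) (hc.equiv x), h2 _⟩ : S) = ⟨φ x, m.val_mem x⟩ := by
    apply Subtype.ext
    show φ ⟨ψ (hc.equiv x), h1 _⟩ = φ x
    congr 1
    exact Subtype.ext (hψe x)
  rw [e1]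
  exact m.apply x

/-- An automorphism of `S` that is a map of `F` is an isomorphism from `F` to itself. -/
theorem aut_isoRel (F : FusionSystem S) (e : S ≃* S)
    (he : S.subtype.comp e.toMonoidHom ∈ F.Hom S) : IsoRel e F F := by
  have he' : S.subtype.comp e.symm.toMonoidHom ∈ F.Hom S := by
    have hr : S ≤ (S.subtype.comp e.toMonoidHom).range := by
      intro y hy
      refine ⟨e.symm ⟨y, hy⟩, ?_⟩
      show ((e (e.symm ⟨y, hy⟩) : S) : Ω) = y
      rw [e.apply_symm_apply]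
    obtain ⟨ψ, hψ, hψx⟩ := inv_mem' F he hr
    refine hom_congr F hψ (fun y => ?_)
    have h1 := hψx (e.symm y) (e (e.symm y)).2
    have e1 : (⟨(S.subtype.comp e.toMonoidHom) (e.symm y), (e (e.symm y)).2⟩ : S) = y := by
      apply Subtype.ext
      show ((e (e.symm y) : S) : Ω) = y
      rw [e.apply_symm_apply]
    rw [e1] at h1
    rw [h1]
    rfl
  intro P P' φ φ' m
  exact ⟨aut_isoRel_aux F e he m, aut_isoRel_aux F e.symm he' m.symm⟩

theorem inv_isoRel_aux {U : Subgroup Ω} {D : FusionSystem U} {F : FusionSystem S}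
    (hinv : InvCond D F) (α : MulAut U) (hα : α ∈ F.autGroup U) {P P' : Subgroup Ω}
    {φ : P →* Ω} {φ' : P' →* Ω} (m : Match (α : U ≃* U) φ φ') (hφ : φ ∈ D.Hom P) :
    φ' ∈ D.Hom P' := by
  have hc := m.corr
  obtain ⟨χ, hχ, hχx⟩ := hinv P hc.1 φ hφ α hα
  have hcA : Corr (α : U ≃* U) P (autImage α P) := by
    refine ⟨hc.1, autImage_le α P, fun u => ⟨fun hu => mem_autImage α hc.1 ⟨u, hu⟩, fun hu => ?_⟩⟩
    obtain ⟨x, hx⟩ := exists_of_mem_autImage α hc.1 hu
    have h1 : α ⟨x, hc.1 x.2⟩ = α u := Subtype.ext hx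
    rw [← α.injective h1]
    exact x.2
  have hP' : autImage α P = P' := hcA.unique_right hc
  subst hP'
  refine hom_congr D hχ (fun y => ?_)
  obtain ⟨x, rfl⟩ := hc.equiv.surjective y
  have h2 := m.apply x
  rw [h2]
  exact (hχx x (m.val_mem x) (hc.equiv x).2).symm

/-- A subsystem invariant in `F` is carried to itself by the elements of `Aut_F(U)`. -/
theorem inv_isoRel {U : Subgroup Ω} {D : FusionSystem U} {F : FusionSystem S}
    (hinv : InvCond D F) (α : MulAut U) (hα : α ∈ F.autGroup U) : IsoRel (α : U ≃* U) D D := by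
  intro P P' φ φ' m
  refine ⟨inv_isoRel_aux hinv α hα m, fun h => ?_⟩
  have hα' : α⁻¹ ∈ F.autGroup U := inv_mem hα
  exact inv_isoRel_aux hinv α⁻¹ hα' m.symm h

/-- The image of a subnormal subsystem under a map of `F` is subnormal. -/
theorem conj_subnormal {T : Subgroup Ω} {C : FusionSystem T} {F : FusionSystem S} {p : ℕ}
    (hsn : C.IsSubnormalIn F p) :
    Fact p.Prime → Finite S → IsPGroup p S → F.IsSaturated p →
      ∀ (γ : T →* Ω), γ ∈ F.Hom T → ∀ (T' : Subgroup Ω) (e : T ≃* T'),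
        (∀ s, ((e s : T') : Ω) = γ s) → ∀ (E : FusionSystem T'), IsoRel e C E →
          E.IsSubnormalIn F p := by
  induction hsn with
  | refl F p =>
    intro hp hfin hS hF γ hγ T' e he E h
    haveI := hfin
    have hT'S : T' ≤ T := by
      intro y hy
      have h1 := he (e.symm ⟨y, hy⟩)
      rw [e.apply_symm_apply] at h1
      have h2 : y = γ (e.symm ⟨y, hy⟩) := h1
      rw [h2]; exact (F.le_of_mem hγ).2 _
    have hcard : Nat.card T = Nat.card T' := Nat.card_congr e.toEquiv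
    have hT' : T = T' := (Subgroup.eq_of_le_of_card_ge hT'S hcard.le).symm
    subst hT'
    have he2 : T.subtype.comp e.toMonoidHom ∈ F.Hom T := hom_congr F hγ (fun s => he s)
    have h2 : IsoRel e F F := aut_isoRel F e he2
    have h3 := h2.unique h
    subst h3
    exact IsSubnormalIn.refl _ _
  | step hCD hDF ih =>
    rename_i T U S C D F p
    intro hp hfin hS hF γ hγ T' e he E h
    haveI := hp
    haveI := hfin
    have hUS : U ≤ S := hDF.1.2.2.2.1.1
    have hTU : T ≤ U := (subnormal_aux hCD).1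
    haveI : Finite U := finite_of_le hUS
    haveI : Finite T := finite_of_le (hTU.trans hUS)
    obtain ⟨α, hα, γ₀, hγ₀, hfr⟩ := hDF.1.2.2.2.2.2 T hTU γ hγ
    have hγ₀U : ∀ t : T, γ₀ t ∈ U := (D.le_of_mem hγ₀).2
    have hγ₀inj : Function.Injective γ₀ := D.injective_of_mem hγ₀
    obtain ⟨e₀, he₀⟩ : ∃ e₀ : T ≃* γ₀.range, ∀ t, ((e₀ t : γ₀.range) : Ω) = γ₀ t :=
      ⟨MonoidHom.ofInjective hγ₀inj, fun t => rfl⟩
    obtain ⟨E₀, hE₀⟩ := exists_isoRel C e₀
    have hsn₀ : E₀.IsSubnormalIn D p :=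
      ih hp inferInstance (hS.to_le hUS) hDF.1.1 γ₀ hγ₀ γ₀.range e₀ he₀ E₀ hE₀
    have hαD : IsoRel (α : U ≃* U) D D := inv_isoRel hDF.1.2.2.2.2.1 α hα
    have hγα : ∀ t : T, γ t = ((α ⟨γ₀ t, hγ₀U t⟩ : U) : Ω) := fun t => hfr t (hγ₀U t)
    have hT₀ : Corr (α : U ≃* U) γ₀.range T' := by
      refine ⟨?_, ?_, fun u => ⟨?_, ?_⟩⟩
      · rintro _ ⟨t, rfl⟩; exact hγ₀U t
      · intro y hy
        have h1 := he (e.symm ⟨y, hy⟩)
        rw [e.apply_symm_apply] at h1
        have h2 : y = γ (e.symm ⟨y, hy⟩) := h1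
        rw [h2, hγα]; exact (α _).2
      · rintro ⟨t, ht⟩
        have e1 : u = ⟨γ₀ t, hγ₀U t⟩ := Subtype.ext ht.symm
        rw [e1, ← hγα, ← he]; exact (e t).2
      · intro hu
        have h1 := he (e.symm ⟨_, hu⟩)
        rw [e.apply_symm_apply] at h1
        have h1' : ((α u : U) : Ω) = γ (e.symm ⟨_, hu⟩) := h1
        rw [hγα] at h1'
        have h2 : α u = α ⟨γ₀ (e.symm ⟨_, hu⟩), hγ₀U _⟩ := Subtype.ext h1'
        have h3 := α.injective h2
        rw [h3]; exact ⟨_, rfl⟩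
    have hE : IsoRel hT₀.equiv E₀ E := by
      have h4 : IsoRel (e₀.symm.trans e) E₀ E := hE₀.symm.trans h
      refine h4.congr (fun s => ?_)
      obtain ⟨t, rfl⟩ := e₀.surjective s
      apply Subtype.ext
      show ((e (e₀.symm (e₀ t)) : T') : Ω) = ((α ⟨((e₀ t : γ₀.range) : Ω), _⟩ : U) : Ω)
      rw [e₀.symm_apply_apply, he, hγα]
      have e2 : (⟨((e₀ t : γ₀.range) : Ω), hT₀.1 (e₀ t).2⟩ : U) = ⟨γ₀ t, hγ₀U t⟩ :=
        Subtype.ext (he₀ t)
      rw [e2]
    have hsn : E.IsSubnormalIn D p :=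
      subnormal_transport hsn₀ hp inferInstance (hS.to_le hUS) U (α : U ≃* U) D hαD T' hT₀ E hE
    exact IsSubnormalIn.step hsn hDF

/-- The image of a component under a map of `F` is a component. -/
theorem conj_component [Finite S] (p : ℕ) [Fact p.Prime] (hS : IsPGroup p S) (F : FusionSystem S)
    (hF : F.IsSaturated p) {T : Subgroup Ω} (C : FusionSystem T) (hC : C.IsComponentIn F p)
    (γ : T →* Ω) (hγ : γ ∈ F.Hom T) (E : FusionSystem γ.range) (hE : C.IsFactorSystem ⊥ γ E) :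
    E.IsComponentIn F p := by
  obtain ⟨e, he, h⟩ := isoRel_of_factor hE
  have hTS : T ≤ S := (subnormal_aux hC.1).1
  haveI : Finite T := finite_of_le hTS
  exact ⟨conj_subnormal hC.1 inferInstance inferInstance hS hF γ hγ γ.range e he E h,
    h.quasisimple (hS.to_le hTS) hC.2⟩

end Iso

end Cfsg.Agent.H85
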