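import Cfsg.Agent.H85.Iso5

set_option autoImplicit false

namespace Cfsg.Agent.H85

open Cfsg Cfsg.FusionSystem

section Iso

variable {Ω : Type*} [Group Ω] {S : Subgroup Ω} {Ω' : Type*} [Group Ω'] {S' : Subgroup Ω'}

theorem isoRel_of_morphism_aux {F : FusionSystem S} {F' : FusionSystem S'} (α : S ≃* S')
    (hα : F.IsMorphism F' (S'.subtype.comp α.toMonoidHom)) {P : Subgroup Ω} {P' : Subgroup Ω'}
    {φ : P →* Ω} {φ' : P' →* Ω'} (m : Match α φ φ') (hφ : φ ∈ F.Hom P) : φ' ∈ F'.Hom P' := by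
  obtain ⟨φ'', hφ'', hP, hφS, hPP', hind⟩ := hα.2 P φ hφ
  have hc := m.corr
  have hP' : imageAlong (S'.subtype.comp α.toMonoidHom) P = P' :=
    (corr_img α hc.1).unique_right hc
  subst hP'
  refine hom_congr F' hφ'' (fun y => ?_)
  obtain ⟨x, rfl⟩ := hc.equiv.surjective y
  have h2 := m.apply x
  rw [h2]
  exact (hind x).symm

/-- A group isomorphism that is a morphism of fusion systems in both directions is an `IsoRel`. -/
theorem isoRel_of_morphism {F : FusionSystem S} {F' : FusionSystem S'} (α : S ≃* S')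
    (hα : F.IsMorphism F' (S'.subtype.comp α.toMonoidHom))
    (hα' : F'.IsMorphism F (S.subtype.comp α.symm.toMonoidHom)) : IsoRel α F F' := by
  intro P P' φ φ' m
  exact ⟨isoRel_of_morphism_aux α hα m, isoRel_of_morphism_aux α.symm hα' m.symm⟩

end Iso

section Layer

variable {Ω : Type*} [Group Ω] {S : Subgroup Ω}

/-- The layer is characteristic. -/
theorem layer_char [Finite S] (p : ℕ) [Fact p.Prime] (hS : IsPGroup p S) (F : FusionSystem S)
    (α : S ≃* S) (hα : F.IsMorphism F (S.subtype.comp α.toMonoidHom))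
    (hα' : F.IsMorphism F (S.subtype.comp α.symm.toMonoidHom))
    {T : Subgroup Ω} (E : FusionSystem T) (hE : E.IsLayerOf F p) :
    imageAlong (S.subtype.comp α.toMonoidHom) T = T ∧
      ∀ (P : Subgroup Ω) (φ : P →* Ω), φ ∈ E.Hom P →
        ∀ φ' : ↥(imageAlong (S.subtype.comp α.toMonoidHom) P) →* Ω,
          InducedAlong (S.subtype.comp α.toMonoidHom) φ φ' →
            φ' ∈ E.Hom (imageAlong (S.subtype.comp α.toMonoidHom) P) := by
  have h : IsoRel α F F := isoRel_of_morphism α hα hα'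
  obtain ⟨hEN, hEcomp, hEmin⟩ := hE
  have hTS : T ≤ S := hEN.1.2.2.2.1.1
  haveI : Finite T := finite_of_le hTS
  obtain ⟨T₁, hT₁⟩ := Corr.exists_left α hTS
  obtain ⟨E₁, hE₁⟩ := exists_isoRel E hT₁.symm.equiv
  have hE₁' : IsoRel hT₁.equiv E₁ E := hE₁.symm
  have hN₁ : E₁.IsNormalIn F p := IsoRel.normalIn hS h.symm hT₁.symm hE₁ hEN
  have hcomp₁ : ∀ (U : Subgroup Ω) (C : FusionSystem U), C.IsComponentIn F p →
      C.IsSubsystemOf E₁ := by
    intro U C hC
    have hUS : U ≤ S := (subnormal_aux hC.1).1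
    haveI : Finite U := finite_of_le hUS
    obtain ⟨U', hU⟩ := Corr.exists_right α hUS
    obtain ⟨C', hC'⟩ := exists_isoRel C hU.equiv
    have hcomp' : C'.IsComponentIn F p := IsoRel.component hS h hU hC' hC
    have hsub := hEcomp U' C' hcomp'
    intro P φ hφ
    obtain ⟨P', φ', m, hφ'⟩ := hC'.exists_push hφ
    have hφ'E : φ' ∈ E.Hom P' := hsub P' hφ'
    have m2 : Match α φ φ' := m.extend hU
    have hPT₁ : P ≤ T₁ := (m2.corr.le_iff hT₁).mpr (E.le_of_mem hφ'E).1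
    have hφT₁ : ∀ x : P, φ x ∈ T₁ := by
      intro x
      have h1 := m2.apply x
      have h2 : φ' (m2.corr.equiv x) ∈ T := (E.le_of_mem hφ'E).2 _
      rw [h1] at h2
      exact (hT₁.2.2 ⟨φ x, m2.val_mem x⟩).mpr h2
    exact (hE₁' P P' φ φ' (m2.restrict hT₁ hPT₁ hφT₁)).mpr hφ'E
  have hsub : E.IsSubsystemOf E₁ := hEmin T₁ E₁ hN₁ hcomp₁
  refine ⟨?_, fun P φ hφ φ' hind => ?_⟩
  · have hTT₁ : T ≤ T₁ := (E₁.le_of_mem (hsub T (subtype_mem E le_rfl))).1
    have hcard : Nat.card T₁ = Nat.card T := hT₁.card_eq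
    haveI : Finite T₁ := finite_of_le hT₁.1
    have hTeq : T = T₁ := Subgroup.eq_of_le_of_card_ge hTT₁ hcard.le
    have hTT : Corr α T T := by
      have h0 := hT₁
      rw [← hTeq] at h0
      exact h0
    exact (corr_img α hTS).unique_right hTT
  · have hφ₁ : φ ∈ E₁.Hom P := hsub P hφ
    obtain ⟨hP, hφS, hPP', hx⟩ := hind
    have hc : Corr α P (imageAlong (S.subtype.comp α.toMonoidHom) P) := corr_img α hP
    have m : Match α φ φ' := ⟨hc, hφS, fun x => hx x⟩
    exact (hE₁' P _ φ φ' (m.restrict hT₁ (E₁.le_of_mem hφ₁).1 (E₁.le_of_mem hφ₁).2)).mp hφ₁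

end Layer

end Cfsg.Agent.H85
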