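import Mathlib
import Cfsg.Agent.H85.P3A
import Cfsg.Agent.S4143

/-! Existence of an element with centralizer of order `p ^ 2` in a `p`-group containing a
self-centralizing subgroup of order `p ^ 2`, or a nonabelian subgroup of order `p ^ 3` containing
its centralizer (the latter argument is the one of `Cfsg.Agent.S4143.result`, by helper73). -/

set_option autoImplicit false

namespace Cfsg.Agent.H85

section P3E

open Cfsg.Agent.S4143 in
theorem exists_good_of_nonabelian {X : Type*} [Group X] [Finite X] {p : ℕ} [Fact p.Prime] (n : ℕ)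
    (hX : Nat.card X = p ^ n) (B : Subgroup X) (hB : Nat.card B = p ^ 3)
    (hBna : ¬ IsMulCommutative B) (hC : Subgroup.centralizer (B : Set X) ≤ B) :
    ∃ x : X, Nat.card (Subgroup.centralizer ({x} : Set X)) = p ^ 2 := by
  have hp : p.Prime := Fact.out
  have hn : 3 ≤ n := by
    have h1 : p ^ 3 ∣ p ^ n := by rw [← hB, ← hX]; exact Subgroup.card_subgroup_dvd_card B
    exact (Nat.pow_dvd_pow_iff_le_right hp.one_lt).1 h1
  have hP : IsPGroup p X := IsPGroup.of_card hX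
  haveI : Nontrivial X := by
    rw [← Finite.one_lt_card_iff_nontrivial, hX]
    exact Nat.one_lt_pow (by omega) hp.one_lt
  have hZne : Subgroup.center X ≠ ⊥ := by
    haveI := hP.center_nontrivial
    exact (Subgroup.nontrivial_iff_ne_bot _).1 inferInstance
  -- a non-commuting pair
  obtain ⟨b₁, hb₁, b₂, hb₂, hne⟩ : ∃ b₁ ∈ B, ∃ b₂ ∈ B, b₁ * b₂ ≠ b₂ * b₁ := by
    by_contra hcon
    push Not at hcon
    apply hBna
    exact ⟨⟨fun a b => Subtype.ext (hcon a.1 a.2 b.1 b.2)⟩⟩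
  have hcentB : ∀ g : X, ∀ c₁ ∈ B, ∀ c₂ ∈ B, c₁ * c₂ ≠ c₂ * c₁ → g * c₁ = c₁ * g → g * c₂ = c₂ * g →
      g ∈ Subgroup.centralizer (B : Set X) := by
    intro g c₁ hc₁ c₂ hc₂ hcne h1 h2
    have hH : Subgroup.centralizer ({g} : Set X) ⊓ B = B := by
      apply eq_of_noncomm hB inf_le_right (b₁ := c₁) (b₂ := c₂) _ _ hcne
      · exact ⟨Subgroup.mem_centralizer_singleton_iff.2 h1.symm, hc₁⟩
      · exact ⟨Subgroup.mem_centralizer_singleton_iff.2 h2.symm, hc₂⟩
    rw [Subgroup.mem_centralizer_iff]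
    intro b hb
    have : b ∈ Subgroup.centralizer ({g} : Set X) ⊓ B := by rw [hH]; exact hb
    exact (Subgroup.mem_centralizer_singleton_iff.1 this.1)
  have hZC : Subgroup.center X ≤ Subgroup.centralizer (B : Set X) :=
    Subgroup.center_le_centralizer _
  have hZB : Subgroup.center X ≤ B := hZC.trans hC
  have hb₁C : b₁ ∉ Subgroup.centralizer (B : Set X) := fun h =>
    hne ((Subgroup.mem_centralizer_iff.1 h b₂ hb₂)).symm
  -- the centralizer of `B` has order `p`
  have hCB : Nat.card (Subgroup.centralizer (B : Set X)) = p := by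
    have hdvd : Nat.card (Subgroup.centralizer (B : Set X)) ∣ p ^ 3 :=
      hB ▸ Subgroup.card_dvd_of_le hC
    obtain ⟨k, hk, hCk⟩ := (Nat.dvd_prime_pow hp).1 hdvd
    have hk0 : k ≠ 0 := by
      rintro rfl
      have h1 : Nat.card (Subgroup.centralizer (B : Set X)) = 1 := by simpa using hCk
      have hbot := Subgroup.card_eq_one.1 h1
      rw [hbot, le_bot_iff] at hZC
      exact hZne hZC
    have hk3 : k ≠ 3 := by
      rintro rfl
      have := Subgroup.eq_of_le_of_card_ge hC (by rw [hCk, hB])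
      exact hb₁C (by rw [this]; exact hb₁)
    have hk2 : k ≠ 2 := by
      rintro rfl
      have hle : Subgroup.centralizer (B : Set X) ≤ Subgroup.centralizer ({b₁} : Set X) ⊓ B := by
        intro g hg
        exact ⟨Subgroup.mem_centralizer_singleton_iff.2
          ((Subgroup.mem_centralizer_iff.1 hg b₁ hb₁).symm), hC hg⟩
      have hlt : Subgroup.centralizer (B : Set X) < Subgroup.centralizer ({b₁} : Set X) ⊓ B :=
        lt_of_le_of_ne hle (fun h => hb₁C (h ▸ ⟨Subgroup.mem_centralizer_singleton_iff.2 rfl, hb₁⟩))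
      have hH : Subgroup.centralizer ({b₁} : Set X) ⊓ B = B := by
        apply Subgroup.eq_of_le_of_card_ge inf_le_right
        have hd : Nat.card ↥(Subgroup.centralizer ({b₁} : Set X) ⊓ B) ∣ p ^ 3 :=
          hB ▸ Subgroup.card_dvd_of_le inf_le_right
        obtain ⟨j, hj, hHj⟩ := (Nat.dvd_prime_pow hp).1 hd
        have hltc := card_lt_of_lt hlt
        rw [hCk, hHj] at hltc
        have hj3 : 2 < j := (Nat.pow_lt_pow_iff_right hp.one_lt).1 hltc
        have : j = 3 := by omega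
        rw [hB, hHj, this]
      have : b₂ ∈ Subgroup.centralizer ({b₁} : Set X) ⊓ B := by rw [hH]; exact hb₂
      exact hne (Subgroup.mem_centralizer_singleton_iff.1 this.1).symm
    have : k = 1 := by omega
    rw [hCk, this, pow_one]
  -- the centre of `X` is the centralizer of `B`
  have hZeq : Subgroup.center X = Subgroup.centralizer (B : Set X) := by
    apply Subgroup.eq_of_le_of_card_ge hZC
    have hd : Nat.card (Subgroup.center X) ∣ p := hCB ▸ Subgroup.card_dvd_of_le hZC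
    rcases (Nat.dvd_prime hp).1 hd with h | h
    · exact absurd (Subgroup.card_eq_one.1 h) hZne
    · rw [h, hCB]
  have hZcard : Nat.card (Subgroup.center X) = p := by rw [hZeq, hCB]
  -- an element of the second centre
  have hQcard : Nat.card (X ⧸ Subgroup.center X) = p ^ (n - 1) := by
    have h1 := Subgroup.card_eq_card_quotient_mul_card_subgroup (Subgroup.center X)
    have hn' : n = (n - 1) + 1 := by omega
    rw [hX, hZcard, hn', pow_succ] at h1
    have h2 := (Nat.eq_of_mul_eq_mul_right hp.pos h1).symm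
    rw [h2]
  have hQP : IsPGroup p (X ⧸ Subgroup.center X) := IsPGroup.of_card hQcard
  haveI : Nontrivial (X ⧸ Subgroup.center X) := by
    rw [← Finite.one_lt_card_iff_nontrivial, hQcard]
    exact Nat.one_lt_pow (by omega) hp.one_lt
  obtain ⟨a, haZ, ha⟩ : ∃ a : X, a ∉ Subgroup.center X ∧
      ∀ g : X, g * a * g⁻¹ * a⁻¹ ∈ Subgroup.center X := by
    haveI := hQP.center_nontrivial
    obtain ⟨q, hq⟩ := exists_ne (1 : Subgroup.center (X ⧸ Subgroup.center X))
    obtain ⟨a, ha⟩ := QuotientGroup.mk_surjective (q : X ⧸ Subgroup.center X)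
    refine ⟨a, ?_, ?_⟩
    · intro h
      apply hq
      apply Subtype.ext
      rw [← ha]
      exact (QuotientGroup.eq_one_iff a).2 h
    · intro g
      rw [← QuotientGroup.eq_one_iff]
      simp only [QuotientGroup.mk_mul, QuotientGroup.mk_inv]
      rw [ha]
      have := Subgroup.mem_center_iff.1 q.2 (g : X ⧸ Subgroup.center X)
      rw [this]
      group
  -- `a ∈ B`
  have haB : a ∈ B := by
    have h0 : b₁ * b₂ * b₁⁻¹ * b₂⁻¹ ∈ Subgroup.center X := comm_mem_center hB hZB hZcard hb₁ hb₂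
    have h0' : b₂ * b₁ * b₂⁻¹ * b₁⁻¹ ∈ Subgroup.center X := comm_mem_center hB hZB hZcard hb₂ hb₁
    have hinv : ∀ g : X, a * g * a⁻¹ * g⁻¹ ∈ Subgroup.center X := by
      intro g
      have h1 := Subgroup.inv_mem _ (ha g)
      have h2 : (g * a * g⁻¹ * a⁻¹)⁻¹ = a * g * a⁻¹ * g⁻¹ := by group
      rwa [h2] at h1
    obtain ⟨k, hk⟩ := adjust hZcard h0 hne (hinv b₂)
    obtain ⟨g₁, hg₁⟩ : ∃ g₁, g₁ = (b₁ ^ k)⁻¹ * a := ⟨_, rfl⟩
    rw [← hg₁] at hk
    have hg₁b₁ : g₁ * b₁ * g₁⁻¹ * b₁⁻¹ ∈ Subgroup.center X := by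
      have h1 : g₁ * b₁ * g₁⁻¹ * b₁⁻¹ = (b₁ ^ k)⁻¹ * (a * b₁ * a⁻¹ * b₁⁻¹) * b₁ ^ k := by
        rw [hg₁]
        have hcomm : b₁ * b₁ ^ k = b₁ ^ k * b₁ := by rw [← pow_succ, ← pow_succ']
        calc (b₁ ^ k)⁻¹ * a * b₁ * ((b₁ ^ k)⁻¹ * a)⁻¹ * b₁⁻¹
            = (b₁ ^ k)⁻¹ * a * b₁ * a⁻¹ * (b₁ ^ k * b₁⁻¹) := by group
          _ = (b₁ ^ k)⁻¹ * a * b₁ * a⁻¹ * (b₁⁻¹ * b₁ ^ k) := by
              have : b₁ ^ k * b₁⁻¹ = b₁⁻¹ * b₁ ^ k := by
                calc b₁ ^ k * b₁⁻¹ = b₁⁻¹ * (b₁ * b₁ ^ k) * b₁⁻¹ := by group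
                  _ = b₁⁻¹ * (b₁ ^ k * b₁) * b₁⁻¹ := by rw [hcomm]
                  _ = b₁⁻¹ * b₁ ^ k := by group
              rw [this]
          _ = (b₁ ^ k)⁻¹ * (a * b₁ * a⁻¹ * b₁⁻¹) * b₁ ^ k := by group
      rw [h1]
      have h2 := Subgroup.mem_center_iff.1 (hinv b₁) (b₁ ^ k)
      have h3 : (b₁ ^ k)⁻¹ * (a * b₁ * a⁻¹ * b₁⁻¹) * b₁ ^ k = a * b₁ * a⁻¹ * b₁⁻¹ := by
        rw [mul_assoc, ← h2]; group
      rw [h3]
      exact hinv b₁
    obtain ⟨l, hl⟩ := adjust hZcard h0' (fun h => hne h.symm) hg₁b₁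
    obtain ⟨g₂, hg₂⟩ : ∃ g₂, g₂ = (b₂ ^ l)⁻¹ * g₁ := ⟨_, rfl⟩
    rw [← hg₂] at hl
    have hg₂b₂ : g₂ * b₂ = b₂ * g₂ := by
      have hcomm : b₂ * b₂ ^ l = b₂ ^ l * b₂ := by rw [← pow_succ, ← pow_succ']
      have hcomm' : (b₂ ^ l)⁻¹ * b₂ = b₂ * (b₂ ^ l)⁻¹ := by
        calc (b₂ ^ l)⁻¹ * b₂ = (b₂ ^ l)⁻¹ * (b₂ * b₂ ^ l) * (b₂ ^ l)⁻¹ := by group
          _ = (b₂ ^ l)⁻¹ * (b₂ ^ l * b₂) * (b₂ ^ l)⁻¹ := by rw [hcomm]
          _ = b₂ * (b₂ ^ l)⁻¹ := by group
      rw [hg₂, mul_assoc, hk, ← mul_assoc, hcomm', mul_assoc]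
    have hg₂C := hcentB g₂ b₁ hb₁ b₂ hb₂ hne hl hg₂b₂
    have hg₂B : g₂ ∈ B := hC hg₂C
    have haeq : a = b₁ ^ k * (b₂ ^ l * g₂) := by
      rw [hg₂, hg₁]; group
    rw [haeq]
    exact B.mul_mem (B.pow_mem hb₁ k) (B.mul_mem (B.pow_mem hb₂ l) hg₂B)
  -- an element `x ∈ B` not commuting with `a`
  have haC : a ∉ Subgroup.centralizer (B : Set X) := by rw [← hZeq]; exact haZ
  obtain ⟨x, hxB, hxa⟩ : ∃ x ∈ B, x * a ≠ a * x := by
    by_contra hcon
    push Not at hcon
    apply haC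
    rw [Subgroup.mem_centralizer_iff]
    intro b hb
    exact hcon b hb
  refine ⟨x, ?_⟩
  have hcle : Subgroup.centralizer ({x} : Set X) ≤ B := by
    intro c hc
    rw [Subgroup.mem_centralizer_singleton_iff] at hc
    obtain ⟨k, hk⟩ := adjust hZcard (ha x) hxa (ha c)
    have hcx : ((x ^ k)⁻¹ * c) * x = x * ((x ^ k)⁻¹ * c) := by
      have hcomm : x * x ^ k = x ^ k * x := by rw [← pow_succ, ← pow_succ']
      have hcomm' : (x ^ k)⁻¹ * x = x * (x ^ k)⁻¹ := by
        calc (x ^ k)⁻¹ * x = (x ^ k)⁻¹ * (x * x ^ k) * (x ^ k)⁻¹ := by group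
          _ = (x ^ k)⁻¹ * (x ^ k * x) * (x ^ k)⁻¹ := by rw [hcomm]
          _ = x * (x ^ k)⁻¹ := by group
      rw [mul_assoc, hc, ← mul_assoc, hcomm', mul_assoc]
    have hmem := hcentB ((x ^ k)⁻¹ * c) x hxB a haB hxa hcx hk
    have hmemB : (x ^ k)⁻¹ * c ∈ B := hC hmem
    have : c = x ^ k * ((x ^ k)⁻¹ * c) := by group
    rw [this]
    exact B.mul_mem (B.pow_mem hxB k) hmemB
  have hd : Nat.card (Subgroup.centralizer ({x} : Set X)) ∣ p ^ 3 :=
    hB ▸ Subgroup.card_dvd_of_le hcle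
  obtain ⟨j, hj, hHj⟩ := (Nat.dvd_prime_pow hp).1 hd
  have hxmem : x ∈ Subgroup.centralizer ({x} : Set X) := Subgroup.mem_centralizer_singleton_iff.2 rfl
  have hxZ : x ∉ Subgroup.center X := fun h => hxa (Subgroup.mem_center_iff.1 h a).symm
  have hZlt : Subgroup.center X < Subgroup.centralizer ({x} : Set X) :=
    lt_of_le_of_ne (Subgroup.center_le_centralizer _) (fun h => hxZ (h ▸ hxmem))
  have h1 := card_lt_of_lt hZlt
  rw [hZcard, hHj] at h1
  have hj1 : 1 < j := by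
    have : p ^ 1 < p ^ j := by rwa [pow_one]
    exact (Nat.pow_lt_pow_iff_right hp.one_lt).1 this
  have hj3 : j ≠ 3 := by
    rintro rfl
    have := Subgroup.eq_of_le_of_card_ge hcle (by rw [hHj, hB])
    have haB' : a ∈ Subgroup.centralizer ({x} : Set X) := this ▸ haB
    exact hxa (Subgroup.mem_centralizer_singleton_iff.1 haB').symm
  have : j = 2 := by omega
  rw [hHj, this]

theorem exists_good_of_abelian {X : Type*} [Group X] [Finite X] (hX : IsPGroup 3 X)
    (A : Subgroup X) (hA : Nat.card A = 9) (hC : Subgroup.centralizer (A : Set X) = A)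
    (hne : A ≠ ⊤) :
    ∃ s ∈ A, s ∉ Subgroup.center X ∧ Subgroup.centralizer ({s} : Set X) = A ∧
      Nat.card (Subgroup.center X) = 3 := by
  haveI : Fact (Nat.Prime 3) := ⟨Nat.prime_three⟩
  have hZA : Subgroup.center X ≤ A := by
    rw [← hC]; exact Subgroup.center_le_centralizer _
  haveI : Nontrivial X := by
    rw [← Finite.one_lt_card_iff_nontrivial]
    have := Subgroup.card_le_card_group A
    omega
  have hZne : Subgroup.center X ≠ ⊥ := by
    haveI := hX.center_nontrivial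
    exact (Subgroup.nontrivial_iff_ne_bot _).1 inferInstance
  have hAcomm : ∀ a ∈ A, ∀ b ∈ A, a * b = b * a := by
    intro a ha b hb
    have : a ∈ Subgroup.centralizer (A : Set X) := by rw [hC]; exact ha
    exact ((Subgroup.mem_centralizer_iff.mp this) b hb).symm
  have hZneA : Subgroup.center X ≠ A := by
    intro h
    apply hne
    rw [eq_top_iff]
    intro x _
    rw [← hC, Subgroup.mem_centralizer_iff]
    intro a ha
    have ha' : a ∈ Subgroup.center X := by rw [h]; exact ha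
    exact (Subgroup.mem_center_iff.mp ha' x).symm
  have hZcard : Nat.card (Subgroup.center X) = 3 := by
    have hd : Nat.card (Subgroup.center X) ∣ 3 ^ 2 := by
      have := Subgroup.card_dvd_of_le hZA
      rw [hA] at this
      exact this
    obtain ⟨k, hk, hck⟩ := (Nat.dvd_prime_pow Nat.prime_three).1 hd
    have hk0 : k ≠ 0 := by
      rintro rfl
      rw [pow_zero] at hck
      exact hZne (Subgroup.card_eq_one.1 hck)
    have hk2 : k ≠ 2 := by
      rintro rfl
      exact hZneA (Subgroup.eq_of_le_of_card_ge hZA (by rw [hck, hA]; norm_num))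
    have : k = 1 := by omega
    rw [hck, this, pow_one]
  obtain ⟨s, hsA, hsZ⟩ : ∃ s ∈ A, s ∉ Subgroup.center X := by
    by_contra hcon
    push Not at hcon
    exact hZneA (le_antisymm hZA hcon)
  refine ⟨s, hsA, hsZ, ?_, hZcard⟩
  apply le_antisymm
  · intro c hc
    rw [Subgroup.mem_centralizer_singleton_iff] at hc
    rw [← hC, Subgroup.mem_centralizer_iff]
    intro e he
    obtain ⟨i, hi⟩ := exists_zpow_mul_mem Nat.prime_three hZA (by rw [hA, hZcard]) hsA hsZ he
    have c1 : Commute c (e * s ^ i) := Subgroup.mem_center_iff.mp hi c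
    have c2 : Commute c ((s ^ i)⁻¹) := ((show Commute c s from hc).zpow_right i).inv_right
    have e' : e = e * s ^ i * (s ^ i)⁻¹ := by group
    rw [e']
    exact (c1.mul_right c2).eq.symm
  · intro a ha
    rw [Subgroup.mem_centralizer_singleton_iff]
    exact hAcomm a ha s hsA

end P3E

end Cfsg.Agent.H85
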