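import Mathlib
import Cfsg.Agent.H85.Basic
import Cfsg.Agent.H85.Aut
import Cfsg.Agent.S5076

set_option autoImplicit false

/-!
Simplicity of the 2-fusion system of a finite group with a dihedral-type involution centralizer
and a single class of involutions.
-/

namespace Cfsg.Agent.H85

open Cfsg Cfsg.FusionSystem

/-- Dihedral-type involution centralizer data: `C` is an abelian subgroup of `C_G(t)`, every
element of `C_G(t)` outside `C` is an involution, the product of two such lies in `C`, and `t` is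
the only possible involution of `C`. -/
structure DihData {G : Type*} [Group G] (t : G) (C : Subgroup G) : Prop where
  t_sq : t * t = 1
  t_ne : t ≠ 1
  C_le : ∀ c ∈ C, c * t = t * c
  comm : ∀ x ∈ C, ∀ y ∈ C, x * y = y * x
  sq_out : ∀ d : G, d * t = t * d → d ∉ C → d * d = 1
  mul_out : ∀ d : G, d * t = t * d → d ∉ C → ∀ e : G, e * t = t * e → e ∉ C → d * e ∈ C
  ex_out : ∃ w : G, w * t = t * w ∧ w ∉ C
  inv_C : ∀ c ∈ C, c * c = 1 → c = 1 ∨ c = t

/-- An element of a `2`-power order normalizing a Sylow subgroup lies in it. -/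
theorem mem_sylow_of_normalizer_of_pow {G : Type*} [Group G] [Finite G] {p : ℕ} [Fact p.Prime]
    (S : Sylow p G) {x : G} (hx : x ∈ Subgroup.normalizer ((S : Subgroup G) : Set G)) {k : ℕ}
    (hk : x ^ p ^ k = 1) : x ∈ (S : Subgroup G) := by
  have hZ : IsPGroup p (Subgroup.zpowers x) := by
    rintro ⟨y, hy⟩
    obtain ⟨j, rfl⟩ := Subgroup.mem_zpowers_iff.mp hy
    refine ⟨k, Subtype.ext ?_⟩
    show (x ^ j) ^ p ^ k = 1
    rw [← zpow_natCast, ← zpow_mul, mul_comm, zpow_mul, zpow_natCast, hk, one_zpow]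
  have hle : Subgroup.zpowers x ≤ Subgroup.normalizer ((S : Subgroup G) : Set G) := by
    rw [Subgroup.zpowers_le]; exact hx
  have hsup : IsPGroup p (Subgroup.zpowers x ⊔ (S : Subgroup G) : Subgroup G) :=
    IsPGroup.to_sup_of_normal_right' hZ S.isPGroup' hle
  have heq := S.is_maximal' hsup le_sup_right
  have hmem : x ∈ Subgroup.zpowers x ⊔ (S : Subgroup G) :=
    Subgroup.mem_sup_left (Subgroup.mem_zpowers x)
  rw [heq] at hmem
  exact hmem

/-- An involution conjugating a subgroup into itself normalizes it. -/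
theorem mem_normalizer_of_involution {G : Type*} [Group G] (H : Subgroup G) {w : G}
    (hww : w * w = 1) (hw : ∀ s ∈ H, w * s * w⁻¹ ∈ H) :
    w ∈ Subgroup.normalizer (H : Set G) := by
  rw [Subgroup.mem_normalizer_iff]
  intro s
  refine ⟨hw s, fun hs => ?_⟩
  have hwinv : w⁻¹ = w := inv_eq_of_mul_eq_one_left hww
  have h1 := hw _ hs
  have e : w * (w * s * w⁻¹) * w⁻¹ = s := by
    rw [hwinv]
    calc w * (w * s * w) * w = (w * w) * s * (w * w) := by group
      _ = s := by rw [hww, one_mul, mul_one]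
  rwa [e] at h1

/-- A nontrivial finite `2`-group has a central involution. -/
theorem exists_central_involution {G : Type*} [Group G] [Finite G] (S : Subgroup G)
    (hS : IsPGroup 2 S) (hne : S ≠ ⊥) :
    ∃ z ∈ S, z * z = 1 ∧ z ≠ 1 ∧ ∀ s ∈ S, s * z = z * s := by
  haveI : Nontrivial S := (Subgroup.nontrivial_iff_ne_bot S).mpr hne
  haveI := hS.center_nontrivial
  have hZ : IsPGroup 2 (Subgroup.center S) := hS.to_subgroup _
  have hdvd : 2 ∣ Nat.card (Subgroup.center S) := by
    rcases hZ.card_eq_or_dvd with h1 | h1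
    · exfalso
      have := Finite.one_lt_card (α := Subgroup.center S)
      omega
    · exact h1
  obtain ⟨x, hx⟩ := exists_prime_orderOf_dvd_card' 2 hdvd
  have hx2 : x ^ 2 = 1 := by rw [← hx]; exact pow_orderOf_eq_one x
  refine ⟨((x : S) : G), (x : S).2, ?_, ?_, ?_⟩
  · have := congrArg (fun y : Subgroup.center S => ((y : S) : G)) hx2
    simpa [pow_two] using this
  · intro e
    have hx1 : x = 1 := Subtype.ext (Subtype.ext e)
    rw [hx1, orderOf_one] at hx
    omega
  · intro s hs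
    have := Subgroup.mem_center_iff.mp x.2 ⟨s, hs⟩
    exact congrArg Subtype.val this

namespace DihData

variable {G : Type*} [Group G] {t : G} {C : Subgroup G}

theorem map (h : DihData t C) (φ : G ≃* G) : DihData (φ t) (C.map φ.toMonoidHom) := by
  refine ⟨?_, ?_, ?_, ?_, ?_, ?_, ?_, ?_⟩
  · rw [← map_mul, h.t_sq, map_one]
  · intro e
    exact h.t_ne ((MulEquiv.map_eq_one_iff φ).mp e)
  · intro c hc
    obtain ⟨c₀, hc₀, rfl⟩ := Subgroup.mem_map.mp hc
    show φ c₀ * φ t = φ t * φ c₀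
    rw [← map_mul, ← map_mul, h.C_le c₀ hc₀]
  · intro x hx y hy
    obtain ⟨x₀, hx₀, rfl⟩ := Subgroup.mem_map.mp hx
    obtain ⟨y₀, hy₀, rfl⟩ := Subgroup.mem_map.mp hy
    show φ x₀ * φ y₀ = φ y₀ * φ x₀
    rw [← map_mul, ← map_mul, h.comm x₀ hx₀ y₀ hy₀]
  · intro d hd hdC
    obtain ⟨d₀, rfl⟩ : ∃ d₀, φ d₀ = d := ⟨φ.symm d, φ.apply_symm_apply d⟩
    have h1 : d₀ * t = t * d₀ := φ.injective (by rw [map_mul, map_mul]; exact hd)
    have h2 : d₀ ∉ C := fun hc => hdC (Subgroup.mem_map_of_mem _ hc)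
    rw [← map_mul, h.sq_out d₀ h1 h2, map_one]
  · intro d hd hdC e he heC
    obtain ⟨d₀, rfl⟩ : ∃ d₀, φ d₀ = d := ⟨φ.symm d, φ.apply_symm_apply d⟩
    obtain ⟨e₀, rfl⟩ : ∃ e₀, φ e₀ = e := ⟨φ.symm e, φ.apply_symm_apply e⟩
    have h1 : d₀ * t = t * d₀ := φ.injective (by rw [map_mul, map_mul]; exact hd)
    have h2 : d₀ ∉ C := fun hc => hdC (Subgroup.mem_map_of_mem _ hc)
    have h3 : e₀ * t = t * e₀ := φ.injective (by rw [map_mul, map_mul]; exact he)
    have h4 : e₀ ∉ C := fun hc => heC (Subgroup.mem_map_of_mem _ hc)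
    rw [← map_mul]
    exact Subgroup.mem_map_of_mem _ (h.mul_out d₀ h1 h2 e₀ h3 h4)
  · obtain ⟨w, hw, hwC⟩ := h.ex_out
    refine ⟨φ w, by rw [← map_mul, ← map_mul, hw], fun hc => hwC ?_⟩
    obtain ⟨c, hc', hcw⟩ := Subgroup.mem_map.mp hc
    have hcw' : c = w := φ.injective hcw
    rwa [← hcw']
  · intro c hc hcc
    obtain ⟨c₀, hc₀, rfl⟩ := Subgroup.mem_map.mp hc
    have h1 : c₀ * c₀ = 1 := φ.injective (by rw [map_mul, map_one]; exact hcc)
    rcases h.inv_C c₀ hc₀ h1 with e | e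
    · left; rw [e]; exact map_one _
    · right; rw [e]; rfl

theorem mul_mem_out (h : DihData t C) {d c : G} (hd : d * t = t * d) (hdC : d ∉ C)
    (hc : c ∈ C) : (d * c) * t = t * (d * c) ∧ d * c ∉ C := by
  refine ⟨?_, fun hdc => hdC ?_⟩
  · rw [mul_assoc, h.C_le c hc, ← mul_assoc, hd, mul_assoc]
  · have := C.mul_mem hdc (C.inv_mem hc)
    rwa [mul_inv_cancel_right] at this

theorem inverts (h : DihData t C) {d c : G} (hd : d * t = t * d) (hdC : d ∉ C) (hc : c ∈ C) :
    d * c * (d * c) = 1 :=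
  h.sq_out _ (h.mul_mem_out hd hdC hc).1 (h.mul_mem_out hd hdC hc).2

theorem exists_out_sylow [Finite G] (h : DihData t C) (S : Sylow 2 G)
    (hS : ∀ s ∈ (S : Subgroup G), s * t = t * s) : ∃ s ∈ (S : Subgroup G), s ∉ C := by
  by_contra hcon
  push Not at hcon
  obtain ⟨w, hw, hwC⟩ := h.ex_out
  have hww : w * w = 1 := h.sq_out w hw hwC
  have hwinv : w⁻¹ = w := inv_eq_of_mul_eq_one_left hww
  have key : ∀ s ∈ (S : Subgroup G), w * s * w⁻¹ = s⁻¹ := by
    intro s hs
    have h1 := h.inverts hw hwC (hcon s hs)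
    rw [hwinv]
    exact eq_inv_of_mul_eq_one_left (by rw [← h1]; group)
  have hwN : w ∈ Subgroup.normalizer ((S : Subgroup G) : Set G) :=
    mem_normalizer_of_involution _ hww (fun s hs => by rw [key s hs]; exact inv_mem hs)
  have hwS : w ∈ (S : Subgroup G) :=
    mem_sylow_of_normalizer_of_pow S hwN (k := 1) (by rw [pow_one, pow_two]; exact hww)
  exact hwC (hcon w hwS)

theorem sylow_le_of_involutions [Finite G] (h : DihData t C) (S : Sylow 2 G)
    (hS : ∀ s ∈ (S : Subgroup G), s * t = t * s) (T : Subgroup G)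
    (hT : ∀ u ∈ (S : Subgroup G), u * u = 1 → u ∈ T) : (S : Subgroup G) ≤ T := by
  obtain ⟨s₀, hs₀, hs₀C⟩ := h.exists_out_sylow S hS
  have hs₀T : s₀ ∈ T := hT s₀ hs₀ (h.sq_out s₀ (hS s₀ hs₀) hs₀C)
  intro s hs
  by_cases hsC : s ∈ C
  · have h1 := h.inverts (hS s₀ hs₀) hs₀C hsC
    have h2 : s₀ * s ∈ T := hT _ ((S : Subgroup G).mul_mem hs₀ hs) h1
    have h3 := T.mul_mem (T.inv_mem hs₀T) h2
    rwa [inv_mul_cancel_left] at h3
  · exact hT s hs (h.sq_out s (hS s hs) hsC)

theorem central_involution_eq [Finite G] (h : DihData t C) (S : Sylow 2 G)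
    (hS : ∀ s ∈ (S : Subgroup G), s * t = t * s) (h8 : 8 ∣ Nat.card G) {u : G}
    (huS : u ∈ (S : Subgroup G)) (huu : u * u = 1) (hu1 : u ≠ 1)
    (hucen : ∀ s ∈ (S : Subgroup G), s * u = u * s) : u = t := by
  by_cases huC : u ∈ C
  · exact (h.inv_C u huC huu).resolve_left hu1
  · exfalso
    have hut := hS u huS
    have hC : ∀ c ∈ (S : Subgroup G), c ∈ C → c = 1 ∨ c = t := by
      intro c hc hcC
      have h1 := h.inverts hut huC hcC
      have h2 : c * c = 1 := by
        have e : u * c * (u * c) = (u * u) * (c * c) := by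
          calc u * c * (u * c) = u * (c * u) * c := by group
            _ = u * (u * c) * c := by rw [hucen c hc]
            _ = (u * u) * (c * c) := by group
        rw [e, huu, one_mul] at h1
        exact h1
      exact h.inv_C c hcC h2
    have key : ∀ s ∈ (S : Subgroup G), s = 1 ∨ s = t ∨ s = u ∨ s = u * t := by
      intro s hs
      by_cases hsC : s ∈ C
      · rcases hC s hs hsC with e | e
        · exact Or.inl e
        · exact Or.inr (Or.inl e)
      · have h1 : u * s ∈ C := h.mul_out u hut huC s (hS s hs) hsC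
        have h2 : u * s ∈ (S : Subgroup G) := (S : Subgroup G).mul_mem huS hs
        have h3 : s = u * (u * s) := by rw [← mul_assoc, huu, one_mul]
        rcases hC _ h2 h1 with e | e
        · right; right; left
          rw [h3, e, mul_one]
        · right; right; right
          rw [h3, e]
    classical
    have hsub : ((S : Subgroup G) : Set G) ⊆ (({1, t, u, u * t} : Finset G) : Set G) := by
      intro s hs
      have := key s hs
      simp only [Finset.coe_insert, Finset.coe_singleton, Set.mem_insert_iff,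
        Set.mem_singleton_iff]
      exact this
    have e1 : Nat.card (S : Subgroup G) = ((S : Subgroup G) : Set G).ncard :=
      Nat.card_coe_set_eq _
    have e2 : ((S : Subgroup G) : Set G).ncard ≤ 4 := by
      refine (Set.ncard_le_ncard hsub (Finset.finite_toSet _)).trans ?_
      rw [Set.ncard_coe_finset]
      exact Finset.card_le_four
    have h8S : 2 ^ 3 ∣ Nat.card (S : Subgroup G) := S.pow_dvd_card_of_pow_dvd_card (by simpa using h8)
    have h3 := Nat.le_of_dvd Nat.card_pos h8S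
    omega

theorem normalizer_le_sylow [Finite G] (h : DihData t C) (S : Sylow 2 G)
    (hS : ∀ s ∈ (S : Subgroup G), s * t = t * s) (htS : t ∈ (S : Subgroup G))
    (h8 : 8 ∣ Nat.card G) {n : G}
    (hn : n ∈ Subgroup.normalizer ((S : Subgroup G) : Set G)) : n ∈ (S : Subgroup G) := by
  have hn' := Subgroup.mem_normalizer_iff.mp hn
  have h1 : n * t * n⁻¹ = t := by
    apply h.central_involution_eq S hS h8 ((hn' t).mp htS)
    · calc n * t * n⁻¹ * (n * t * n⁻¹) = n * (t * t) * n⁻¹ := by group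
        _ = 1 := by rw [h.t_sq, mul_one, mul_inv_cancel]
    · intro e
      apply h.t_ne
      have e2 : t = n⁻¹ * (n * t * n⁻¹) * n := by group
      rw [e2, e, mul_one, inv_mul_cancel]
    · intro s hs
      have hs' : n⁻¹ * s * n ∈ (S : Subgroup G) := by
        rw [hn' (n⁻¹ * s * n)]
        have e2 : n * (n⁻¹ * s * n) * n⁻¹ = s := by group
        rw [e2]; exact hs
      have h2 := hS _ hs'
      calc s * (n * t * n⁻¹) = n * (n⁻¹ * s * n * t) * n⁻¹ := by group
        _ = n * (t * (n⁻¹ * s * n)) * n⁻¹ := by rw [h2]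
        _ = n * t * n⁻¹ * s := by group
  have hnt : n * t = t * n := by
    calc n * t = (n * t * n⁻¹) * n := by group
      _ = t * n := by rw [h1]
  by_cases hnC : n ∈ C
  · obtain ⟨s₀, hs₀, hs₀C⟩ := h.exists_out_sylow S hS
    have h2 := h.inverts (hS s₀ hs₀) hs₀C hnC
    have hs₀s₀ := h.sq_out s₀ (hS s₀ hs₀) hs₀C
    have h3 : n * s₀ * n⁻¹ ∈ (S : Subgroup G) := (hn' s₀).mp hs₀
    have h4 : n⁻¹ = s₀ * n * s₀ :=
      (eq_inv_of_mul_eq_one_left (by rw [← h2]; group)).symm
    have h5 : n * s₀ * n⁻¹ = n * n * s₀ := by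
      rw [h4]
      calc n * s₀ * (s₀ * n * s₀) = n * (s₀ * s₀) * n * s₀ := by group
        _ = n * n * s₀ := by rw [hs₀s₀, mul_one]
    rw [h5] at h3
    have h6 : n * n ∈ (S : Subgroup G) := by
      have := (S : Subgroup G).mul_mem h3 ((S : Subgroup G).inv_mem hs₀)
      rwa [mul_inv_cancel_right] at this
    obtain ⟨k, hk⟩ := S.isPGroup' ⟨n * n, h6⟩
    have hk' : (n * n) ^ 2 ^ k = 1 := by
      have := congrArg Subtype.val hk
      simpa using this
    apply mem_sylow_of_normalizer_of_pow S hn (k := k + 1)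
    rw [pow_succ, pow_mul', pow_two]
    exact hk'
  · have hnn := h.sq_out n hnt hnC
    exact mem_sylow_of_normalizer_of_pow S hn (k := 1) (by rw [pow_one, pow_two]; exact hnn)

end DihData

/-- A finite group with a dihedral-type involution centralizer, one class of involutions and
order divisible by `8` has a simple `2`-fusion system. -/
theorem groupFS_isSimple_of_dihData {G : Type*} [Group G] [Finite G] {t : G} {C : Subgroup G}
    (h : DihData t C) (hconj : ∀ u : G, u * u = 1 → u ≠ 1 → ∃ g : G, g * t * g⁻¹ = u)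
    (h8 : 8 ∣ Nat.card G) (S : Sylow 2 G) :
    (groupFusionSystem (S : Subgroup G)).IsSimple 2 := by
  have h8S : 2 ^ 3 ∣ Nat.card (S : Subgroup G) :=
    S.pow_dvd_card_of_pow_dvd_card (by simpa using h8)
  have hSbot : (S : Subgroup G) ≠ ⊥ := by
    intro e
    rw [e, Subgroup.card_bot] at h8S
    have := Nat.le_of_dvd Nat.one_pos h8S
    omega
  obtain ⟨z, hzS, hzz, hz1, hzcen⟩ := exists_central_involution (S : Subgroup G) S.isPGroup' hSbot
  obtain ⟨g, hg⟩ := hconj z hzz hz1
  have h' : DihData z (C.map (MulAut.conj g).toMonoidHom) := by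
    have := h.map (MulAut.conj g)
    rwa [MulAut.conj_apply, hg] at this
  have hconj' : ∀ u : G, u * u = 1 → u ≠ 1 → ∃ k : G, k * z * k⁻¹ = u := by
    intro u huu hu1
    obtain ⟨a, ha⟩ := hconj u huu hu1
    refine ⟨a * g⁻¹, ?_⟩
    rw [← ha, ← hg]
    group
  refine ⟨Cfsg.Agent.S5076.result 2 S, hSbot, ?_⟩
  intro T E hE
  obtain ⟨⟨-, -, hsub, hsc, -, hfrat⟩, -⟩ := hE
  by_cases hT : T = ⊥
  · exact Or.inl hT
  right
  have hTS : T = (S : Subgroup G) := by
    apply le_antisymm hsc.1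
    apply h'.sylow_le_of_involutions S hzcen T
    intro v hvS hvv
    by_cases hv1 : v = 1
    · rw [hv1]; exact T.one_mem
    obtain ⟨u, huT, huu, hu1, -⟩ :=
      exists_central_involution T (S.isPGroup'.to_le hsc.1) hT
    obtain ⟨a, ha⟩ := hconj' u huu hu1
    obtain ⟨b, hb⟩ := hconj' v hvv hv1
    have hk : (b * a⁻¹) * u * (b * a⁻¹)⁻¹ = v := by
      rw [← ha, ← hb]; group
    have hzle : Subgroup.zpowers u ≤ T := by rw [Subgroup.zpowers_le]; exact huT
    have hφ : conjHom (Subgroup.zpowers u) (b * a⁻¹) ∈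
        (groupFusionSystem (S : Subgroup G)).Hom (Subgroup.zpowers u) := by
      refine ⟨hzle.trans hsc.1, ?_, b * a⁻¹, fun x => rfl⟩
      rintro ⟨x, hx⟩
      obtain ⟨j, rfl⟩ := Subgroup.mem_zpowers_iff.mp hx
      show (b * a⁻¹) * u ^ j * (b * a⁻¹)⁻¹ ∈ (S : Subgroup G)
      rw [← conj_zpow, hk]
      exact zpow_mem hvS j
    have h1 := hsc.2 _ hzle _ hφ ⟨u, Subgroup.mem_zpowers u⟩
    have e : conjHom (Subgroup.zpowers u) (b * a⁻¹) ⟨u, Subgroup.mem_zpowers u⟩ = v := hk
    rwa [e] at h1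
  refine ⟨hTS, ?_⟩
  subst hTS
  intro P
  apply Set.Subset.antisymm (hsub P)
  intro φ hφ
  have hP : P ≤ (S : Subgroup G) := hφ.1
  obtain ⟨α, hα, φ₀, hφ₀, hfac⟩ := hfrat P hP φ hφ
  rw [mem_autGroup_iff _ (le_refl _)] at hα
  obtain ⟨-, hαS, n, hn⟩ := hα
  have hnN : n ∈ Subgroup.normalizer ((S : Subgroup G) : Set G) := by
    rw [Subgroup.mem_normalizer_iff]
    intro x
    constructor
    · intro hx
      have h1 := hn ⟨x, hx⟩
      rw [← h1]
      exact (α ⟨x, hx⟩).2
    · intro hx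
      have h1 := hn (α.symm ⟨n * x * n⁻¹, hx⟩)
      have h2 : ((α (α.symm ⟨n * x * n⁻¹, hx⟩) : ↥(S : Subgroup G)) : G) = n * x * n⁻¹ := by
        rw [α.apply_symm_apply]
      have h3 : n * ((α.symm ⟨n * x * n⁻¹, hx⟩ : ↥(S : Subgroup G)) : G) * n⁻¹ = n * x * n⁻¹ := by
        rw [← h1]; exact h2
      have h4 : ((α.symm ⟨n * x * n⁻¹, hx⟩ : ↥(S : Subgroup G)) : G) = x :=
        mul_left_cancel (mul_right_cancel h3)
      rw [← h4]; exact (α.symm _).2
  have hnS := h'.normalizer_le_sylow S hzcen hzS h8 hnN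
  have hφ₀S : ∀ x : P, φ₀ x ∈ (S : Subgroup G) := (E.le_of_mem hφ₀).2
  refine comp_mem' E hφ₀ (E.conj_mem (le_refl _) hnS) hφ₀S (fun x => ?_)
  rw [hfac x (hφ₀S x)]
  exact hn ⟨φ₀ x, hφ₀S x⟩

end Cfsg.Agent.H85
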