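import Mathlib
import Cfsg.Agent.Lib.Helper42.SL2Odd
import Cfsg.Agent.Lib.Helper39.SL2Conj
import Cfsg.Agent.Lib.Helper5.SL2Card
import Cfsg.Agent.H85.SimpFS

set_option autoImplicit false

/-!
Involutions of `PSL₂(F)`, `F` finite of odd order: one class, dihedral-type centralizer.
-/

namespace Cfsg.Agent.H85.PSL2Inv

open Matrix Cfsg.Agent.Lib.Helper42.SL2Odd

variable {F : Type*} [Field F]

local notation "SL2F" => Matrix.SpecialLinearGroup (Fin 2) F
local notation "PSL2F" => Matrix.ProjectiveSpecialLinearGroup (Fin 2) F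

/-- The element `[[0, -1], [1, 0]]`. -/
def w0 : SL2F := ⟨!![0, -1; 1, 0], by simp [Matrix.det_fin_two_of]⟩

theorem w0_00 : (w0 : SL2F) 0 0 = 0 := rfl
theorem w0_01 : (w0 : SL2F) 0 1 = -1 := rfl
theorem w0_10 : (w0 : SL2F) 1 0 = 1 := rfl
theorem w0_11 : (w0 : SL2F) 1 1 = 0 := rfl

theorem one_entries : ((1 : SL2F) 0 0 = 1) ∧ ((1 : SL2F) 0 1 = 0) ∧ ((1 : SL2F) 1 0 = 0) ∧
    ((1 : SL2F) 1 1 = 1) := by
  refine ⟨?_, ?_, ?_, ?_⟩ <;> simp

theorem mul_w0_entries (x : SL2F) :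
    (x * w0 : SL2F) 0 0 = x 0 1 ∧ (x * w0 : SL2F) 0 1 = -x 0 0 ∧ (x * w0 : SL2F) 1 0 = x 1 1 ∧
      (x * w0 : SL2F) 1 1 = -x 1 0 := by
  obtain ⟨a00, a01, a10, a11⟩ := mul_entries x w0
  refine ⟨?_, ?_, ?_, ?_⟩
  · rw [a00, w0_00, w0_10]; ring
  · rw [a01, w0_01, w0_11]; ring
  · rw [a10, w0_00, w0_10]; ring
  · rw [a11, w0_01, w0_11]; ring

theorem w0_mul_entries (x : SL2F) :
    (w0 * x : SL2F) 0 0 = -x 1 0 ∧ (w0 * x : SL2F) 0 1 = -x 1 1 ∧ (w0 * x : SL2F) 1 0 = x 0 0 ∧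
      (w0 * x : SL2F) 1 1 = x 0 1 := by
  obtain ⟨a00, a01, a10, a11⟩ := mul_entries w0 x
  refine ⟨?_, ?_, ?_, ?_⟩
  · rw [a00, w0_00, w0_01]; ring
  · rw [a01, w0_00, w0_01]; ring
  · rw [a10, w0_10, w0_11]; ring
  · rw [a11, w0_10, w0_11]; ring

theorem comm_w0_iff (x : SL2F) :
    x * w0 = w0 * x ↔ (x 0 0 = x 1 1 ∧ x 0 1 = -x 1 0) := by
  obtain ⟨a00, a01, a10, a11⟩ := mul_w0_entries x
  obtain ⟨b00, b01, b10, b11⟩ := w0_mul_entries x
  constructor
  · intro h
    have e00 : (x * w0 : SL2F) 0 0 = (w0 * x : SL2F) 0 0 := by rw [h]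
    have e10 : (x * w0 : SL2F) 1 0 = (w0 * x : SL2F) 1 0 := by rw [h]
    rw [a00, b00] at e00
    rw [a10, b10] at e10
    exact ⟨e10.symm, e00⟩
  · rintro ⟨h1, h2⟩
    apply ext_entries
    · rw [a00, b00, h2]
    · rw [a01, b01, h1]
    · rw [a10, b10, h1]
    · rw [a11, b11, h2]

theorem anti_w0_iff (x : SL2F) :
    x * w0 = -(w0 * x) ↔ (x 0 0 = -x 1 1 ∧ x 0 1 = x 1 0) := by
  obtain ⟨a00, a01, a10, a11⟩ := mul_w0_entries x
  obtain ⟨b00, b01, b10, b11⟩ := w0_mul_entries x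
  constructor
  · intro h
    have e00 : (x * w0 : SL2F) 0 0 = (-(w0 * x) : SL2F) 0 0 := by rw [h]
    have e10 : (x * w0 : SL2F) 1 0 = (-(w0 * x) : SL2F) 1 0 := by rw [h]
    rw [a00, neg_entries, b00, neg_neg] at e00
    rw [a10, neg_entries, b10] at e10
    exact ⟨by rw [e10, neg_neg], e00⟩
  · rintro ⟨h1, h2⟩
    apply ext_entries
    · rw [a00, neg_entries, b00, neg_neg, h2]
    · rw [a01, neg_entries, b01, neg_neg, h1, neg_neg]
    · rw [a10, neg_entries, b10, h1, neg_neg]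
    · rw [a11, neg_entries, b11, h2]

theorem comm_of_comm_w0 {x y : SL2F} (hx : x * w0 = w0 * x) (hy : y * w0 = w0 * y) :
    x * y = y * x := by
  obtain ⟨hx1, hx2⟩ := (comm_w0_iff x).mp hx
  obtain ⟨hy1, hy2⟩ := (comm_w0_iff y).mp hy
  obtain ⟨a00, a01, a10, a11⟩ := mul_entries x y
  obtain ⟨b00, b01, b10, b11⟩ := mul_entries y x
  apply ext_entries
  · rw [a00, b00, hx2, hy2]; ring
  · rw [a01, b01, hx1, hx2, hy1, hy2]; ring
  · rw [a10, b10, hx1, hy1]; ring
  · rw [a11, b11, hx2, hy2]; ring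

theorem sq_of_trace_zero {x : SL2F} (ht : x 0 0 + x 1 1 = 0) : x * x = -1 := by
  obtain ⟨a00, a01, a10, a11⟩ := mul_entries x x
  obtain ⟨o00, o01, o10, o11⟩ := one_entries (F := F)
  have hd := det_eq x
  apply ext_entries
  · rw [a00, neg_entries, o00]; linear_combination x 0 0 * ht - hd
  · rw [a01, neg_entries, o01]; linear_combination x 0 1 * ht
  · rw [a10, neg_entries, o10]; linear_combination x 1 0 * ht
  · rw [a11, neg_entries, o11]; linear_combination x 1 1 * ht - hd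

theorem eq_one_or_neg_of_sq (h2 : (2 : F) ≠ 0) {x : SL2F} (h : x * x = 1) :
    x = 1 ∨ x = -1 := by
  obtain ⟨a00, a01, a10, a11⟩ := mul_entries x x
  obtain ⟨o00, o01, o10, o11⟩ := one_entries (F := F)
  have hd := det_eq x
  rw [h] at a00 a01 a10 a11
  rw [o00] at a00
  rw [o01] at a01
  rw [o10] at a10
  rw [o11] at a11
  have hτ : x 0 0 + x 1 1 ≠ 0 := by
    intro ht
    apply h2
    linear_combination a00 - hd + x 0 0 * ht
  have h01 : x 0 1 = 0 := by
    have h3 : x 0 1 * (x 0 0 + x 1 1) = 0 := by linear_combination -a01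
    exact (mul_eq_zero.mp h3).resolve_right hτ
  have h10 : x 1 0 = 0 := by
    have h3 : x 1 0 * (x 0 0 + x 1 1) = 0 := by linear_combination -a10
    exact (mul_eq_zero.mp h3).resolve_right hτ
  rw [h01, h10] at hd a00
  have h00 : (x 0 0 - 1) * (x 0 0 + 1) = 0 := by linear_combination -a00
  rcases mul_eq_zero.mp h00 with e | e
  · left
    have e0 : x 0 0 = 1 := by linear_combination e
    have e1 : x 1 1 = 1 := by rw [e0] at hd; linear_combination hd
    apply ext_entries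
    · rw [e0, o00]
    · rw [h01, o01]
    · rw [h10, o10]
    · rw [e1, o11]
  · right
    have e0 : x 0 0 = -1 := by linear_combination e
    have e1 : x 1 1 = -1 := by rw [e0] at hd; linear_combination -hd
    apply ext_entries
    · rw [e0, neg_entries, o00]
    · rw [h01, neg_entries, o01, neg_zero]
    · rw [h10, neg_entries, o10, neg_zero]
    · rw [e1, neg_entries, o11]

theorem trace_zero_of_sq (h2 : (2 : F) ≠ 0) {x : SL2F} (h : x * x = -1) :
    x 0 0 + x 1 1 = 0 := by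
  obtain ⟨a00, a01, a10, a11⟩ := mul_entries x x
  obtain ⟨o00, o01, o10, o11⟩ := one_entries (F := F)
  have hd := det_eq x
  rw [h, neg_entries] at a00 a01 a10 a11
  rw [o00] at a00
  rw [o01] at a01
  rw [o10] at a10
  rw [o11] at a11
  by_contra hτ
  have h01 : x 0 1 = 0 := by
    have h3 : x 0 1 * (x 0 0 + x 1 1) = 0 := by linear_combination -a01
    exact (mul_eq_zero.mp h3).resolve_right hτ
  have h10 : x 1 0 = 0 := by
    have h3 : x 1 0 * (x 0 0 + x 1 1) = 0 := by linear_combination -a10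
    exact (mul_eq_zero.mp h3).resolve_right hτ
  rw [h01, h10] at hd a00 a11
  have h3 : (x 0 0 - x 1 1) * (x 0 0 + x 1 1) = 0 := by linear_combination a11 - a00
  have h4 : x 0 0 = x 1 1 := by
    have h5 := (mul_eq_zero.mp h3).resolve_right hτ
    linear_combination h5
  rw [h4] at hd a00
  apply h2
  linear_combination -hd - a00

theorem cent_sq_neg_one (h2 : (2 : F) ≠ 0) {x : SL2F} (hx : x * w0 = w0 * x)
    (h : x * x = -1) : x = w0 ∨ x = -w0 := by
  obtain ⟨h1, h2'⟩ := (comm_w0_iff x).mp hx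
  have ht := trace_zero_of_sq h2 h
  have h00 : x 0 0 = 0 := by
    have h3 : (2 : F) * x 0 0 = 0 := by linear_combination ht + h1
    exact (mul_eq_zero.mp h3).resolve_left h2
  have h11 : x 1 1 = 0 := by rw [← h1]; exact h00
  have hd := det_eq x
  rw [h00, h11, h2'] at hd
  have h5 : (x 1 0 - 1) * (x 1 0 + 1) = 0 := by linear_combination hd
  rcases mul_eq_zero.mp h5 with e | e
  · left
    have e0 : x 1 0 = 1 := by linear_combination e
    apply ext_entries
    · rw [h00, w0_00]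
    · rw [h2', e0, w0_01]
    · rw [e0, w0_10]
    · rw [h11, w0_11]
  · right
    have e0 : x 1 0 = -1 := by linear_combination e
    apply ext_entries
    · rw [h00, neg_entries, w0_00, neg_zero]
    · rw [h2', e0, neg_entries, w0_01]
    · rw [e0, neg_entries, w0_10]
    · rw [h11, neg_entries, w0_11, neg_zero]

theorem not_comm_and_anti (h2 : (2 : F) ≠ 0) {x : SL2F} (h : x * w0 = w0 * x)
    (h' : x * w0 = -(w0 * x)) : False := by
  obtain ⟨h1, h3⟩ := (comm_w0_iff x).mp h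
  obtain ⟨h4, h5⟩ := (anti_w0_iff x).mp h'
  have hd := det_eq x
  have e0 : x 0 0 = 0 := by
    have h6 : (2 : F) * x 0 0 = 0 := by linear_combination h1 + h4
    exact (mul_eq_zero.mp h6).resolve_left h2
  have e1 : x 0 1 = 0 := by
    have h6 : (2 : F) * x 0 1 = 0 := by linear_combination h3 + h5
    exact (mul_eq_zero.mp h6).resolve_left h2
  rw [e0, e1] at hd
  have h7 : (0 : F) = 1 := by linear_combination hd
  exact zero_ne_one h7

theorem exists_sq_add_sq [Fintype F] (hodd : Fintype.card F % 2 = 1) (e : F) :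
    ∃ u v : F, u ^ 2 + v ^ 2 = e := by
  obtain ⟨a, b, hab⟩ := FiniteField.exists_root_sum_quadratic
    (f := (Polynomial.X : Polynomial F) ^ 2) (g := Polynomial.X ^ 2 - Polynomial.C e)
    (Polynomial.degree_X_pow 2) (Polynomial.degree_X_pow_sub_C (by norm_num) e) hodd
  refine ⟨a, b, ?_⟩
  simp only [Polynomial.eval_pow, Polynomial.eval_X, Polynomial.eval_sub, Polynomial.eval_C]
    at hab
  linear_combination hab

theorem isConj_w0 [Fintype F] (hodd : Fintype.card F % 2 = 1) (h2 : (2 : F) ≠ 0) {x : SL2F}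
    (ht : x 0 0 + x 1 1 = 0) : ∃ y : SL2F, y * w0 * y⁻¹ = x := by
  have hd := det_eq x
  have h11 : x 1 1 = -x 0 0 := by linear_combination ht
  obtain ⟨X, Y, hXY⟩ : ∃ X Y : F,
      x 1 0 * X ^ 2 + (x 1 1 - x 0 0) * X * Y - x 0 1 * Y ^ 2 = 1 := by
    by_cases hc : x 1 0 = 0
    · have ha : x 0 0 ≠ 0 := by
        intro h0
        rw [hc, h0] at hd
        have h3 : (0 : F) = 1 := by linear_combination hd
        exact zero_ne_one h3
      refine ⟨-(1 + x 0 1) / (2 * x 0 0), 1, ?_⟩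
      rw [hc, h11]
      field_simp
      ring
    · obtain ⟨u, v, huv⟩ := exists_sq_add_sq hodd (x 1 0)
      refine ⟨(u + x 0 0 * v) / x 1 0, v, ?_⟩
      rw [h11] at hd ⊢
      field_simp
      linear_combination huv + v ^ 2 * hd
  have hconj := Cfsg.Agent.Lib.Helper39.SL2Conj.isConj_Mmat x X Y 1
    (by rw [Units.val_one]; exact hXY)
  rw [ht] at hconj
  have hM : Cfsg.Agent.Lib.Helper39.SL2Conj.Mmat (1 : Fˣ) (0 : F) = w0 := by
    apply ext_entries
    · rfl
    · show -((1 : Fˣ) : F)⁻¹ = -1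
      simp
    · show ((1 : Fˣ) : F) = 1
      simp
    · rfl
  rw [hM, isConj_iff] at hconj
  exact hconj

theorem proj_eq_one_iff (x : SL2F) : proj x = 1 ↔ x = 1 ∨ x = -1 := by
  rw [← mem_center_iff']
  exact QuotientGroup.eq_one_iff x

theorem proj_neg (x : SL2F) : proj (-x) = proj x := by
  have e : -x = x * (-1) := by rw [mul_neg, mul_one]
  have h1 : proj (-1 : SL2F) = 1 := (proj_eq_one_iff _).mpr (Or.inr rfl)
  rw [e, map_mul, h1, mul_one]

theorem mem_CI_iff (x : SL2F) :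
    proj x ∈ (Subgroup.centralizer {(w0 : SL2F)}).map proj ↔ x * w0 = w0 * x := by
  constructor
  · intro h
    obtain ⟨c, hc, hcx⟩ := Subgroup.mem_map.mp h
    rw [Subgroup.mem_centralizer_singleton_iff] at hc
    obtain ⟨z, hz, rfl⟩ := (QuotientGroup.mk'_eq_mk' _).mp hcx
    rw [Subgroup.mem_center_iff] at hz
    calc c * z * w0 = c * (z * w0) := mul_assoc _ _ _
      _ = c * (w0 * z) := by rw [← hz w0]
      _ = (c * w0) * z := by rw [mul_assoc]
      _ = (w0 * c) * z := by rw [hc]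
      _ = w0 * (c * z) := mul_assoc _ _ _
  · intro h
    exact Subgroup.mem_map_of_mem _ (Subgroup.mem_centralizer_singleton_iff.mpr h)

theorem mem_cent_iff (x : SL2F) :
    proj x * proj (w0 : SL2F) = proj w0 * proj x ↔
      x * w0 = w0 * x ∨ x * w0 = -(w0 * x) := by
  have h := mem_comap_iff w0 x
  rw [Subgroup.mem_comap, Subgroup.mem_centralizer_singleton_iff] at h
  exact h

theorem dihData [Fintype F] (h2 : (2 : F) ≠ 0) :
    Cfsg.Agent.H85.DihData (proj (w0 : SL2F))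
      ((Subgroup.centralizer {(w0 : SL2F)}).map proj) := by
  have hneg1 : proj (-1 : SL2F) = 1 := (proj_eq_one_iff _).mpr (Or.inr rfl)
  have htr : (w0 : SL2F) 0 0 + (w0 : SL2F) 1 1 = 0 := by rw [w0_00, w0_11, add_zero]
  have hanti : ∀ (x : SL2F), proj x * proj (w0 : SL2F) = proj w0 * proj x →
      proj x ∉ (Subgroup.centralizer {(w0 : SL2F)}).map proj → x * w0 = -(w0 * x) := by
    intro x hd hdC
    rcases (mem_cent_iff x).mp hd with h | h
    · exact absurd ((mem_CI_iff x).mpr h) hdC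
    · exact h
  refine ⟨?_, ?_, ?_, ?_, ?_, ?_, ?_, ?_⟩
  · rw [← map_mul, sq_of_trace_zero htr, hneg1]
  · intro e
    rcases (proj_eq_one_iff _).mp e with e | e
    · have h10 : (w0 : SL2F) 1 0 = (1 : SL2F) 1 0 := by rw [e]
      rw [w0_10, (one_entries (F := F)).2.2.1] at h10
      exact one_ne_zero h10
    · have h10 : (w0 : SL2F) 1 0 = (-1 : SL2F) 1 0 := by rw [e]
      rw [w0_10, neg_entries, (one_entries (F := F)).2.2.1, neg_zero] at h10
      exact one_ne_zero h10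
  · intro c hc
    obtain ⟨x, rfl⟩ := proj_surjective c
    rw [← map_mul, ← map_mul, (mem_CI_iff x).mp hc]
  · intro a ha b hb
    obtain ⟨x, rfl⟩ := proj_surjective a
    obtain ⟨y, rfl⟩ := proj_surjective b
    rw [← map_mul, ← map_mul, comm_of_comm_w0 ((mem_CI_iff x).mp ha) ((mem_CI_iff y).mp hb)]
  · intro d hd hdC
    obtain ⟨x, rfl⟩ := proj_surjective d
    have h := hanti x hd hdC
    obtain ⟨h4, -⟩ := (anti_w0_iff x).mp h
    have ht : x 0 0 + x 1 1 = 0 := by rw [h4]; ring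
    rw [← map_mul, sq_of_trace_zero ht, hneg1]
  · intro d hd hdC e he heC
    obtain ⟨x, rfl⟩ := proj_surjective d
    obtain ⟨y, rfl⟩ := proj_surjective e
    have hx := hanti x hd hdC
    have hy := hanti y he heC
    rw [← map_mul, mem_CI_iff]
    calc x * y * w0 = x * (y * w0) := mul_assoc _ _ _
      _ = x * (-(w0 * y)) := by rw [hy]
      _ = -(x * w0 * y) := by rw [mul_neg, mul_assoc]
      _ = -(-(w0 * x) * y) := by rw [hx]
      _ = w0 * (x * y) := by rw [neg_mul, neg_neg, mul_assoc]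
  · obtain ⟨x₀, hx₀⟩ := exists_anticomm (w0 : SL2F) htr
    refine ⟨proj x₀, (mem_cent_iff x₀).mpr (Or.inr hx₀), fun hc => ?_⟩
    exact not_comm_and_anti h2 ((mem_CI_iff x₀).mp hc) hx₀
  · intro c hc hcc
    obtain ⟨x, rfl⟩ := proj_surjective c
    have hx := (mem_CI_iff x).mp hc
    rw [← map_mul] at hcc
    rcases (proj_eq_one_iff _).mp hcc with e | e
    · rcases eq_one_or_neg_of_sq h2 e with e' | e'
      · left; rw [e', map_one]
      · left; rw [e']; exact hneg1
    · rcases cent_sq_neg_one h2 hx e with e' | e'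
      · right; rw [e']
      · right; rw [e', proj_neg]

theorem involution_conj [Fintype F] (hodd : Fintype.card F % 2 = 1) (h2 : (2 : F) ≠ 0)
    (u : PSL2F) (huu : u * u = 1) (hu1 : u ≠ 1) :
    ∃ g : PSL2F, g * proj (w0 : SL2F) * g⁻¹ = u := by
  obtain ⟨x, rfl⟩ := proj_surjective u
  rw [← map_mul] at huu
  rcases (proj_eq_one_iff _).mp huu with e | e
  · exfalso
    apply hu1
    rcases eq_one_or_neg_of_sq h2 e with e' | e'
    · rw [e', map_one]
    · rw [e']; exact (proj_eq_one_iff _).mpr (Or.inr rfl)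
  · obtain ⟨y, hy⟩ := isConj_w0 hodd h2 (trace_zero_of_sq h2 e)
    refine ⟨proj y, ?_⟩
    rw [← hy, map_mul, map_mul, map_inv]

theorem eight_dvd_card [Fintype F] (hodd : Fintype.card F % 2 = 1)
    (h16 : 16 ∣ Fintype.card F ^ 2 - 1) : 8 ∣ Nat.card PSL2F := by
  have h := Cfsg.Agent.Lib.Helper5.SL2Card.card_PSL_two (F := F) (q := Fintype.card F) rfl
  have hg : Nat.gcd 2 (Fintype.card F - 1) = 2 := Nat.gcd_eq_left (by omega)
  rw [hg] at h
  obtain ⟨k, hk⟩ := h16
  rw [hk] at h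
  have h3 : Nat.card PSL2F * 2 = (8 * (Fintype.card F * k)) * 2 := by rw [h]; ring
  exact ⟨_, Nat.eq_of_mul_eq_mul_right (by norm_num) h3⟩

end Cfsg.Agent.H85.PSL2Inv
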