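import Cfsg.Agent.H85.Sat
import Cfsg.Agent.H85.FullyNorm
import Cfsg.Agent.S5077
import Cfsg.Agent.Lib.Helper47.Syl

set_option autoImplicit false

namespace Cfsg.Agent.H85

open Cfsg Cfsg.FusionSystem

section PCore

variable {G : Type*} [Group G] {G' : Type*} [Group G']

theorem pc_congr_aux (p : ℕ) (Φ : G ≃* G') {H : Subgroup G} {H' : Subgroup G'}
    (hH : ∀ x, x ∈ H ↔ Φ x ∈ H') {x : G} (hx : x ∈ pCoreOf p H) : Φ x ∈ pCoreOf p H' := by
  have hN := Lib.Helper47.Syl.pCoreOf_le p H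
  have hnorm := Lib.Helper47.Syl.le_normalizer_pCoreOf p H
  have hp := Lib.Helper47.Syl.pCoreOf_isPGroup p H
  have h1 : (pCoreOf p H).map Φ.toMonoidHom ≤ pCoreOf p H' := by
    apply Lib.Helper47.Syl.le_pCoreOf
    · rintro _ ⟨n, hn, rfl⟩; exact (hH n).mp (hN hn)
    · intro h' hh'
      have hh : Φ.symm h' ∈ H := (hH _).mpr (by rw [Φ.apply_symm_apply]; exact hh')
      have hhn := hnorm hh
      have hhn' := Subgroup.inv_mem _ hhn
      apply mem_normalizer_of_forall
      · rintro _ ⟨n, hn, rfl⟩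
        refine ⟨Φ.symm h' * n * (Φ.symm h')⁻¹, (Subgroup.mem_normalizer_iff.mp hhn n).mp hn, ?_⟩
        show Φ (Φ.symm h' * n * (Φ.symm h')⁻¹) = h' * Φ n * h'⁻¹
        rw [map_mul, map_mul, map_inv, Φ.apply_symm_apply]
      · rintro _ ⟨n, hn, rfl⟩
        have h2 := (Subgroup.mem_normalizer_iff.mp hhn' n).mp hn
        rw [inv_inv] at h2
        refine ⟨(Φ.symm h')⁻¹ * n * Φ.symm h', h2, ?_⟩
        show Φ ((Φ.symm h')⁻¹ * n * Φ.symm h') = h'⁻¹ * Φ n * h'
        rw [map_mul, map_mul, map_inv, Φ.apply_symm_apply]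
    · exact hp.map _
  exact h1 ⟨x, hx, rfl⟩

/-- `O_p` of a subgroup (inside the ambient group) is transported by isomorphisms. -/
theorem pc_congr (p : ℕ) (Φ : G ≃* G') {H : Subgroup G} {H' : Subgroup G'}
    (hH : ∀ x, x ∈ H ↔ Φ x ∈ H') (x : G) : x ∈ pCoreOf p H ↔ Φ x ∈ pCoreOf p H' := by
  refine ⟨pc_congr_aux p Φ hH, fun h => ?_⟩
  have h1 := pc_congr_aux p Φ.symm (H := H') (H' := H)
    (fun y => by rw [hH (Φ.symm y), Φ.apply_symm_apply]) h
  rwa [Φ.symm_apply_apply] at h1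

/-- `O_p(H) ∩ K ≤ O_p(K)` for `K ≤ H`. -/
theorem pc_inf_le (p : ℕ) {H K : Subgroup G} (hKH : K ≤ H) : pCoreOf p H ⊓ K ≤ pCoreOf p K := by
  apply Lib.Helper47.Syl.le_pCoreOf inf_le_right
  · intro n hn
    have h3 := Lib.Helper47.Syl.le_normalizer_pCoreOf p H (hKH hn)
    rw [Subgroup.mem_normalizer_iff] at h3
    apply mem_normalizer_of_forall
    · rintro m ⟨hm1, hm2⟩
      exact ⟨(h3 m).mp hm1, K.mul_mem (K.mul_mem hn hm2) (K.inv_mem hn)⟩
    · rintro m ⟨hm1, hm2⟩
      refine ⟨?_, K.mul_mem (K.mul_mem (K.inv_mem hn) hm2) hn⟩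
      have h4 : n * (n⁻¹ * m * n) * n⁻¹ = m := by group
      exact (h3 (n⁻¹ * m * n)).mpr (by rw [h4]; exact hm1)
  · exact (Lib.Helper47.Syl.pCoreOf_isPGroup p H).to_le inf_le_left

end PCore

section Fusion

variable {Ω : Type*} [Group Ω] {S : Subgroup Ω}

/-- The `p`-stability condition of a fusion system at the subgroup `Q`. -/
def PStabAt (p : ℕ) (F : FusionSystem S) (Q : Subgroup Ω) : Prop :=
  ∀ χ : MulAut Q, χ ∈ F.autGroup Q → (∀ a : Q, (χ a⁻¹) * a * (χ a⁻¹) * (χ (χ a)) = 1) →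
    χ ∈ pCoreOf p (F.autGroup Q)

theorem congr_symm_congr {P Q : Subgroup Ω} (e : P ≃* Q) (x : MulAut P) :
    MulAut.congr e.symm (MulAut.congr e x) = x := by
  apply MulEquiv.ext
  intro y
  show e.symm (e (x (e.symm (e.symm.symm y)))) = x y
  rw [e.symm_apply_apply]
  show x (e.symm (e y)) = x y
  rw [e.symm_apply_apply]

theorem congr_congr_symm {P Q : Subgroup Ω} (e : P ≃* Q) (x : MulAut Q) :
    MulAut.congr e (MulAut.congr e.symm x) = x := by
  apply MulEquiv.ext
  intro y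
  show e (e.symm (x (e.symm.symm (e.symm y)))) = x y
  rw [e.apply_symm_apply]
  show x (e (e.symm y)) = x y
  rw [e.apply_symm_apply]

theorem quad_congr {P Q : Subgroup Ω} (e : P ≃* Q) {χ : MulAut P}
    (hq : ∀ a : P, (χ a⁻¹) * a * (χ a⁻¹) * (χ (χ a)) = 1) (b : Q) :
    ((MulAut.congr e χ) b⁻¹) * b * ((MulAut.congr e χ) b⁻¹) *
      ((MulAut.congr e χ) ((MulAut.congr e χ) b)) = 1 := by
  have e1 : ∀ c : Q, (MulAut.congr e χ) c = e (χ (e.symm c)) := fun c => rfl
  have h1 := hq (e.symm b)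
  rw [e1, e1, e1, e.symm_apply_apply, map_inv]
  have h2 := congrArg e h1
  rw [map_mul, map_mul, map_mul, e.apply_symm_apply, map_one] at h2
  exact h2

theorem autGroup_congr_iff (F : FusionSystem S) {P Q : Subgroup Ω} {e : P ≃* Q} (he : IsIso F e)
    (x : MulAut P) : x ∈ F.autGroup P ↔ MulAut.congr e x ∈ F.autGroup Q := by
  refine ⟨fun hx => congr_mem_autGroup F he hx, fun hx => ?_⟩
  have h1 := congr_mem_autGroup F (isIso_symm F he) hx
  rwa [congr_symm_congr] at h1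

/-- The `p`-stability condition is invariant under isomorphisms of the system. -/
theorem PStabAt.of_iso {p : ℕ} {F : FusionSystem S} {P Q : Subgroup Ω} {e : P ≃* Q}
    (he : IsIso F e) (h : PStabAt p F P) : PStabAt p F Q := by
  intro χ' hχ' hquad
  have he' := isIso_symm F he
  have hχ : MulAut.congr e.symm χ' ∈ F.autGroup P := congr_mem_autGroup F he' hχ'
  have h2 := h _ hχ (quad_congr e.symm hquad)
  have h3 := (pc_congr p (MulAut.congr e) (autGroup_congr_iff F he) _).mp h2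
  rwa [congr_congr_symm] at h3

/-- If the condition holds at all fully normalized subgroups, it holds at all subgroups. -/
theorem pstab_all [Finite S] {p : ℕ} {F : FusionSystem S}
    (h : ∀ Q, F.IsFullyNormalized Q → PStabAt p F Q) {Q : Subgroup Ω} (hQ : Q ≤ S) :
    PStabAt p F Q := by
  obtain ⟨Q', hconj, hfn⟩ := Cfsg.Agent.S5077.exists_fullyNormalized F hQ
  obtain ⟨e, he⟩ := exists_isIso_of_isConj F hconj
  exact (h Q' hfn).of_iso (isIso_symm F he)

theorem autGroup_mono {T : Subgroup Ω} {N : FusionSystem T} {F : FusionSystem S}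
    (hsub : N.IsSubsystemOf F) (Q : Subgroup Ω) : N.autGroup Q ≤ F.autGroup Q :=
  Subgroup.closure_mono (fun _ hα => hsub Q hα)

/-- The `p`-stability condition passes to subsystems. -/
theorem PStabAt.of_le {p : ℕ} {T : Subgroup Ω} {N : FusionSystem T} {F : FusionSystem S}
    {Q : Subgroup Ω} (hsub : N.autGroup Q ≤ F.autGroup Q) (h : PStabAt p F Q) : PStabAt p N Q := by
  intro χ hχ hquad
  exact pc_inf_le p hsub ⟨h χ (hsub hχ) hquad, hχ⟩

/-- The `p`-stability condition depends only on the automorphism group. -/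
theorem PStabAt.of_eq {p : ℕ} {T : Subgroup Ω} {N : FusionSystem T} {F : FusionSystem S}
    {Q : Subgroup Ω} (heq : N.autGroup Q = F.autGroup Q) (h : PStabAt p N Q) : PStabAt p F Q := by
  intro χ hχ hquad
  rw [← heq] at hχ ⊢
  exact h χ hχ hquad

end Fusion

end Cfsg.Agent.H85
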