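import Cfsg.Agent.H85.PStab
import Cfsg.Agent.H85.GroupFS2
import Cfsg.Agent.H85.Aut
import Cfsg.Agent.Lib.Helper11.PConstr
import Cfsg.Prelude.Def_LocalEven

set_option autoImplicit false

namespace Cfsg.Agent.H85

open Cfsg Cfsg.FusionSystem

open scoped commutatorElement

section Grp

variable {G : Type*} [Group G]

theorem coe_normalizerMonoidHom (Q : Subgroup G) (n : Subgroup.normalizer (Q : Set G)) (x : Q) :
    ((Subgroup.normalizerMonoidHom Q n x : Q) : G) = (n : G) * x * (n : G)⁻¹ := rfl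

theorem range_normalizerMonoidHom (Q : Subgroup G) :
    (Subgroup.normalizerMonoidHom Q).range = autInducedBy ⊤ Q := by
  ext α
  rw [mem_autInducedBy_iff_normalizer]
  constructor
  · rintro ⟨n, rfl⟩; exact ⟨n, Subgroup.mem_top _, rfl⟩
  · rintro ⟨n, -, rfl⟩; exact ⟨n, rfl⟩

/-- Membership of the image of `n` in `O_p(N_G(Q)/C_G(Q))`, read in `Aut(Q)`. -/
theorem mk_mem_pCore_iff (p : ℕ) (Q : Subgroup G) (n : Subgroup.normalizer (Q : Set G)) :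
    (QuotientGroup.mk n : ↥(Subgroup.normalizer (Q : Set G)) ⧸
        (Subgroup.centralizer (Q : Set G)).subgroupOf (Subgroup.normalizer (Q : Set G))) ∈
      pCore p (↥(Subgroup.normalizer (Q : Set G)) ⧸
        (Subgroup.centralizer (Q : Set G)).subgroupOf (Subgroup.normalizer (Q : Set G))) ↔
    Subgroup.normalizerMonoidHom Q n ∈ pCoreOf p (autInducedBy ⊤ Q) := by
  have hK : (Subgroup.centralizer (Q : Set G)).subgroupOf (Subgroup.normalizer (Q : Set G)) =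
      (Subgroup.normalizerMonoidHom Q).ker := (Subgroup.normalizerMonoidHom_ker Q).symm
  obtain ⟨ψ, hψ⟩ : ∃ ψ : (↥(Subgroup.normalizer (Q : Set G)) ⧸
      (Subgroup.centralizer (Q : Set G)).subgroupOf (Subgroup.normalizer (Q : Set G))) ≃*
      (Subgroup.normalizerMonoidHom Q).range,
      ∀ m : Subgroup.normalizer (Q : Set G),
        ((ψ (QuotientGroup.mk m) : (Subgroup.normalizerMonoidHom Q).range) : MulAut Q) =
          Subgroup.normalizerMonoidHom Q m :=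
    ⟨(QuotientGroup.quotientMulEquivOfEq hK).trans (QuotientGroup.quotientKerEquivRange _),
      fun m => rfl⟩
  have h1 := Lib.Helper11.PConstr.pCore_map_mulEquiv p ψ
  rw [← range_normalizerMonoidHom]
  have hmem : Subgroup.normalizerMonoidHom Q n ∈ (Subgroup.normalizerMonoidHom Q).range :=
    ⟨n, rfl⟩
  rw [Lib.Helper47.Syl.mem_pCoreOf_iff hmem, ← h1]
  have e1 : (⟨Subgroup.normalizerMonoidHom Q n, hmem⟩ : (Subgroup.normalizerMonoidHom Q).range) =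
      ψ (QuotientGroup.mk n) := Subtype.ext (hψ n).symm
  rw [e1]
  constructor
  · intro h; exact ⟨_, h, rfl⟩
  · rintro ⟨y, hy, hyx⟩
    have h2 : y = QuotientGroup.mk n := ψ.injective hyx
    rw [← h2]; exact hy

theorem quad_of_comm {Q : Subgroup G} {g : G} (hg : g ∈ Subgroup.normalizer (Q : Set G))
    (h : ⁅⁅Q, Subgroup.zpowers g⁆, Subgroup.zpowers g⁆ = ⊥) (a : Q) :
    (Subgroup.normalizerMonoidHom Q ⟨g, hg⟩ a⁻¹) * a *
      (Subgroup.normalizerMonoidHom Q ⟨g, hg⟩ a⁻¹) *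
      (Subgroup.normalizerMonoidHom Q ⟨g, hg⟩ (Subgroup.normalizerMonoidHom Q ⟨g, hg⟩ a)) = 1 := by
  rw [Subgroup.commutator_eq_bot_iff_le_centralizer] at h
  have h1 : ⁅((a⁻¹ : Q) : G), g⁆ ∈ Subgroup.centralizer ((Subgroup.zpowers g : Subgroup G) : Set G) :=
    h (Subgroup.commutator_mem_commutator (a⁻¹).2 (Subgroup.mem_zpowers g))
  have h2 := Subgroup.mem_centralizer_iff.mp h1 g (Subgroup.mem_zpowers g)
  rw [commutatorElement_def] at h2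
  apply Subtype.ext
  show g * ((a⁻¹ : Q) : G) * g⁻¹ * (a : G) * (g * ((a⁻¹ : Q) : G) * g⁻¹) *
    (g * (g * (a : G) * g⁻¹) * g⁻¹) = 1
  have e0 : ((a⁻¹ : Q) : G) = (a : G)⁻¹ := rfl
  rw [e0] at h2 ⊢
  rw [inv_inv] at h2
  -- h2 : g * (a⁻¹ * g * a * g⁻¹) = a⁻¹ * g * a * g⁻¹ * g
  have E : g * (a : G)⁻¹ * g * (a : G) * g⁻¹ = (a : G)⁻¹ * g * (a : G) := by
    have h3 : g * ((a : G)⁻¹ * g * (a : G) * g⁻¹) = g * (a : G)⁻¹ * g * (a : G) * g⁻¹ := by group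
    have h4 : (a : G)⁻¹ * g * (a : G) * g⁻¹ * g = (a : G)⁻¹ * g * (a : G) := by group
    rw [← h3, h2, h4]
  have e1 : g * (a : G)⁻¹ * g⁻¹ * (a : G) * (g * (a : G)⁻¹ * g⁻¹) * (g * (g * (a : G) * g⁻¹) * g⁻¹) =
      g * (a : G)⁻¹ * g⁻¹ * (a : G) * (g * (a : G)⁻¹ * g * (a : G) * g⁻¹) * g⁻¹ := by group
  rw [e1, E]
  group

theorem comm_of_quad {Q : Subgroup G} {g : G} (hg : g ∈ Subgroup.normalizer (Q : Set G))
    (hq : ∀ a : Q, (Subgroup.normalizerMonoidHom Q ⟨g, hg⟩ a⁻¹) * a *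
      (Subgroup.normalizerMonoidHom Q ⟨g, hg⟩ a⁻¹) *
      (Subgroup.normalizerMonoidHom Q ⟨g, hg⟩ (Subgroup.normalizerMonoidHom Q ⟨g, hg⟩ a)) = 1) :
    ⁅⁅Q, Subgroup.zpowers g⁆, Subgroup.zpowers g⁆ = ⊥ := by
  -- the key commutation
  have key : ∀ a ∈ Q, ⁅a, g⁆ * g = g * ⁅a, g⁆ := by
    intro a ha
    have h := congrArg Subtype.val (hq ⟨a, ha⟩⁻¹)
    have h' : g * (a : G) * g⁻¹ * (a : G)⁻¹ * (g * (a : G) * g⁻¹) *
        (g * (g * (a : G)⁻¹ * g⁻¹) * g⁻¹) = 1 := by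
      have e0 : (((⟨a, ha⟩ : Q)⁻¹)⁻¹ : Q) = ⟨a, ha⟩ := inv_inv _
      rw [e0] at h
      exact h
    rw [commutatorElement_def]
    have h1 : (a * g * a⁻¹ * g⁻¹)⁻¹ * (g * (a * g * a⁻¹ * g⁻¹) * g⁻¹) = 1 := by
      rw [← h']; group
    have h3 : g * (a * g * a⁻¹ * g⁻¹) * g⁻¹ = a * g * a⁻¹ * g⁻¹ := (inv_mul_eq_one.mp h1).symm
    calc a * g * a⁻¹ * g⁻¹ * g = (g * (a * g * a⁻¹ * g⁻¹) * g⁻¹) * g := by rw [h3]
      _ = g * (a * g * a⁻¹ * g⁻¹) := by group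
  -- the subgroup of elements `b` commuting with `g` all of whose commutators with `Q` commute with `g`
  let B : Subgroup G :=
    { carrier := {b | b * g = g * b ∧ ∀ a ∈ Q, ⁅a, b⁆ * g = g * ⁅a, b⁆}
      one_mem' := by
        refine ⟨by simp, fun a _ => ?_⟩
        simp
      mul_mem' := by
        rintro b₁ b₂ ⟨h1, h1'⟩ ⟨h2, h2'⟩
        refine ⟨by rw [mul_assoc, h2, ← mul_assoc, h1, mul_assoc], fun a ha => ?_⟩
        have e : ⁅a, b₁ * b₂⁆ = ⁅a, b₁⁆ * (b₁ * ⁅a, b₂⁆ * b₁⁻¹) := by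
          simp only [commutatorElement_def]; group
        rw [e]
        have c1 := h1' a ha
        have c2 := h2' a ha
        have c3 : b₁⁻¹ * g = g * b₁⁻¹ := by
          have : b₁⁻¹ * (b₁ * g) * b₁⁻¹ = b₁⁻¹ * (g * b₁) * b₁⁻¹ := by rw [h1]
          have l : b₁⁻¹ * (b₁ * g) * b₁⁻¹ = g * b₁⁻¹ := by group
          have r : b₁⁻¹ * (g * b₁) * b₁⁻¹ = b₁⁻¹ * g := by group
          rw [l, r] at this
          exact this.symm
        calc ⁅a, b₁⁆ * (b₁ * ⁅a, b₂⁆ * b₁⁻¹) * g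
            = ⁅a, b₁⁆ * (b₁ * ⁅a, b₂⁆ * (b₁⁻¹ * g)) := by group
          _ = ⁅a, b₁⁆ * (b₁ * (⁅a, b₂⁆ * g) * b₁⁻¹) := by rw [c3]; group
          _ = ⁅a, b₁⁆ * ((b₁ * g) * ⁅a, b₂⁆ * b₁⁻¹) := by rw [c2]; group
          _ = (⁅a, b₁⁆ * g) * (b₁ * ⁅a, b₂⁆ * b₁⁻¹) := by rw [h1]; group
          _ = g * (⁅a, b₁⁆ * (b₁ * ⁅a, b₂⁆ * b₁⁻¹)) := by rw [c1]; group
      inv_mem' := by
        rintro b ⟨h1, h1'⟩
        have c3 : b⁻¹ * g = g * b⁻¹ := by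
          have : b⁻¹ * (b * g) * b⁻¹ = b⁻¹ * (g * b) * b⁻¹ := by rw [h1]
          have l : b⁻¹ * (b * g) * b⁻¹ = g * b⁻¹ := by group
          have r : b⁻¹ * (g * b) * b⁻¹ = b⁻¹ * g := by group
          rw [l, r] at this
          exact this.symm
        refine ⟨c3, fun a ha => ?_⟩
        have e : ⁅a, b⁻¹⁆ = b⁻¹ * (⁅a, b⁆)⁻¹ * b := by
          simp only [commutatorElement_def]; group
        rw [e]
        have c1 := h1' a ha
        have c1' : (⁅a, b⁆)⁻¹ * g = g * (⁅a, b⁆)⁻¹ := by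
          have : (⁅a, b⁆)⁻¹ * (⁅a, b⁆ * g) * (⁅a, b⁆)⁻¹ = (⁅a, b⁆)⁻¹ * (g * ⁅a, b⁆) * (⁅a, b⁆)⁻¹ := by
            rw [c1]
          have l : (⁅a, b⁆)⁻¹ * (⁅a, b⁆ * g) * (⁅a, b⁆)⁻¹ = g * (⁅a, b⁆)⁻¹ := by group
          have r : (⁅a, b⁆)⁻¹ * (g * ⁅a, b⁆) * (⁅a, b⁆)⁻¹ = (⁅a, b⁆)⁻¹ * g := by group
          rw [l, r] at this
          exact this.symm
        calc b⁻¹ * (⁅a, b⁆)⁻¹ * b * g = b⁻¹ * (⁅a, b⁆)⁻¹ * (b * g) := by group
          _ = b⁻¹ * ((⁅a, b⁆)⁻¹ * g) * b := by rw [h1]; group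
          _ = (b⁻¹ * g) * (⁅a, b⁆)⁻¹ * b := by rw [c1']; group
          _ = g * (b⁻¹ * (⁅a, b⁆)⁻¹ * b) := by rw [c3]; group }
  have hgB : g ∈ B := ⟨rfl, key⟩
  have hZB : Subgroup.zpowers g ≤ B := Subgroup.zpowers_le.mpr hgB
  rw [Subgroup.commutator_eq_bot_iff_le_centralizer, Subgroup.commutator_le]
  intro a ha b hb
  have hc : ⁅a, b⁆ * g = g * ⁅a, b⁆ := (hZB hb).2 a ha
  rw [Subgroup.mem_centralizer_iff]
  rintro _ ⟨k, rfl⟩
  have hcomm : Commute g ⁅a, b⁆ := hc.symm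
  exact (hcomm.zpow_left k).eq

theorem groupFS_autGroup {P Q : Subgroup G} (hQ : Q ≤ P) :
    (groupFusionSystem P).autGroup Q = autInducedBy ⊤ Q := by
  ext α
  rw [mem_autGroup_iff _ hQ, mem_autInducedBy_iff]
  constructor
  · rintro ⟨-, -, g, hg⟩; exact ⟨g, Subgroup.mem_top _, fun x => hg x⟩
  · rintro ⟨g, -, hg⟩; exact ⟨hQ, fun x => hQ (α x).2, g, fun x => hg x⟩

theorem autInducedBy_congr_aux {Q₀ Q : Subgroup G} (e : Q₀ ≃* Q) (k : G)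
    (he : ∀ x, ((e x : Q) : G) = k * x * k⁻¹) {x : MulAut Q₀} (hx : x ∈ autInducedBy ⊤ Q₀) :
    MulAut.congr e x ∈ autInducedBy ⊤ Q := by
  rw [mem_autInducedBy_iff] at hx ⊢
  obtain ⟨m, -, hm⟩ := hx
  refine ⟨k * m * k⁻¹, Subgroup.mem_top _, fun y => ?_⟩
  show ((e (x (e.symm y)) : Q) : G) = _
  rw [he, hm]
  have h1 := he (e.symm y)
  rw [e.apply_symm_apply] at h1
  rw [h1]
  group

theorem autInducedBy_congr_iff {Q₀ Q : Subgroup G} (e : Q₀ ≃* Q) (k : G)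
    (he : ∀ x, ((e x : Q) : G) = k * x * k⁻¹) (x : MulAut Q₀) :
    x ∈ autInducedBy ⊤ Q₀ ↔ MulAut.congr e x ∈ autInducedBy ⊤ Q := by
  refine ⟨autInducedBy_congr_aux e k he, fun hx => ?_⟩
  have he' : ∀ y, ((e.symm y : Q₀) : G) = k⁻¹ * y * k⁻¹⁻¹ := by
    intro y
    have h1 := he (e.symm y)
    rw [e.apply_symm_apply] at h1
    rw [h1]; group
  have h2 := autInducedBy_congr_aux e.symm k⁻¹ he' hx
  rwa [congr_symm_congr] at h2

/-- A group is `p`-stable (normalizer form) iff its fusion system on a Sylow `p`-subgroup is. -/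
theorem pstable_group_iff [Finite G] {p : ℕ} [Fact p.Prime] (P : Sylow p G) :
    IsNormalizerPStable p G ↔ ∀ Q, (groupFusionSystem (P : Subgroup G)).IsFullyNormalized Q →
      PStabAt p (groupFusionSystem (P : Subgroup G)) Q := by
  constructor
  · intro hG Q hfn χ hχ hquad
    have hQ : Q ≤ P := hfn.1
    rw [groupFS_autGroup hQ] at hχ ⊢
    obtain ⟨n, -, rfl⟩ := (mem_autInducedBy_iff_normalizer ⊤ Q χ).mp hχ
    have hcomm := comm_of_quad n.2 hquad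
    have h1 := hG Q (P.isPGroup'.to_le hQ) n n.2 hcomm
    exact (mk_mem_pCore_iff p Q n).mp h1
  · intro hF Q₀ hQ₀ g₀ hg₀ hcomm
    obtain ⟨P', hP'⟩ := hQ₀.exists_le_sylow
    obtain ⟨k, hk⟩ := MulAction.exists_smul_eq G P' P
    obtain ⟨Q, e, he, hQP⟩ : ∃ (Q : Subgroup G) (e : Q₀ ≃* Q),
        (∀ x, ((e x : Q) : G) = k * x * k⁻¹) ∧ Q ≤ P := by
      refine ⟨_, (MulAut.conj k).subgroupMap Q₀, fun x => rfl, ?_⟩
      rintro _ ⟨x, hx, rfl⟩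
      rw [← hk]
      have : k * x * k⁻¹ ∈ ((k • P' : Sylow p G) : Subgroup G) := by
        rw [Sylow.coe_subgroup_smul]
        exact ⟨x, hP' hx, rfl⟩
      exact this
    have hχ₀ : Subgroup.normalizerMonoidHom Q₀ ⟨g₀, hg₀⟩ ∈ autInducedBy ⊤ Q₀ :=
      (mem_autInducedBy_iff_normalizer ⊤ Q₀ _).mpr ⟨⟨g₀, hg₀⟩, Subgroup.mem_top _, rfl⟩
    have hquad := quad_of_comm hg₀ hcomm
    have hχ := (autInducedBy_congr_iff e k he _).mp hχ₀
    have hst : PStabAt p (groupFusionSystem (P : Subgroup G)) Q := pstab_all hF hQP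
    have h1 := hst _ (by rw [groupFS_autGroup hQP]; exact hχ) (quad_congr e hquad)
    rw [groupFS_autGroup hQP] at h1
    have h2 := (pc_congr p (MulAut.congr e) (autInducedBy_congr_iff e k he) _).mpr h1
    exact (mk_mem_pCore_iff p Q₀ ⟨g₀, hg₀⟩).mpr h2

end Grp

end Cfsg.Agent.H85
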