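import Cfsg.Agent.H85.PStab
import Cfsg.Agent.H85.Alperin
import Cfsg.Agent.H85.Iso3
import Cfsg.Agent.H85.Core
import Cfsg.Agent.S5096
import Cfsg.Agent.Lib.Helper87.FSBasic

set_option autoImplicit false

namespace Cfsg.Agent.H85

open Cfsg Cfsg.FusionSystem

section Rad

variable {Ω : Type*} [Group Ω] {S : Subgroup Ω}

/-- Every automorphism of `Q` in the system extends to an automorphism of `R` in the system. -/
def ExtAll (F : FusionSystem S) (Q R : Subgroup Ω) : Prop :=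
  Q ≤ R ∧ ∀ α ∈ F.autGroup Q, ∃ β ∈ F.autGroup R,
    ∀ (x : Q) (hx : (x : Ω) ∈ R), ((β ⟨x, hx⟩ : R) : Ω) = ((α x : Q) : Ω)

theorem ExtAll.refl (F : FusionSystem S) (Q : Subgroup Ω) : ExtAll F Q Q :=
  ⟨le_rfl, fun α hα => ⟨α, hα, fun _ _ => rfl⟩⟩

theorem ExtAll.transport (F : FusionSystem S) {Q R R₁ : Subgroup Ω} (h : ExtAll F Q R)
    {e : R ≃* R₁} (he : IsIso F e) :
    ∃ (Q₁ : Subgroup Ω) (f : Q ≃* Q₁), IsIso F f ∧ ExtAll F Q₁ R₁ := by
  have hc : Corr e Q (corrImg e Q) := corr_img e h.1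
  obtain ⟨f, hfdef⟩ : ∃ f : Q ≃* corrImg e Q, f = hc.equiv := ⟨_, rfl⟩
  have hfcoe : ∀ x : Q, ((f x : ↥(corrImg e Q)) : Ω) = ((e ⟨x, h.1 x.2⟩ : R₁) : Ω) := by
    intro x; rw [hfdef]; rfl
  have hf : IsIso F f := hom_congr F (restrict_mem F he h.1) (fun x => hfcoe x)
  refine ⟨corrImg e Q, f, hf, hc.2.1, fun α₁ hα₁ => ?_⟩
  have hα : MulAut.congr f.symm α₁ ∈ F.autGroup Q := congr_mem_autGroup F (isIso_symm F hf) hα₁
  obtain ⟨β, hβ, hβα⟩ := h.2 _ hα
  refine ⟨MulAut.congr e β, congr_mem_autGroup F he hβ, fun x₁ hx₁ => ?_⟩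
  show ((e (β (e.symm ⟨x₁, hx₁⟩)) : R₁) : Ω) = _
  have e1 : e.symm ⟨x₁, hx₁⟩ = ⟨(f.symm x₁ : Q), h.1 (f.symm x₁).2⟩ := by
    apply e.injective
    rw [e.apply_symm_apply]
    apply Subtype.ext
    show (x₁ : Ω) = ((e ⟨(f.symm x₁ : Q), h.1 (f.symm x₁).2⟩ : R₁) : Ω)
    rw [← hfcoe, f.apply_symm_apply]
  have e3 : (MulAut.congr f.symm α₁) (f.symm x₁) = f.symm (α₁ x₁) := by
    apply f.injective
    rw [congr_symm_apply_equiv, f.apply_symm_apply, f.apply_symm_apply]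
  have e2 : β ⟨(f.symm x₁ : Q), h.1 (f.symm x₁).2⟩ =
      ⟨((f.symm (α₁ x₁) : Q) : Ω), h.1 (f.symm (α₁ x₁)).2⟩ := by
    apply Subtype.ext
    rw [hβα, e3]
  rw [e1, e2, ← hfcoe, f.apply_symm_apply]

/-- The preimage in `N_S(R)` of `O_p(Aut_F(R))`. -/
def plus (p : ℕ) (F : FusionSystem S) (R : Subgroup Ω) : Subgroup Ω :=
  ((pCoreOf p (F.autGroup R)).comap ((Subgroup.normalizerMonoidHom R).comp
    (Subgroup.inclusion (inf_le_right : normalizerIn S R ≤ Subgroup.normalizer (R : Set Ω))))).map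
    (normalizerIn S R).subtype

theorem mem_plus {p : ℕ} {F : FusionSystem S} {R : Subgroup Ω} {y : Ω} :
    y ∈ plus p F R ↔ ∃ (hy : y ∈ normalizerIn S R),
      Subgroup.normalizerMonoidHom R ⟨y, hy.2⟩ ∈ pCoreOf p (F.autGroup R) := by
  constructor
  · rintro ⟨n, hn, rfl⟩; exact ⟨n.2, hn⟩
  · rintro ⟨hy, h⟩; exact ⟨⟨y, hy⟩, h, rfl⟩

theorem plus_le (p : ℕ) (F : FusionSystem S) (R : Subgroup Ω) : plus p F R ≤ normalizerIn S R :=
  fun _ hy => (mem_plus.mp hy).1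

theorem conj_mem_pc {p : ℕ} [Fact p.Prime] (hS : IsPGroup p S) (F : FusionSystem S)
    {R : Subgroup Ω} (hR : R ≤ S) (t : R) : MulAut.conj t ∈ pCoreOf p (F.autGroup R) := by
  have hmem : MulAut.conj t ∈ F.autGroup R :=
    autInducedBy_le_autGroup F hR ((mem_autInducedBy_iff S R _).mpr ⟨t, hR t.2, fun x => rfl⟩)
  have hInnP : IsPGroup p (Inn R) := by
    refine (isPGroup_autInducedBy hS R).to_le ?_
    rintro _ ⟨t, rfl⟩
    exact (mem_autInducedBy_iff S R _).mpr ⟨t, hR t.2, fun x => rfl⟩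
  have hI : (Inn R).subgroupOf (F.autGroup R) ≤ pCore p ↥(F.autGroup R) :=
    le_pCore ((innNormal R).subgroupOf _) hInnP.comap_subtype
  exact ⟨⟨MulAut.conj t, hmem⟩, hI (Subgroup.mem_subgroupOf.mpr ⟨t, rfl⟩), rfl⟩

theorem le_plus {p : ℕ} [Fact p.Prime] (hS : IsPGroup p S) (F : FusionSystem S)
    {R : Subgroup Ω} (hR : R ≤ S) : R ≤ plus p F R := by
  intro r hr
  refine mem_plus.mpr ⟨⟨hR hr, Subgroup.le_normalizer hr⟩, ?_⟩
  have e1 : Subgroup.normalizerMonoidHom R ⟨r, Subgroup.le_normalizer hr⟩ =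
      MulAut.conj (⟨r, hr⟩ : R) := by
    apply MulEquiv.ext; intro x; rfl
  rw [e1]
  exact conj_mem_pc hS F hR ⟨r, hr⟩

theorem cent_le_plus (p : ℕ) (F : FusionSystem S) (R : Subgroup Ω) :
    centralizerIn S R ≤ plus p F R := by
  intro c hc
  have hcN : c ∈ Subgroup.normalizer (R : Set Ω) := Subgroup.centralizer_le_normalizer _ hc.2
  refine mem_plus.mpr ⟨⟨hc.1, hcN⟩, ?_⟩
  have e1 : Subgroup.normalizerMonoidHom R ⟨c, hcN⟩ = 1 := by
    apply MulEquiv.ext; intro x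
    apply Subtype.ext
    show c * (x : Ω) * c⁻¹ = x
    have h1 : (x : Ω) * c = c * (x : Ω) := Subgroup.mem_centralizer_iff.mp hc.2 x x.2
    rw [← h1, mul_inv_cancel_right]
  rw [e1]
  exact Subgroup.one_mem _

theorem pc_le_autS {p : ℕ} {F : FusionSystem S} {R : Subgroup Ω} (hfa : F.IsFullyAutomized p R) :
    pCoreOf p (F.autGroup R) ≤ autInducedBy S R := by
  obtain ⟨R', hR'⟩ := hfa.2
  rintro _ ⟨κ, hκ, rfl⟩
  have h0 := pCore_le_sylow R' hκ
  rw [hR'] at h0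
  exact Subgroup.mem_subgroupOf.mp h0

theorem conj_mem_pcOf {p : ℕ} {F : FusionSystem S} {R : Subgroup Ω} {β κ : MulAut R}
    (hβ : β ∈ F.autGroup R) (hκ : κ ∈ pCoreOf p (F.autGroup R)) :
    β * κ * β⁻¹ ∈ pCoreOf p (F.autGroup R) := by
  have hn := Lib.Helper47.Syl.le_normalizer_pCoreOf p (F.autGroup R) hβ
  exact (Subgroup.mem_normalizer_iff.mp hn _).mp hκ

theorem plus_le_extender {p : ℕ} {F : FusionSystem S} {R : Subgroup Ω}
    (hfa : F.IsFullyAutomized p R) {β : MulAut R} (hβ : β ∈ F.autGroup R) :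
    plus p F R ≤ extender S R (R.subtype.comp β.toMonoidHom) := by
  intro y hy
  obtain ⟨hyN, hyO⟩ := mem_plus.mp hy
  refine Subgroup.subset_closure ⟨hyN.1, hyN.2, ?_⟩
  have h2 := conj_mem_pcOf hβ hyO
  obtain ⟨h, hh, hhx⟩ := (mem_autInducedBy_iff S R _).mp (pc_le_autS hfa h2)
  refine ⟨h, hh, fun x hx => ?_⟩
  have h5 := hhx (β x)
  show ((β ⟨y * x * y⁻¹, hx⟩ : R) : Ω) = h * ((β x : R) : Ω) * h⁻¹
  rw [← h5]
  show ((β ⟨y * x * y⁻¹, hx⟩ : R) : Ω) =
    ((β ((Subgroup.normalizerMonoidHom R ⟨y, hyN.2⟩) (β⁻¹ (β x))) : R) : Ω)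
  rw [MulAut.inv_apply_self]
  rfl

/-- Every automorphism of a fully automized receptive `R` extends to an automorphism of `plus`. -/
theorem ext_plus [Finite S] {p : ℕ} [Fact p.Prime] (hS : IsPGroup p S) (F : FusionSystem S)
    {R : Subgroup Ω} (hfa : F.IsFullyAutomized p R) (hrec : F.IsReceptive R) {β : MulAut R}
    (hβ : β ∈ F.autGroup R) :
    ∃ β' ∈ F.autGroup (plus p F R), ∀ (x : R) (hx : (x : Ω) ∈ plus p F R),
      ((β' ⟨x, hx⟩ : ↥(plus p F R)) : Ω) = ((β x : R) : Ω) := by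
  have hR : R ≤ S := hfa.1
  have hRp : R ≤ plus p F R := le_plus hS F hR
  have hφ : R.subtype.comp β.toMonoidHom ∈ F.Hom R := (mem_autGroup_iff F hR β).mp hβ
  obtain ⟨ψ, hψ, hψx⟩ := hrec.2 R _ hφ (range_of_iso β)
  have hle := plus_le_extender hfa hβ
  obtain ⟨ψ', hψ'def⟩ : ∃ ψ' : ↥(plus p F R) →* Ω, ψ' = ψ.comp (Subgroup.inclusion hle) := ⟨_, rfl⟩
  have hψ' : ψ' ∈ F.Hom (plus p F R) := by rw [hψ'def]; exact restrict_mem F hψ hle
  have hagree : ∀ (x : R) (hx : (x : Ω) ∈ plus p F R), ψ' ⟨x, hx⟩ = ((β x : R) : Ω) := by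
    intro x hx
    rw [hψ'def]
    exact hψx x x.2 (hle hx)
  have hconj : ∀ (y : ↥(plus p F R)) (hyN : (y : Ω) ∈ Subgroup.normalizer (R : Set Ω)) (r : R),
      ψ' y * (r : Ω) * (ψ' y)⁻¹ =
        (((β * Subgroup.normalizerMonoidHom R ⟨y, hyN⟩ * β⁻¹) r : R) : Ω) := by
    intro y hyN r
    have hr : (r : Ω) = ψ' ⟨(β⁻¹ r : R), hRp (β⁻¹ r).2⟩ := by
      rw [hagree, MulAut.apply_inv_self]
    have e1 : y * (⟨(β⁻¹ r : R), hRp (β⁻¹ r).2⟩ : ↥(plus p F R)) * y⁻¹ =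
        ⟨((Subgroup.normalizerMonoidHom R ⟨y, hyN⟩ (β⁻¹ r) : R) : Ω),
          hRp (Subgroup.normalizerMonoidHom R ⟨y, hyN⟩ (β⁻¹ r)).2⟩ := Subtype.ext rfl
    calc ψ' y * (r : Ω) * (ψ' y)⁻¹
        = ψ' (y * (⟨(β⁻¹ r : R), hRp (β⁻¹ r).2⟩ : ↥(plus p F R)) * y⁻¹) := by
          rw [map_mul, map_mul, map_inv, ← hr]
      _ = _ := by
          rw [e1, hagree]
          rfl
  have hval : ∀ y : ↥(plus p F R), ψ' y ∈ plus p F R := by
    intro y
    obtain ⟨hyN, hyO⟩ := mem_plus.mp y.2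
    have hyN' : ((y⁻¹ : ↥(plus p F R)) : Ω) ∈ Subgroup.normalizer (R : Set Ω) :=
      (mem_plus.mp (y⁻¹).2).1.2
    have hψyS : ψ' y ∈ S := (F.le_of_mem hψ').2 y
    have hnorm : ψ' y ∈ Subgroup.normalizer (R : Set Ω) := by
      apply mem_normalizer_of_forall
      · intro t ht
        have := hconj y hyN.2 ⟨t, ht⟩
        rw [this]
        exact Subtype.property _
      · intro t ht
        have h1 := hconj y⁻¹ hyN' ⟨t, ht⟩
        rw [map_inv, inv_inv] at h1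
        rw [h1]
        exact Subtype.property _
    refine mem_plus.mpr ⟨⟨hψyS, hnorm⟩, ?_⟩
    have e2 : Subgroup.normalizerMonoidHom R ⟨ψ' y, hnorm⟩ =
        β * Subgroup.normalizerMonoidHom R ⟨y, hyN.2⟩ * β⁻¹ := by
      apply MulEquiv.ext; intro r
      apply Subtype.ext
      exact hconj y hyN.2 r
    rw [e2]
    exact conj_mem_pcOf hβ hyO
  have hinj : Function.Injective ψ' := F.injective_of_mem hψ'
  haveI : Finite ↥(plus p F R) := finite_of_le ((plus_le p F R).trans inf_le_left)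
  have hrange : ψ'.range = plus p F R := by
    apply Subgroup.eq_of_le_of_card_ge
    · rintro _ ⟨y, rfl⟩; exact hval y
    · exact (Nat.card_congr (MonoidHom.ofInjective hinj).toEquiv).le
  refine ⟨Lib.Helper87.FSBasic.autOfMap ψ' hinj hrange,
    Lib.Helper87.FSBasic.autOfMap_mem F hψ' hrange, fun x hx => ?_⟩
  rw [Lib.Helper87.FSBasic.autOfMap_coe]
  exact hagree x hx

theorem ExtAll.to_plus [Finite S] {p : ℕ} [Fact p.Prime] (hS : IsPGroup p S) {F : FusionSystem S}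
    {Q R : Subgroup Ω} (h : ExtAll F Q R) (hfa : F.IsFullyAutomized p R)
    (hrec : F.IsReceptive R) : ExtAll F Q (plus p F R) := by
  have hRp : R ≤ plus p F R := le_plus hS F hfa.1
  refine ⟨h.1.trans hRp, fun α hα => ?_⟩
  obtain ⟨β, hβ, hβα⟩ := h.2 α hα
  obtain ⟨β', hβ', hβ'β⟩ := ext_plus hS F hfa hrec hβ
  refine ⟨β', hβ', fun x hx => ?_⟩
  have h1 := hβ'β ⟨x, h.1 x.2⟩ hx
  rw [← hβα x (h.1 x.2)]
  exact h1

theorem centric_radical_of_plus_le [Finite S] {p : ℕ} [Fact p.Prime] (hS : IsPGroup p S)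
    (F : FusionSystem S) {R : Subgroup Ω} (hfa : F.IsFullyAutomized p R) (hrec : F.IsReceptive R)
    (h : plus p F R ≤ R) : F.IsCentric R ∧ F.IsRadical p R := by
  have hR := hfa.1
  refine ⟨centric_of_receptive F hrec ((cent_le_plus p F R).trans h), hR, ?_⟩
  apply le_antisymm
  · intro κ hκ
    have h1 := pc_le_autS hfa hκ
    obtain ⟨n, hnS, hnκ⟩ := (mem_autInducedBy_iff_normalizer S R _).mp h1
    have hnp : (n : Ω) ∈ plus p F R := mem_plus.mpr ⟨⟨hnS, n.2⟩, by rw [← hnκ] at hκ; exact hκ⟩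
    have hnR := h hnp
    refine ⟨⟨n, hnR⟩, ?_⟩
    show MulAut.conj ⟨(n : Ω), hnR⟩ = κ
    rw [← hnκ]
    ext x
    rfl
  · rintro _ ⟨t, rfl⟩
    exact conj_mem_pc hS F hR t

theorem autGroup_normSys_eq (F : FusionSystem S) {Q R : Subgroup Ω} (hR : R ≤ S)
    (h : ExtAll F Q R) (N : FusionSystem (normalizerIn S R)) (hN : F.IsNormalizerSystem R N) :
    N.autGroup Q = F.autGroup Q := by
  have hQS : Q ≤ S := h.1.trans hR
  have hRN : R ≤ normalizerIn S R := fun x hx => ⟨hR hx, Subgroup.le_normalizer hx⟩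
  have hQN : Q ≤ normalizerIn S R := h.1.trans hRN
  apply le_antisymm
  · apply Subgroup.closure_mono
    intro α hα
    have h1 : Q.subtype.comp α.toMonoidHom ∈ F.normalizerHom R Q := by rw [← hN Q]; exact hα
    exact h1.1
  · intro α hα
    rw [mem_autGroup_iff N hQN, hN Q]
    obtain ⟨β, hβ, hβα⟩ := h.2 α hα
    have hφ : Q.subtype.comp α.toMonoidHom ∈ F.Hom Q := (mem_autGroup_iff F hQS α).mp hα
    have hβ' : R.subtype.comp β.toMonoidHom ∈ F.Hom R := (mem_autGroup_iff F hR β).mp hβ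
    have hle : Q ⊔ R ≤ R := sup_le h.1 le_rfl
    refine ⟨hφ, hQN, fun x => hQN (α x).2,
      (R.subtype.comp β.toMonoidHom).comp (Subgroup.inclusion hle), restrict_mem F hβ' hle,
      fun x => hβα x _, ?_⟩
    ext y
    constructor
    · rintro ⟨z, -, rfl⟩
      exact (β (Subgroup.inclusion hle z)).2
    · intro hy
      refine ⟨⟨(β⁻¹ ⟨y, hy⟩ : R), Subgroup.mem_sup_right (β⁻¹ ⟨y, hy⟩).2⟩,
        Subgroup.mem_subgroupOf.mpr (β⁻¹ ⟨y, hy⟩).2, ?_⟩
      show ((β (β⁻¹ ⟨y, hy⟩) : R) : Ω) = y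
      rw [MulAut.apply_inv_self]

/-- If the normalizer systems of the fully normalized centric radical subgroups are `p`-stable, so is the system. -/
theorem pstable_of_radical [Finite S] (p : ℕ) [Fact p.Prime] (hS : IsPGroup p S)
    (F : FusionSystem S) (hF : F.IsSaturated p)
    (H : ∀ R, F.IsFullyNormalized R → F.IsCentric R → F.IsRadical p R →
      ∀ N : FusionSystem (normalizerIn S R), F.IsNormalizerSystem R N →
        ∀ Q, N.IsFullyNormalized Q → PStabAt p N Q)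
    {Q : Subgroup Ω} (hQ : Q ≤ S) : PStabAt p F Q := by
  obtain ⟨PP, hPP⟩ : ∃ PP : Set (Subgroup Ω), PP = {R | R ≤ S ∧ ∃ (Q' : Subgroup Ω) (f : Q ≃* Q'),
      IsIso F f ∧ ExtAll F Q' R} := ⟨_, rfl⟩
  have hfin : PP.Finite := (finite_le S).subset (fun R hR => by rw [hPP] at hR; exact hR.1)
  have hne : PP.Nonempty := by
    refine ⟨Q, ?_⟩
    rw [hPP]
    exact ⟨hQ, Q, MulEquiv.refl Q, hom_congr F (subtype_mem F hQ) (fun _ => rfl), ExtAll.refl F Q⟩
  obtain ⟨R, hRPP, hmax⟩ := Set.exists_max_image PP (fun R => Nat.card R) hfin hne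
  rw [hPP] at hRPP
  obtain ⟨hRS, Q', f, hf, hext⟩ := hRPP
  obtain ⟨R₁, hconj, hfn⟩ := Cfsg.Agent.S5077.exists_fullyNormalized F hRS
  obtain ⟨e, he⟩ := exists_isIso_of_isConj F hconj
  obtain ⟨Q₁, f₁, hf₁, hext₁⟩ := hext.transport F he
  have hsat := (Cfsg.Agent.S5077.result p hS F).mp hF
  have hfa : F.IsFullyAutomized p R₁ := (hsat.1 R₁ hfn).2
  have hrec : F.IsReceptive R₁ := hsat.2 R₁ (hsat.1 R₁ hfn).1
  have hplus : ExtAll F Q₁ (plus p F R₁) := hext₁.to_plus hS hfa hrec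
  have hplusS : plus p F R₁ ≤ S := (plus_le p F R₁).trans inf_le_left
  have hplusPP : plus p F R₁ ∈ PP := by
    rw [hPP]
    exact ⟨hplusS, Q₁, f.trans f₁, isIso_trans F hf hf₁, hplus⟩
  have hcard : Nat.card ↥(plus p F R₁) ≤ Nat.card R := hmax _ hplusPP
  have hcardR : Nat.card R = Nat.card R₁ := Nat.card_congr e.toEquiv
  haveI : Finite ↥(plus p F R₁) := finite_of_le hplusS
  have hle : plus p F R₁ ≤ R₁ := by
    have h1 : R₁ = plus p F R₁ :=
      Subgroup.eq_of_le_of_card_ge (le_plus hS F hfn.1) (by rw [← hcardR]; exact hcard)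
    exact h1.ge
  obtain ⟨hcen, hrad⟩ := centric_radical_of_plus_le hS F hfa hrec hle
  obtain ⟨N, hN⟩ := Cfsg.Agent.S5096.result F R₁ hfn.1
  have hNst := H R₁ hfn hcen hrad N hN
  have hQ₁N : Q₁ ≤ normalizerIn S R₁ :=
    hext₁.1.trans (fun x hx => ⟨hfn.1 hx, Subgroup.le_normalizer hx⟩)
  haveI : Finite ↥(normalizerIn S R₁) := finite_of_le inf_le_left
  have h1 : PStabAt p N Q₁ := pstab_all hNst hQ₁N
  have h2 : PStabAt p F Q₁ := h1.of_eq (autGroup_normSys_eq F hfn.1 hext₁ N hN)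
  exact h2.of_iso (isIso_symm F (isIso_trans F hf hf₁))

/-- A saturated system is `p`-stable iff the normalizer systems of its fully normalized centric radical subgroups are. -/
theorem pstable_radical_iff [Finite S] (p : ℕ) [Fact p.Prime] (hS : IsPGroup p S)
    (F : FusionSystem S) (hF : F.IsSaturated p) :
    (∀ Q, F.IsFullyNormalized Q → PStabAt p F Q) ↔
      ∀ R, F.IsFullyNormalized R → F.IsCentric R → F.IsRadical p R →
        ∀ N : FusionSystem (normalizerIn S R), F.IsNormalizerSystem R N →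
          ∀ Q, N.IsFullyNormalized Q → PStabAt p N Q := by
  constructor
  · intro hst R _ _ _ N hN Q hQ
    have hQS : Q ≤ S := hQ.1.trans inf_le_left
    have hle : N.autGroup Q ≤ F.autGroup Q := by
      apply Subgroup.closure_mono
      intro α hα
      have h1 : Q.subtype.comp α.toMonoidHom ∈ F.normalizerHom R Q := by rw [← hN Q]; exact hα
      exact h1.1
    exact (pstab_all hst hQS).of_le hle
  · intro H Q hQ
    exact pstable_of_radical p hS F hF H hQ.1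

end Rad

end Cfsg.Agent.H85
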